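import Cfsg.Prelude.Def_Spor_Fi24
import Cfsg.Agent.Lib.PresCert.Cox

/-!
The presented Fischer group with twelve generators on numbered generators.
-/

set_option autoImplicit false
set_option maxRecDepth 100000

namespace CfsgLib.Fi24P

open CfsgLib.PresCert Cfsg.Spor

/-- The number of a generator. -/
def genIx : Fi24.Gen → ℕ
  | .l => 0
  | .k => 1
  | .a => 2
  | .b => 3
  | .c => 4
  | .d => 5
  | .e => 6
  | .f => 7
  | .g => 8
  | .j => 9
  | .h => 10
  | .i => 11

/-- The presentation. -/
abbrev ftData : CoxData where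
  Gen := Fi24.Gen
  ng := 12
  dflt := .l
  at' := [.l, .k, .a, .b, .c, .d, .e, .f, .g, .j, .h, .i]
  ix := genIx
  edges := Fi24.edges
  extra := Fi24.extra

theorem ft_ok : ftData.Ok where
  at_ix x := by cases x <;> rfl
  ix_lt x := by cases x <;> decide
  ix_at := by decide +kernel
  node := by decide +kernel

/-- The generators by number. -/
abbrev ftGen : ℕ → Cfsg.Spor.Fi24 := ftData.gen

theorem ftGen_sq : ∀ g, g < 12 → ftGen g * ftGen g = 1 :=
  fun _ hg => CoxData.gen_sq ft_ok hg

theorem closure_all : genGrp ((List.range 12).map fun g => [g]) ftGen = ⊤ :=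
  CoxData.closure_gens ft_ok

/-- The pairs of generators that do not commute. -/
def braidList : List (ℕ × ℕ) :=
  [(0, 1), (1, 2), (2, 3), (3, 4), (4, 5), (5, 6), (5, 10), (6, 7), (7, 8), (8, 9), (10, 11)]

/-- The pairs of generators that commute. -/
def commList : List (ℕ × ℕ) :=
  [(0, 2), (0, 3), (0, 4), (0, 5), (0, 6), (0, 7), (0, 8), (0, 9), (0, 10), (0, 11), (1, 3),
    (1, 4), (1, 5), (1, 6), (1, 7), (1, 8), (1, 9), (1, 10), (1, 11), (2, 4), (2, 5), (2, 6),
    (2, 7), (2, 8), (2, 9), (2, 10), (2, 11), (3, 5), (3, 6), (3, 7), (3, 8), (3, 9), (3, 10),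
    (3, 11), (4, 6), (4, 7), (4, 8), (4, 9), (4, 10), (4, 11), (5, 7), (5, 8), (5, 9), (5, 11),
    (6, 8), (6, 9), (6, 10), (6, 11), (7, 9), (7, 10), (7, 11), (8, 10), (8, 11), (9, 10),
    (9, 11)]

/-- The product whose ninth power is the first generator. -/
def wordV : List ℕ := [2, 3, 4, 5, 6, 7, 10]

/-- The product whose seventeenth power is trivial. -/
def wordU : List ℕ := [11, 10, 5, 9, 8, 7, 6, 5, 0, 1, 2, 3, 4, 5]

/-- The short relations. -/
def relShort : List (List ℕ) :=
  (List.range 12).map (fun g => [g, g]) ++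
    commList.flatMap (fun p => [[p.1, p.2, p.1, p.2], [p.2, p.1, p.2, p.1]]) ++
    braidList.flatMap fun p => [[p.1, p.2, p.1, p.2, p.1, p.2], [p.2, p.1, p.2, p.1, p.2, p.1]]

/-- The first further relation. -/
def relNine : List ℕ := (List.replicate 9 wordV).flatten ++ [0]

/-- The second further relation. -/
def relSeventeen : List ℕ := (List.replicate 17 wordU).flatten

/-- The relations. -/
def relData : List (List ℕ) := relShort ++ [relNine, relSeventeen]

theorem rels_covered : ftData.covered relData = true := by decide +kernel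

theorem rel_act {w : List ℕ} (hw : w ∈ ftData.rels) : act ftGen w = 1 :=
  CoxData.rels_act ft_ok w hw

theorem relData_rels : (relData.all fun w =>
    ftData.rels.contains w || ftData.rels.contains w.reverse) = true := by decide +kernel

theorem relData_act {w : List ℕ} (hw : w ∈ relData) : act ftGen w = 1 := by
  have h := List.all_eq_true.1 relData_rels w hw
  simp only [Bool.or_eq_true, List.contains_iff_mem] at h
  rcases h with h | h
  · exact rel_act h
  · have h2 := rel_act h
    have hlt : relData.all (fun w => w.all fun g => Nat.blt g 12) = true := by decide +kernel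
    rw [act_reverse (ng := 12) ftGen_sq (fun g hg => Nat.blt_eq.mp (List.all_eq_true.1
      (List.all_eq_true.1 hlt w hw) g hg)), inv_eq_one] at h2
    exact h2

/-- Commuting generators. -/
theorem gen_comm {g h : ℕ} (hm : (g, h) ∈ commList) : ftGen g * ftGen h = ftGen h * ftGen g := by
  have hlt : commList.all (fun p => Nat.blt p.1 12 && Nat.blt p.2 12) = true := by decide +kernel
  have hl := List.all_eq_true.1 hlt _ hm
  simp only [Bool.and_eq_true, Nat.blt_eq] at hl
  have h1 := relData_act (w := [g, h, g, h]) (List.mem_append_left _ (List.mem_append_left _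
    (List.mem_append_right _ (List.mem_flatMap.2 ⟨_, hm, by simp⟩))))
  simp only [act_cons, act_nil, one_mul] at h1
  calc ftGen g * ftGen h = (ftGen h * ftGen g * ftGen h * ftGen g) * (ftGen g * ftGen h) := by
        rw [h1, one_mul]
    _ = ftGen h * ftGen g * ftGen h * (ftGen g * ftGen g) * ftGen h := by group
    _ = ftGen h * ftGen g := by rw [ftGen_sq g hl.1, mul_one, mul_assoc _ (ftGen h), ftGen_sq h hl.2, mul_one]

/-- Braided generators. -/
theorem gen_braid {g h : ℕ} (hm : (g, h) ∈ braidList) :
    ftGen g * ftGen h * ftGen g = ftGen h * ftGen g * ftGen h := by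
  have hlt : braidList.all (fun p => Nat.blt p.1 12 && Nat.blt p.2 12) = true := by decide +kernel
  have hl := List.all_eq_true.1 hlt _ hm
  simp only [Bool.and_eq_true, Nat.blt_eq] at hl
  have h1 := relData_act (w := [h, g, h, g, h, g]) (List.mem_append_left _ (List.mem_append_right _
    (List.mem_flatMap.2 ⟨_, hm, by simp⟩)))
  simp only [act_cons, act_nil, one_mul] at h1
  have hg := ftGen_sq g hl.1
  have hh := ftGen_sq h hl.2
  calc ftGen g * ftGen h * ftGen g
      = (ftGen g * ftGen h * ftGen g * ftGen h * ftGen g * ftGen h) * (ftGen h * ftGen g * ftGen h) := by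
        have e : ∀ a b : Cfsg.Spor.Fi24, a * a = 1 → b * b = 1 →
            a * b * a * b * a * b * (b * a * b) = a * b * a := fun a b ha hb => by
          calc a * b * a * b * a * b * (b * a * b) = a * b * a * b * (a * (b * b) * a) * b := by group
            _ = a * b * a := by rw [hb, mul_one, ha, mul_one, mul_assoc _ b, hb, mul_one]
        exact (e _ _ hg hh).symm
    _ = ftGen h * ftGen g * ftGen h := by rw [h1, one_mul]

end CfsgLib.Fi24P
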