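import Cfsg.Agent.Lib.Fi24P.RowData0
import Cfsg.Agent.Lib.Fi24P.RowData1
import Cfsg.Agent.Lib.Fi24P.RowData2
import Cfsg.Agent.Lib.Fi24P.RowData3
import Cfsg.Agent.Lib.Fi24P.RowData4
import Cfsg.Agent.Lib.Fi24P.RowData5

/-!
# The packed table on 306936 points (generated)
-/

set_option autoImplicit false
set_option maxRecDepth 100000

namespace CfsgLib.Fi24P

/-- A choice of packed blocks. -/
noncomputable def rowSel1 (i : ℕ) : ℕ :=
  (Bool.rec (motive := fun _ => ℕ) rowBlk1198
    rowBlk1197 (Nat.blt i 306688))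

/-- A choice of packed blocks. -/
noncomputable def rowSel2 (i : ℕ) : ℕ :=
  (Bool.rec (motive := fun _ => ℕ) (Bool.rec (motive := fun _ => ℕ) (rowSel1 i)
    rowBlk1196 (Nat.blt i 306432))
    (Bool.rec (motive := fun _ => ℕ) rowBlk1195
    rowBlk1194 (Nat.blt i 305920)) (Nat.blt i 306176))

/-- A choice of packed blocks. -/
noncomputable def rowSel3 (i : ℕ) : ℕ :=
  (Bool.rec (motive := fun _ => ℕ) rowBlk1193
    rowBlk1192 (Nat.blt i 305408))

/-- A choice of packed blocks. -/
noncomputable def rowSel4 (i : ℕ) : ℕ :=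
  (Bool.rec (motive := fun _ => ℕ) (Bool.rec (motive := fun _ => ℕ) (rowSel3 i)
    rowBlk1191 (Nat.blt i 305152))
    (Bool.rec (motive := fun _ => ℕ) rowBlk1190
    rowBlk1189 (Nat.blt i 304640)) (Nat.blt i 304896))

/-- A choice of packed blocks. -/
noncomputable def rowSel5 (i : ℕ) : ℕ :=
  (Bool.rec (motive := fun _ => ℕ) rowBlk1188
    rowBlk1187 (Nat.blt i 304128))

/-- A choice of packed blocks. -/
noncomputable def rowSel6 (i : ℕ) : ℕ :=
  (Bool.rec (motive := fun _ => ℕ) (Bool.rec (motive := fun _ => ℕ) (rowSel5 i)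
    rowBlk1186 (Nat.blt i 303872))
    (Bool.rec (motive := fun _ => ℕ) rowBlk1185
    rowBlk1184 (Nat.blt i 303360)) (Nat.blt i 303616))

/-- A choice of packed blocks. -/
noncomputable def rowSel7 (i : ℕ) : ℕ :=
  (Bool.rec (motive := fun _ => ℕ) (Bool.rec (motive := fun _ => ℕ) rowBlk1183
    rowBlk1182 (Nat.blt i 302848))
    (Bool.rec (motive := fun _ => ℕ) rowBlk1181
    rowBlk1180 (Nat.blt i 302336)) (Nat.blt i 302592))

/-- A choice of packed blocks. -/
noncomputable def rowSel8 (i : ℕ) : ℕ :=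
  (Bool.rec (motive := fun _ => ℕ) (Bool.rec (motive := fun _ => ℕ) (rowSel2 i)
    (rowSel4 i) (Nat.blt i 305664))
    (Bool.rec (motive := fun _ => ℕ) (rowSel6 i)
    (rowSel7 i) (Nat.blt i 303104)) (Nat.blt i 304384))

/-- A choice of packed blocks. -/
noncomputable def rowSel9 (i : ℕ) : ℕ :=
  (Bool.rec (motive := fun _ => ℕ) rowBlk1179
    rowBlk1178 (Nat.blt i 301824))

/-- A choice of packed blocks. -/
noncomputable def rowSel10 (i : ℕ) : ℕ :=
  (Bool.rec (motive := fun _ => ℕ) (Bool.rec (motive := fun _ => ℕ) (rowSel9 i)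
    rowBlk1177 (Nat.blt i 301568))
    (Bool.rec (motive := fun _ => ℕ) rowBlk1176
    rowBlk1175 (Nat.blt i 301056)) (Nat.blt i 301312))

/-- A choice of packed blocks. -/
noncomputable def rowSel11 (i : ℕ) : ℕ :=
  (Bool.rec (motive := fun _ => ℕ) rowBlk1174
    rowBlk1173 (Nat.blt i 300544))

/-- A choice of packed blocks. -/
noncomputable def rowSel12 (i : ℕ) : ℕ :=
  (Bool.rec (motive := fun _ => ℕ) (Bool.rec (motive := fun _ => ℕ) (rowSel11 i)
    rowBlk1172 (Nat.blt i 300288))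
    (Bool.rec (motive := fun _ => ℕ) rowBlk1171
    rowBlk1170 (Nat.blt i 299776)) (Nat.blt i 300032))

/-- A choice of packed blocks. -/
noncomputable def rowSel13 (i : ℕ) : ℕ :=
  (Bool.rec (motive := fun _ => ℕ) rowBlk1169
    rowBlk1168 (Nat.blt i 299264))

/-- A choice of packed blocks. -/
noncomputable def rowSel14 (i : ℕ) : ℕ :=
  (Bool.rec (motive := fun _ => ℕ) (Bool.rec (motive := fun _ => ℕ) (rowSel13 i)
    rowBlk1167 (Nat.blt i 299008))
    (Bool.rec (motive := fun _ => ℕ) rowBlk1166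
    rowBlk1165 (Nat.blt i 298496)) (Nat.blt i 298752))

/-- A choice of packed blocks. -/
noncomputable def rowSel15 (i : ℕ) : ℕ :=
  (Bool.rec (motive := fun _ => ℕ) (Bool.rec (motive := fun _ => ℕ) rowBlk1164
    rowBlk1163 (Nat.blt i 297984))
    (Bool.rec (motive := fun _ => ℕ) rowBlk1162
    rowBlk1161 (Nat.blt i 297472)) (Nat.blt i 297728))

/-- A choice of packed blocks. -/
noncomputable def rowSel16 (i : ℕ) : ℕ :=
  (Bool.rec (motive := fun _ => ℕ) (Bool.rec (motive := fun _ => ℕ) (rowSel10 i)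
    (rowSel12 i) (Nat.blt i 300800))
    (Bool.rec (motive := fun _ => ℕ) (rowSel14 i)
    (rowSel15 i) (Nat.blt i 298240)) (Nat.blt i 299520))

/-- A choice of packed blocks. -/
noncomputable def rowSel17 (i : ℕ) : ℕ :=
  (Bool.rec (motive := fun _ => ℕ) rowBlk1160
    rowBlk1159 (Nat.blt i 296960))

/-- A choice of packed blocks. -/
noncomputable def rowSel18 (i : ℕ) : ℕ :=
  (Bool.rec (motive := fun _ => ℕ) (Bool.rec (motive := fun _ => ℕ) (rowSel17 i)
    rowBlk1158 (Nat.blt i 296704))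
    (Bool.rec (motive := fun _ => ℕ) rowBlk1157
    rowBlk1156 (Nat.blt i 296192)) (Nat.blt i 296448))

/-- A choice of packed blocks. -/
noncomputable def rowSel19 (i : ℕ) : ℕ :=
  (Bool.rec (motive := fun _ => ℕ) rowBlk1155
    rowBlk1154 (Nat.blt i 295680))

/-- A choice of packed blocks. -/
noncomputable def rowSel20 (i : ℕ) : ℕ :=
  (Bool.rec (motive := fun _ => ℕ) (Bool.rec (motive := fun _ => ℕ) (rowSel19 i)
    rowBlk1153 (Nat.blt i 295424))
    (Bool.rec (motive := fun _ => ℕ) rowBlk1152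
    rowBlk1151 (Nat.blt i 294912)) (Nat.blt i 295168))

/-- A choice of packed blocks. -/
noncomputable def rowSel21 (i : ℕ) : ℕ :=
  (Bool.rec (motive := fun _ => ℕ) rowBlk1150
    rowBlk1149 (Nat.blt i 294400))

/-- A choice of packed blocks. -/
noncomputable def rowSel22 (i : ℕ) : ℕ :=
  (Bool.rec (motive := fun _ => ℕ) (Bool.rec (motive := fun _ => ℕ) (rowSel21 i)
    rowBlk1148 (Nat.blt i 294144))
    (Bool.rec (motive := fun _ => ℕ) rowBlk1147
    rowBlk1146 (Nat.blt i 293632)) (Nat.blt i 293888))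

/-- A choice of packed blocks. -/
noncomputable def rowSel23 (i : ℕ) : ℕ :=
  (Bool.rec (motive := fun _ => ℕ) (Bool.rec (motive := fun _ => ℕ) rowBlk1145
    rowBlk1144 (Nat.blt i 293120))
    (Bool.rec (motive := fun _ => ℕ) rowBlk1143
    rowBlk1142 (Nat.blt i 292608)) (Nat.blt i 292864))

/-- A choice of packed blocks. -/
noncomputable def rowSel24 (i : ℕ) : ℕ :=
  (Bool.rec (motive := fun _ => ℕ) (Bool.rec (motive := fun _ => ℕ) (rowSel18 i)
    (rowSel20 i) (Nat.blt i 295936))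
    (Bool.rec (motive := fun _ => ℕ) (rowSel22 i)
    (rowSel23 i) (Nat.blt i 293376)) (Nat.blt i 294656))

/-- A choice of packed blocks. -/
noncomputable def rowSel25 (i : ℕ) : ℕ :=
  (Bool.rec (motive := fun _ => ℕ) rowBlk1141
    rowBlk1140 (Nat.blt i 292096))

/-- A choice of packed blocks. -/
noncomputable def rowSel26 (i : ℕ) : ℕ :=
  (Bool.rec (motive := fun _ => ℕ) (Bool.rec (motive := fun _ => ℕ) (rowSel25 i)
    rowBlk1139 (Nat.blt i 291840))
    (Bool.rec (motive := fun _ => ℕ) rowBlk1138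
    rowBlk1137 (Nat.blt i 291328)) (Nat.blt i 291584))

/-- A choice of packed blocks. -/
noncomputable def rowSel27 (i : ℕ) : ℕ :=
  (Bool.rec (motive := fun _ => ℕ) (Bool.rec (motive := fun _ => ℕ) rowBlk1136
    rowBlk1135 (Nat.blt i 290816))
    (Bool.rec (motive := fun _ => ℕ) rowBlk1134
    rowBlk1133 (Nat.blt i 290304)) (Nat.blt i 290560))

/-- A choice of packed blocks. -/
noncomputable def rowSel28 (i : ℕ) : ℕ :=
  (Bool.rec (motive := fun _ => ℕ) rowBlk1132
    rowBlk1131 (Nat.blt i 289792))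

/-- A choice of packed blocks. -/
noncomputable def rowSel29 (i : ℕ) : ℕ :=
  (Bool.rec (motive := fun _ => ℕ) (Bool.rec (motive := fun _ => ℕ) (rowSel28 i)
    rowBlk1130 (Nat.blt i 289536))
    (Bool.rec (motive := fun _ => ℕ) rowBlk1129
    rowBlk1128 (Nat.blt i 289024)) (Nat.blt i 289280))

/-- A choice of packed blocks. -/
noncomputable def rowSel30 (i : ℕ) : ℕ :=
  (Bool.rec (motive := fun _ => ℕ) (Bool.rec (motive := fun _ => ℕ) rowBlk1127
    rowBlk1126 (Nat.blt i 288512))
    (Bool.rec (motive := fun _ => ℕ) rowBlk1125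
    rowBlk1124 (Nat.blt i 288000)) (Nat.blt i 288256))

/-- A choice of packed blocks. -/
noncomputable def rowSel31 (i : ℕ) : ℕ :=
  (Bool.rec (motive := fun _ => ℕ) (Bool.rec (motive := fun _ => ℕ) (rowSel26 i)
    (rowSel27 i) (Nat.blt i 291072))
    (Bool.rec (motive := fun _ => ℕ) (rowSel29 i)
    (rowSel30 i) (Nat.blt i 288768)) (Nat.blt i 290048))

/-- A choice of packed blocks. -/
noncomputable def rowSel32 (i : ℕ) : ℕ :=
  (Bool.rec (motive := fun _ => ℕ) (Bool.rec (motive := fun _ => ℕ) (rowSel8 i)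
    (rowSel16 i) (Nat.blt i 302080))
    (Bool.rec (motive := fun _ => ℕ) (rowSel24 i)
    (rowSel31 i) (Nat.blt i 292352)) (Nat.blt i 297216))

/-- A choice of packed blocks. -/
noncomputable def rowSel33 (i : ℕ) : ℕ :=
  (Bool.rec (motive := fun _ => ℕ) rowBlk1123
    rowBlk1122 (Nat.blt i 287488))

/-- A choice of packed blocks. -/
noncomputable def rowSel34 (i : ℕ) : ℕ :=
  (Bool.rec (motive := fun _ => ℕ) (Bool.rec (motive := fun _ => ℕ) (rowSel33 i)
    rowBlk1121 (Nat.blt i 287232))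
    (Bool.rec (motive := fun _ => ℕ) rowBlk1120
    rowBlk1119 (Nat.blt i 286720)) (Nat.blt i 286976))

/-- A choice of packed blocks. -/
noncomputable def rowSel35 (i : ℕ) : ℕ :=
  (Bool.rec (motive := fun _ => ℕ) rowBlk1118
    rowBlk1117 (Nat.blt i 286208))

/-- A choice of packed blocks. -/
noncomputable def rowSel36 (i : ℕ) : ℕ :=
  (Bool.rec (motive := fun _ => ℕ) (Bool.rec (motive := fun _ => ℕ) (rowSel35 i)
    rowBlk1116 (Nat.blt i 285952))
    (Bool.rec (motive := fun _ => ℕ) rowBlk1115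
    rowBlk1114 (Nat.blt i 285440)) (Nat.blt i 285696))

/-- A choice of packed blocks. -/
noncomputable def rowSel37 (i : ℕ) : ℕ :=
  (Bool.rec (motive := fun _ => ℕ) rowBlk1113
    rowBlk1112 (Nat.blt i 284928))

/-- A choice of packed blocks. -/
noncomputable def rowSel38 (i : ℕ) : ℕ :=
  (Bool.rec (motive := fun _ => ℕ) (Bool.rec (motive := fun _ => ℕ) (rowSel37 i)
    rowBlk1111 (Nat.blt i 284672))
    (Bool.rec (motive := fun _ => ℕ) rowBlk1110
    rowBlk1109 (Nat.blt i 284160)) (Nat.blt i 284416))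

/-- A choice of packed blocks. -/
noncomputable def rowSel39 (i : ℕ) : ℕ :=
  (Bool.rec (motive := fun _ => ℕ) (Bool.rec (motive := fun _ => ℕ) rowBlk1108
    rowBlk1107 (Nat.blt i 283648))
    (Bool.rec (motive := fun _ => ℕ) rowBlk1106
    rowBlk1105 (Nat.blt i 283136)) (Nat.blt i 283392))

/-- A choice of packed blocks. -/
noncomputable def rowSel40 (i : ℕ) : ℕ :=
  (Bool.rec (motive := fun _ => ℕ) (Bool.rec (motive := fun _ => ℕ) (rowSel34 i)
    (rowSel36 i) (Nat.blt i 286464))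
    (Bool.rec (motive := fun _ => ℕ) (rowSel38 i)
    (rowSel39 i) (Nat.blt i 283904)) (Nat.blt i 285184))

/-- A choice of packed blocks. -/
noncomputable def rowSel41 (i : ℕ) : ℕ :=
  (Bool.rec (motive := fun _ => ℕ) rowBlk1104
    rowBlk1103 (Nat.blt i 282624))

/-- A choice of packed blocks. -/
noncomputable def rowSel42 (i : ℕ) : ℕ :=
  (Bool.rec (motive := fun _ => ℕ) (Bool.rec (motive := fun _ => ℕ) (rowSel41 i)
    rowBlk1102 (Nat.blt i 282368))
    (Bool.rec (motive := fun _ => ℕ) rowBlk1101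
    rowBlk1100 (Nat.blt i 281856)) (Nat.blt i 282112))

/-- A choice of packed blocks. -/
noncomputable def rowSel43 (i : ℕ) : ℕ :=
  (Bool.rec (motive := fun _ => ℕ) rowBlk1099
    rowBlk1098 (Nat.blt i 281344))

/-- A choice of packed blocks. -/
noncomputable def rowSel44 (i : ℕ) : ℕ :=
  (Bool.rec (motive := fun _ => ℕ) (Bool.rec (motive := fun _ => ℕ) (rowSel43 i)
    rowBlk1097 (Nat.blt i 281088))
    (Bool.rec (motive := fun _ => ℕ) rowBlk1096
    rowBlk1095 (Nat.blt i 280576)) (Nat.blt i 280832))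

/-- A choice of packed blocks. -/
noncomputable def rowSel45 (i : ℕ) : ℕ :=
  (Bool.rec (motive := fun _ => ℕ) rowBlk1094
    rowBlk1093 (Nat.blt i 280064))

/-- A choice of packed blocks. -/
noncomputable def rowSel46 (i : ℕ) : ℕ :=
  (Bool.rec (motive := fun _ => ℕ) (Bool.rec (motive := fun _ => ℕ) (rowSel45 i)
    rowBlk1092 (Nat.blt i 279808))
    (Bool.rec (motive := fun _ => ℕ) rowBlk1091
    rowBlk1090 (Nat.blt i 279296)) (Nat.blt i 279552))

/-- A choice of packed blocks. -/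
noncomputable def rowSel47 (i : ℕ) : ℕ :=
  (Bool.rec (motive := fun _ => ℕ) (Bool.rec (motive := fun _ => ℕ) rowBlk1089
    rowBlk1088 (Nat.blt i 278784))
    (Bool.rec (motive := fun _ => ℕ) rowBlk1087
    rowBlk1086 (Nat.blt i 278272)) (Nat.blt i 278528))

/-- A choice of packed blocks. -/
noncomputable def rowSel48 (i : ℕ) : ℕ :=
  (Bool.rec (motive := fun _ => ℕ) (Bool.rec (motive := fun _ => ℕ) (rowSel42 i)
    (rowSel44 i) (Nat.blt i 281600))
    (Bool.rec (motive := fun _ => ℕ) (rowSel46 i)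
    (rowSel47 i) (Nat.blt i 279040)) (Nat.blt i 280320))

/-- A choice of packed blocks. -/
noncomputable def rowSel49 (i : ℕ) : ℕ :=
  (Bool.rec (motive := fun _ => ℕ) rowBlk1085
    rowBlk1084 (Nat.blt i 277760))

/-- A choice of packed blocks. -/
noncomputable def rowSel50 (i : ℕ) : ℕ :=
  (Bool.rec (motive := fun _ => ℕ) (Bool.rec (motive := fun _ => ℕ) (rowSel49 i)
    rowBlk1083 (Nat.blt i 277504))
    (Bool.rec (motive := fun _ => ℕ) rowBlk1082
    rowBlk1081 (Nat.blt i 276992)) (Nat.blt i 277248))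

/-- A choice of packed blocks. -/
noncomputable def rowSel51 (i : ℕ) : ℕ :=
  (Bool.rec (motive := fun _ => ℕ) rowBlk1080
    rowBlk1079 (Nat.blt i 276480))

/-- A choice of packed blocks. -/
noncomputable def rowSel52 (i : ℕ) : ℕ :=
  (Bool.rec (motive := fun _ => ℕ) (Bool.rec (motive := fun _ => ℕ) (rowSel51 i)
    rowBlk1078 (Nat.blt i 276224))
    (Bool.rec (motive := fun _ => ℕ) rowBlk1077
    rowBlk1076 (Nat.blt i 275712)) (Nat.blt i 275968))

/-- A choice of packed blocks. -/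
noncomputable def rowSel53 (i : ℕ) : ℕ :=
  (Bool.rec (motive := fun _ => ℕ) rowBlk1075
    rowBlk1074 (Nat.blt i 275200))

/-- A choice of packed blocks. -/
noncomputable def rowSel54 (i : ℕ) : ℕ :=
  (Bool.rec (motive := fun _ => ℕ) (Bool.rec (motive := fun _ => ℕ) (rowSel53 i)
    rowBlk1073 (Nat.blt i 274944))
    (Bool.rec (motive := fun _ => ℕ) rowBlk1072
    rowBlk1071 (Nat.blt i 274432)) (Nat.blt i 274688))

/-- A choice of packed blocks. -/
noncomputable def rowSel55 (i : ℕ) : ℕ :=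
  (Bool.rec (motive := fun _ => ℕ) (Bool.rec (motive := fun _ => ℕ) rowBlk1070
    rowBlk1069 (Nat.blt i 273920))
    (Bool.rec (motive := fun _ => ℕ) rowBlk1068
    rowBlk1067 (Nat.blt i 273408)) (Nat.blt i 273664))

/-- A choice of packed blocks. -/
noncomputable def rowSel56 (i : ℕ) : ℕ :=
  (Bool.rec (motive := fun _ => ℕ) (Bool.rec (motive := fun _ => ℕ) (rowSel50 i)
    (rowSel52 i) (Nat.blt i 276736))
    (Bool.rec (motive := fun _ => ℕ) (rowSel54 i)
    (rowSel55 i) (Nat.blt i 274176)) (Nat.blt i 275456))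

/-- A choice of packed blocks. -/
noncomputable def rowSel57 (i : ℕ) : ℕ :=
  (Bool.rec (motive := fun _ => ℕ) rowBlk1066
    rowBlk1065 (Nat.blt i 272896))

/-- A choice of packed blocks. -/
noncomputable def rowSel58 (i : ℕ) : ℕ :=
  (Bool.rec (motive := fun _ => ℕ) (Bool.rec (motive := fun _ => ℕ) (rowSel57 i)
    rowBlk1064 (Nat.blt i 272640))
    (Bool.rec (motive := fun _ => ℕ) rowBlk1063
    rowBlk1062 (Nat.blt i 272128)) (Nat.blt i 272384))

/-- A choice of packed blocks. -/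
noncomputable def rowSel59 (i : ℕ) : ℕ :=
  (Bool.rec (motive := fun _ => ℕ) (Bool.rec (motive := fun _ => ℕ) rowBlk1061
    rowBlk1060 (Nat.blt i 271616))
    (Bool.rec (motive := fun _ => ℕ) rowBlk1059
    rowBlk1058 (Nat.blt i 271104)) (Nat.blt i 271360))

/-- A choice of packed blocks. -/
noncomputable def rowSel60 (i : ℕ) : ℕ :=
  (Bool.rec (motive := fun _ => ℕ) rowBlk1057
    rowBlk1056 (Nat.blt i 270592))

/-- A choice of packed blocks. -/
noncomputable def rowSel61 (i : ℕ) : ℕ :=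
  (Bool.rec (motive := fun _ => ℕ) (Bool.rec (motive := fun _ => ℕ) (rowSel60 i)
    rowBlk1055 (Nat.blt i 270336))
    (Bool.rec (motive := fun _ => ℕ) rowBlk1054
    rowBlk1053 (Nat.blt i 269824)) (Nat.blt i 270080))

/-- A choice of packed blocks. -/
noncomputable def rowSel62 (i : ℕ) : ℕ :=
  (Bool.rec (motive := fun _ => ℕ) (Bool.rec (motive := fun _ => ℕ) rowBlk1052
    rowBlk1051 (Nat.blt i 269312))
    (Bool.rec (motive := fun _ => ℕ) rowBlk1050
    rowBlk1049 (Nat.blt i 268800)) (Nat.blt i 269056))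

/-- A choice of packed blocks. -/
noncomputable def rowSel63 (i : ℕ) : ℕ :=
  (Bool.rec (motive := fun _ => ℕ) (Bool.rec (motive := fun _ => ℕ) (rowSel58 i)
    (rowSel59 i) (Nat.blt i 271872))
    (Bool.rec (motive := fun _ => ℕ) (rowSel61 i)
    (rowSel62 i) (Nat.blt i 269568)) (Nat.blt i 270848))

/-- A choice of packed blocks. -/
noncomputable def rowSel64 (i : ℕ) : ℕ :=
  (Bool.rec (motive := fun _ => ℕ) (Bool.rec (motive := fun _ => ℕ) (rowSel40 i)
    (rowSel48 i) (Nat.blt i 282880))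
    (Bool.rec (motive := fun _ => ℕ) (rowSel56 i)
    (rowSel63 i) (Nat.blt i 273152)) (Nat.blt i 278016))

/-- A choice of packed blocks. -/
noncomputable def rowSel65 (i : ℕ) : ℕ :=
  (Bool.rec (motive := fun _ => ℕ) rowBlk1048
    rowBlk1047 (Nat.blt i 268288))

/-- A choice of packed blocks. -/
noncomputable def rowSel66 (i : ℕ) : ℕ :=
  (Bool.rec (motive := fun _ => ℕ) (Bool.rec (motive := fun _ => ℕ) (rowSel65 i)
    rowBlk1046 (Nat.blt i 268032))
    (Bool.rec (motive := fun _ => ℕ) rowBlk1045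
    rowBlk1044 (Nat.blt i 267520)) (Nat.blt i 267776))

/-- A choice of packed blocks. -/
noncomputable def rowSel67 (i : ℕ) : ℕ :=
  (Bool.rec (motive := fun _ => ℕ) rowBlk1043
    rowBlk1042 (Nat.blt i 267008))

/-- A choice of packed blocks. -/
noncomputable def rowSel68 (i : ℕ) : ℕ :=
  (Bool.rec (motive := fun _ => ℕ) (Bool.rec (motive := fun _ => ℕ) (rowSel67 i)
    rowBlk1041 (Nat.blt i 266752))
    (Bool.rec (motive := fun _ => ℕ) rowBlk1040
    rowBlk1039 (Nat.blt i 266240)) (Nat.blt i 266496))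

/-- A choice of packed blocks. -/
noncomputable def rowSel69 (i : ℕ) : ℕ :=
  (Bool.rec (motive := fun _ => ℕ) rowBlk1038
    rowBlk1037 (Nat.blt i 265728))

/-- A choice of packed blocks. -/
noncomputable def rowSel70 (i : ℕ) : ℕ :=
  (Bool.rec (motive := fun _ => ℕ) (Bool.rec (motive := fun _ => ℕ) (rowSel69 i)
    rowBlk1036 (Nat.blt i 265472))
    (Bool.rec (motive := fun _ => ℕ) rowBlk1035
    rowBlk1034 (Nat.blt i 264960)) (Nat.blt i 265216))

/-- A choice of packed blocks. -/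
noncomputable def rowSel71 (i : ℕ) : ℕ :=
  (Bool.rec (motive := fun _ => ℕ) (Bool.rec (motive := fun _ => ℕ) rowBlk1033
    rowBlk1032 (Nat.blt i 264448))
    (Bool.rec (motive := fun _ => ℕ) rowBlk1031
    rowBlk1030 (Nat.blt i 263936)) (Nat.blt i 264192))

/-- A choice of packed blocks. -/
noncomputable def rowSel72 (i : ℕ) : ℕ :=
  (Bool.rec (motive := fun _ => ℕ) (Bool.rec (motive := fun _ => ℕ) (rowSel66 i)
    (rowSel68 i) (Nat.blt i 267264))
    (Bool.rec (motive := fun _ => ℕ) (rowSel70 i)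
    (rowSel71 i) (Nat.blt i 264704)) (Nat.blt i 265984))

/-- A choice of packed blocks. -/
noncomputable def rowSel73 (i : ℕ) : ℕ :=
  (Bool.rec (motive := fun _ => ℕ) rowBlk1029
    rowBlk1028 (Nat.blt i 263424))

/-- A choice of packed blocks. -/
noncomputable def rowSel74 (i : ℕ) : ℕ :=
  (Bool.rec (motive := fun _ => ℕ) (Bool.rec (motive := fun _ => ℕ) (rowSel73 i)
    rowBlk1027 (Nat.blt i 263168))
    (Bool.rec (motive := fun _ => ℕ) rowBlk1026
    rowBlk1025 (Nat.blt i 262656)) (Nat.blt i 262912))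

/-- A choice of packed blocks. -/
noncomputable def rowSel75 (i : ℕ) : ℕ :=
  (Bool.rec (motive := fun _ => ℕ) rowBlk1024
    rowBlk1023 (Nat.blt i 262144))

/-- A choice of packed blocks. -/
noncomputable def rowSel76 (i : ℕ) : ℕ :=
  (Bool.rec (motive := fun _ => ℕ) (Bool.rec (motive := fun _ => ℕ) (rowSel75 i)
    rowBlk1022 (Nat.blt i 261888))
    (Bool.rec (motive := fun _ => ℕ) rowBlk1021
    rowBlk1020 (Nat.blt i 261376)) (Nat.blt i 261632))

/-- A choice of packed blocks. -/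
noncomputable def rowSel77 (i : ℕ) : ℕ :=
  (Bool.rec (motive := fun _ => ℕ) rowBlk1019
    rowBlk1018 (Nat.blt i 260864))

/-- A choice of packed blocks. -/
noncomputable def rowSel78 (i : ℕ) : ℕ :=
  (Bool.rec (motive := fun _ => ℕ) (Bool.rec (motive := fun _ => ℕ) (rowSel77 i)
    rowBlk1017 (Nat.blt i 260608))
    (Bool.rec (motive := fun _ => ℕ) rowBlk1016
    rowBlk1015 (Nat.blt i 260096)) (Nat.blt i 260352))

/-- A choice of packed blocks. -/
noncomputable def rowSel79 (i : ℕ) : ℕ :=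
  (Bool.rec (motive := fun _ => ℕ) (Bool.rec (motive := fun _ => ℕ) rowBlk1014
    rowBlk1013 (Nat.blt i 259584))
    (Bool.rec (motive := fun _ => ℕ) rowBlk1012
    rowBlk1011 (Nat.blt i 259072)) (Nat.blt i 259328))

/-- A choice of packed blocks. -/
noncomputable def rowSel80 (i : ℕ) : ℕ :=
  (Bool.rec (motive := fun _ => ℕ) (Bool.rec (motive := fun _ => ℕ) (rowSel74 i)
    (rowSel76 i) (Nat.blt i 262400))
    (Bool.rec (motive := fun _ => ℕ) (rowSel78 i)
    (rowSel79 i) (Nat.blt i 259840)) (Nat.blt i 261120))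

/-- A choice of packed blocks. -/
noncomputable def rowSel81 (i : ℕ) : ℕ :=
  (Bool.rec (motive := fun _ => ℕ) rowBlk1010
    rowBlk1009 (Nat.blt i 258560))

/-- A choice of packed blocks. -/
noncomputable def rowSel82 (i : ℕ) : ℕ :=
  (Bool.rec (motive := fun _ => ℕ) (Bool.rec (motive := fun _ => ℕ) (rowSel81 i)
    rowBlk1008 (Nat.blt i 258304))
    (Bool.rec (motive := fun _ => ℕ) rowBlk1007
    rowBlk1006 (Nat.blt i 257792)) (Nat.blt i 258048))

/-- A choice of packed blocks. -/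
noncomputable def rowSel83 (i : ℕ) : ℕ :=
  (Bool.rec (motive := fun _ => ℕ) rowBlk1005
    rowBlk1004 (Nat.blt i 257280))

/-- A choice of packed blocks. -/
noncomputable def rowSel84 (i : ℕ) : ℕ :=
  (Bool.rec (motive := fun _ => ℕ) (Bool.rec (motive := fun _ => ℕ) (rowSel83 i)
    rowBlk1003 (Nat.blt i 257024))
    (Bool.rec (motive := fun _ => ℕ) rowBlk1002
    rowBlk1001 (Nat.blt i 256512)) (Nat.blt i 256768))

/-- A choice of packed blocks. -/
noncomputable def rowSel85 (i : ℕ) : ℕ :=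
  (Bool.rec (motive := fun _ => ℕ) rowBlk1000
    rowBlk999 (Nat.blt i 256000))

/-- A choice of packed blocks. -/
noncomputable def rowSel86 (i : ℕ) : ℕ :=
  (Bool.rec (motive := fun _ => ℕ) (Bool.rec (motive := fun _ => ℕ) (rowSel85 i)
    rowBlk998 (Nat.blt i 255744))
    (Bool.rec (motive := fun _ => ℕ) rowBlk997
    rowBlk996 (Nat.blt i 255232)) (Nat.blt i 255488))

/-- A choice of packed blocks. -/
noncomputable def rowSel87 (i : ℕ) : ℕ :=
  (Bool.rec (motive := fun _ => ℕ) (Bool.rec (motive := fun _ => ℕ) rowBlk995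
    rowBlk994 (Nat.blt i 254720))
    (Bool.rec (motive := fun _ => ℕ) rowBlk993
    rowBlk992 (Nat.blt i 254208)) (Nat.blt i 254464))

/-- A choice of packed blocks. -/
noncomputable def rowSel88 (i : ℕ) : ℕ :=
  (Bool.rec (motive := fun _ => ℕ) (Bool.rec (motive := fun _ => ℕ) (rowSel82 i)
    (rowSel84 i) (Nat.blt i 257536))
    (Bool.rec (motive := fun _ => ℕ) (rowSel86 i)
    (rowSel87 i) (Nat.blt i 254976)) (Nat.blt i 256256))

/-- A choice of packed blocks. -/
noncomputable def rowSel89 (i : ℕ) : ℕ :=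
  (Bool.rec (motive := fun _ => ℕ) rowBlk991
    rowBlk990 (Nat.blt i 253696))

/-- A choice of packed blocks. -/
noncomputable def rowSel90 (i : ℕ) : ℕ :=
  (Bool.rec (motive := fun _ => ℕ) (Bool.rec (motive := fun _ => ℕ) (rowSel89 i)
    rowBlk989 (Nat.blt i 253440))
    (Bool.rec (motive := fun _ => ℕ) rowBlk988
    rowBlk987 (Nat.blt i 252928)) (Nat.blt i 253184))

/-- A choice of packed blocks. -/
noncomputable def rowSel91 (i : ℕ) : ℕ :=
  (Bool.rec (motive := fun _ => ℕ) (Bool.rec (motive := fun _ => ℕ) rowBlk986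
    rowBlk985 (Nat.blt i 252416))
    (Bool.rec (motive := fun _ => ℕ) rowBlk984
    rowBlk983 (Nat.blt i 251904)) (Nat.blt i 252160))

/-- A choice of packed blocks. -/
noncomputable def rowSel92 (i : ℕ) : ℕ :=
  (Bool.rec (motive := fun _ => ℕ) rowBlk982
    rowBlk981 (Nat.blt i 251392))

/-- A choice of packed blocks. -/
noncomputable def rowSel93 (i : ℕ) : ℕ :=
  (Bool.rec (motive := fun _ => ℕ) (Bool.rec (motive := fun _ => ℕ) (rowSel92 i)
    rowBlk980 (Nat.blt i 251136))
    (Bool.rec (motive := fun _ => ℕ) rowBlk979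
    rowBlk978 (Nat.blt i 250624)) (Nat.blt i 250880))

/-- A choice of packed blocks. -/
noncomputable def rowSel94 (i : ℕ) : ℕ :=
  (Bool.rec (motive := fun _ => ℕ) (Bool.rec (motive := fun _ => ℕ) rowBlk977
    rowBlk976 (Nat.blt i 250112))
    (Bool.rec (motive := fun _ => ℕ) rowBlk975
    rowBlk974 (Nat.blt i 249600)) (Nat.blt i 249856))

/-- A choice of packed blocks. -/
noncomputable def rowSel95 (i : ℕ) : ℕ :=
  (Bool.rec (motive := fun _ => ℕ) (Bool.rec (motive := fun _ => ℕ) (rowSel90 i)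
    (rowSel91 i) (Nat.blt i 252672))
    (Bool.rec (motive := fun _ => ℕ) (rowSel93 i)
    (rowSel94 i) (Nat.blt i 250368)) (Nat.blt i 251648))

/-- A choice of packed blocks. -/
noncomputable def rowSel96 (i : ℕ) : ℕ :=
  (Bool.rec (motive := fun _ => ℕ) (Bool.rec (motive := fun _ => ℕ) (rowSel72 i)
    (rowSel80 i) (Nat.blt i 263680))
    (Bool.rec (motive := fun _ => ℕ) (rowSel88 i)
    (rowSel95 i) (Nat.blt i 253952)) (Nat.blt i 258816))

/-- A choice of packed blocks. -/
noncomputable def rowSel97 (i : ℕ) : ℕ :=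
  (Bool.rec (motive := fun _ => ℕ) rowBlk973
    rowBlk972 (Nat.blt i 249088))

/-- A choice of packed blocks. -/
noncomputable def rowSel98 (i : ℕ) : ℕ :=
  (Bool.rec (motive := fun _ => ℕ) (Bool.rec (motive := fun _ => ℕ) (rowSel97 i)
    rowBlk971 (Nat.blt i 248832))
    (Bool.rec (motive := fun _ => ℕ) rowBlk970
    rowBlk969 (Nat.blt i 248320)) (Nat.blt i 248576))

/-- A choice of packed blocks. -/
noncomputable def rowSel99 (i : ℕ) : ℕ :=
  (Bool.rec (motive := fun _ => ℕ) rowBlk968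
    rowBlk967 (Nat.blt i 247808))

/-- A choice of packed blocks. -/
noncomputable def rowSel100 (i : ℕ) : ℕ :=
  (Bool.rec (motive := fun _ => ℕ) (Bool.rec (motive := fun _ => ℕ) (rowSel99 i)
    rowBlk966 (Nat.blt i 247552))
    (Bool.rec (motive := fun _ => ℕ) rowBlk965
    rowBlk964 (Nat.blt i 247040)) (Nat.blt i 247296))

/-- A choice of packed blocks. -/
noncomputable def rowSel101 (i : ℕ) : ℕ :=
  (Bool.rec (motive := fun _ => ℕ) rowBlk963
    rowBlk962 (Nat.blt i 246528))

/-- A choice of packed blocks. -/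
noncomputable def rowSel102 (i : ℕ) : ℕ :=
  (Bool.rec (motive := fun _ => ℕ) (Bool.rec (motive := fun _ => ℕ) (rowSel101 i)
    rowBlk961 (Nat.blt i 246272))
    (Bool.rec (motive := fun _ => ℕ) rowBlk960
    rowBlk959 (Nat.blt i 245760)) (Nat.blt i 246016))

/-- A choice of packed blocks. -/
noncomputable def rowSel103 (i : ℕ) : ℕ :=
  (Bool.rec (motive := fun _ => ℕ) (Bool.rec (motive := fun _ => ℕ) rowBlk958
    rowBlk957 (Nat.blt i 245248))
    (Bool.rec (motive := fun _ => ℕ) rowBlk956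
    rowBlk955 (Nat.blt i 244736)) (Nat.blt i 244992))

/-- A choice of packed blocks. -/
noncomputable def rowSel104 (i : ℕ) : ℕ :=
  (Bool.rec (motive := fun _ => ℕ) (Bool.rec (motive := fun _ => ℕ) (rowSel98 i)
    (rowSel100 i) (Nat.blt i 248064))
    (Bool.rec (motive := fun _ => ℕ) (rowSel102 i)
    (rowSel103 i) (Nat.blt i 245504)) (Nat.blt i 246784))

/-- A choice of packed blocks. -/
noncomputable def rowSel105 (i : ℕ) : ℕ :=
  (Bool.rec (motive := fun _ => ℕ) rowBlk954
    rowBlk953 (Nat.blt i 244224))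

/-- A choice of packed blocks. -/
noncomputable def rowSel106 (i : ℕ) : ℕ :=
  (Bool.rec (motive := fun _ => ℕ) (Bool.rec (motive := fun _ => ℕ) (rowSel105 i)
    rowBlk952 (Nat.blt i 243968))
    (Bool.rec (motive := fun _ => ℕ) rowBlk951
    rowBlk950 (Nat.blt i 243456)) (Nat.blt i 243712))

/-- A choice of packed blocks. -/
noncomputable def rowSel107 (i : ℕ) : ℕ :=
  (Bool.rec (motive := fun _ => ℕ) rowBlk949
    rowBlk948 (Nat.blt i 242944))

/-- A choice of packed blocks. -/
noncomputable def rowSel108 (i : ℕ) : ℕ :=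
  (Bool.rec (motive := fun _ => ℕ) (Bool.rec (motive := fun _ => ℕ) (rowSel107 i)
    rowBlk947 (Nat.blt i 242688))
    (Bool.rec (motive := fun _ => ℕ) rowBlk946
    rowBlk945 (Nat.blt i 242176)) (Nat.blt i 242432))

/-- A choice of packed blocks. -/
noncomputable def rowSel109 (i : ℕ) : ℕ :=
  (Bool.rec (motive := fun _ => ℕ) rowBlk944
    rowBlk943 (Nat.blt i 241664))

/-- A choice of packed blocks. -/
noncomputable def rowSel110 (i : ℕ) : ℕ :=
  (Bool.rec (motive := fun _ => ℕ) (Bool.rec (motive := fun _ => ℕ) (rowSel109 i)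
    rowBlk942 (Nat.blt i 241408))
    (Bool.rec (motive := fun _ => ℕ) rowBlk941
    rowBlk940 (Nat.blt i 240896)) (Nat.blt i 241152))

/-- A choice of packed blocks. -/
noncomputable def rowSel111 (i : ℕ) : ℕ :=
  (Bool.rec (motive := fun _ => ℕ) (Bool.rec (motive := fun _ => ℕ) rowBlk939
    rowBlk938 (Nat.blt i 240384))
    (Bool.rec (motive := fun _ => ℕ) rowBlk937
    rowBlk936 (Nat.blt i 239872)) (Nat.blt i 240128))

/-- A choice of packed blocks. -/
noncomputable def rowSel112 (i : ℕ) : ℕ :=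
  (Bool.rec (motive := fun _ => ℕ) (Bool.rec (motive := fun _ => ℕ) (rowSel106 i)
    (rowSel108 i) (Nat.blt i 243200))
    (Bool.rec (motive := fun _ => ℕ) (rowSel110 i)
    (rowSel111 i) (Nat.blt i 240640)) (Nat.blt i 241920))

/-- A choice of packed blocks. -/
noncomputable def rowSel113 (i : ℕ) : ℕ :=
  (Bool.rec (motive := fun _ => ℕ) rowBlk935
    rowBlk934 (Nat.blt i 239360))

/-- A choice of packed blocks. -/
noncomputable def rowSel114 (i : ℕ) : ℕ :=
  (Bool.rec (motive := fun _ => ℕ) (Bool.rec (motive := fun _ => ℕ) (rowSel113 i)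
    rowBlk933 (Nat.blt i 239104))
    (Bool.rec (motive := fun _ => ℕ) rowBlk932
    rowBlk931 (Nat.blt i 238592)) (Nat.blt i 238848))

/-- A choice of packed blocks. -/
noncomputable def rowSel115 (i : ℕ) : ℕ :=
  (Bool.rec (motive := fun _ => ℕ) rowBlk930
    rowBlk929 (Nat.blt i 238080))

/-- A choice of packed blocks. -/
noncomputable def rowSel116 (i : ℕ) : ℕ :=
  (Bool.rec (motive := fun _ => ℕ) (Bool.rec (motive := fun _ => ℕ) (rowSel115 i)
    rowBlk928 (Nat.blt i 237824))
    (Bool.rec (motive := fun _ => ℕ) rowBlk927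
    rowBlk926 (Nat.blt i 237312)) (Nat.blt i 237568))

/-- A choice of packed blocks. -/
noncomputable def rowSel117 (i : ℕ) : ℕ :=
  (Bool.rec (motive := fun _ => ℕ) rowBlk925
    rowBlk924 (Nat.blt i 236800))

/-- A choice of packed blocks. -/
noncomputable def rowSel118 (i : ℕ) : ℕ :=
  (Bool.rec (motive := fun _ => ℕ) (Bool.rec (motive := fun _ => ℕ) (rowSel117 i)
    rowBlk923 (Nat.blt i 236544))
    (Bool.rec (motive := fun _ => ℕ) rowBlk922
    rowBlk921 (Nat.blt i 236032)) (Nat.blt i 236288))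

/-- A choice of packed blocks. -/
noncomputable def rowSel119 (i : ℕ) : ℕ :=
  (Bool.rec (motive := fun _ => ℕ) (Bool.rec (motive := fun _ => ℕ) rowBlk920
    rowBlk919 (Nat.blt i 235520))
    (Bool.rec (motive := fun _ => ℕ) rowBlk918
    rowBlk917 (Nat.blt i 235008)) (Nat.blt i 235264))

/-- A choice of packed blocks. -/
noncomputable def rowSel120 (i : ℕ) : ℕ :=
  (Bool.rec (motive := fun _ => ℕ) (Bool.rec (motive := fun _ => ℕ) (rowSel114 i)
    (rowSel116 i) (Nat.blt i 238336))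
    (Bool.rec (motive := fun _ => ℕ) (rowSel118 i)
    (rowSel119 i) (Nat.blt i 235776)) (Nat.blt i 237056))

/-- A choice of packed blocks. -/
noncomputable def rowSel121 (i : ℕ) : ℕ :=
  (Bool.rec (motive := fun _ => ℕ) rowBlk916
    rowBlk915 (Nat.blt i 234496))

/-- A choice of packed blocks. -/
noncomputable def rowSel122 (i : ℕ) : ℕ :=
  (Bool.rec (motive := fun _ => ℕ) (Bool.rec (motive := fun _ => ℕ) (rowSel121 i)
    rowBlk914 (Nat.blt i 234240))
    (Bool.rec (motive := fun _ => ℕ) rowBlk913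
    rowBlk912 (Nat.blt i 233728)) (Nat.blt i 233984))

/-- A choice of packed blocks. -/
noncomputable def rowSel123 (i : ℕ) : ℕ :=
  (Bool.rec (motive := fun _ => ℕ) (Bool.rec (motive := fun _ => ℕ) rowBlk911
    rowBlk910 (Nat.blt i 233216))
    (Bool.rec (motive := fun _ => ℕ) rowBlk909
    rowBlk908 (Nat.blt i 232704)) (Nat.blt i 232960))

/-- A choice of packed blocks. -/
noncomputable def rowSel124 (i : ℕ) : ℕ :=
  (Bool.rec (motive := fun _ => ℕ) rowBlk907
    rowBlk906 (Nat.blt i 232192))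

/-- A choice of packed blocks. -/
noncomputable def rowSel125 (i : ℕ) : ℕ :=
  (Bool.rec (motive := fun _ => ℕ) (Bool.rec (motive := fun _ => ℕ) (rowSel124 i)
    rowBlk905 (Nat.blt i 231936))
    (Bool.rec (motive := fun _ => ℕ) rowBlk904
    rowBlk903 (Nat.blt i 231424)) (Nat.blt i 231680))

/-- A choice of packed blocks. -/
noncomputable def rowSel126 (i : ℕ) : ℕ :=
  (Bool.rec (motive := fun _ => ℕ) (Bool.rec (motive := fun _ => ℕ) rowBlk902
    rowBlk901 (Nat.blt i 230912))
    (Bool.rec (motive := fun _ => ℕ) rowBlk900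
    rowBlk899 (Nat.blt i 230400)) (Nat.blt i 230656))

/-- A choice of packed blocks. -/
noncomputable def rowSel127 (i : ℕ) : ℕ :=
  (Bool.rec (motive := fun _ => ℕ) (Bool.rec (motive := fun _ => ℕ) (rowSel122 i)
    (rowSel123 i) (Nat.blt i 233472))
    (Bool.rec (motive := fun _ => ℕ) (rowSel125 i)
    (rowSel126 i) (Nat.blt i 231168)) (Nat.blt i 232448))

/-- A choice of packed blocks. -/
noncomputable def rowSel128 (i : ℕ) : ℕ :=
  (Bool.rec (motive := fun _ => ℕ) (Bool.rec (motive := fun _ => ℕ) (rowSel104 i)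
    (rowSel112 i) (Nat.blt i 244480))
    (Bool.rec (motive := fun _ => ℕ) (rowSel120 i)
    (rowSel127 i) (Nat.blt i 234752)) (Nat.blt i 239616))

/-- A choice of packed blocks. -/
noncomputable def rowSel129 (i : ℕ) : ℕ :=
  (Bool.rec (motive := fun _ => ℕ) (Bool.rec (motive := fun _ => ℕ) (rowSel32 i)
    (rowSel64 i) (Nat.blt i 287744))
    (Bool.rec (motive := fun _ => ℕ) (rowSel96 i)
    (rowSel128 i) (Nat.blt i 249344)) (Nat.blt i 268544))

/-- A choice of packed blocks. -/
noncomputable def rowSel130 (i : ℕ) : ℕ :=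
  (Bool.rec (motive := fun _ => ℕ) rowBlk898
    rowBlk897 (Nat.blt i 229888))

/-- A choice of packed blocks. -/
noncomputable def rowSel131 (i : ℕ) : ℕ :=
  (Bool.rec (motive := fun _ => ℕ) (Bool.rec (motive := fun _ => ℕ) (rowSel130 i)
    rowBlk896 (Nat.blt i 229632))
    (Bool.rec (motive := fun _ => ℕ) rowBlk895
    rowBlk894 (Nat.blt i 229120)) (Nat.blt i 229376))

/-- A choice of packed blocks. -/
noncomputable def rowSel132 (i : ℕ) : ℕ :=
  (Bool.rec (motive := fun _ => ℕ) rowBlk893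
    rowBlk892 (Nat.blt i 228608))

/-- A choice of packed blocks. -/
noncomputable def rowSel133 (i : ℕ) : ℕ :=
  (Bool.rec (motive := fun _ => ℕ) (Bool.rec (motive := fun _ => ℕ) (rowSel132 i)
    rowBlk891 (Nat.blt i 228352))
    (Bool.rec (motive := fun _ => ℕ) rowBlk890
    rowBlk889 (Nat.blt i 227840)) (Nat.blt i 228096))

/-- A choice of packed blocks. -/
noncomputable def rowSel134 (i : ℕ) : ℕ :=
  (Bool.rec (motive := fun _ => ℕ) rowBlk888
    rowBlk887 (Nat.blt i 227328))

/-- A choice of packed blocks. -/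
noncomputable def rowSel135 (i : ℕ) : ℕ :=
  (Bool.rec (motive := fun _ => ℕ) (Bool.rec (motive := fun _ => ℕ) (rowSel134 i)
    rowBlk886 (Nat.blt i 227072))
    (Bool.rec (motive := fun _ => ℕ) rowBlk885
    rowBlk884 (Nat.blt i 226560)) (Nat.blt i 226816))

/-- A choice of packed blocks. -/
noncomputable def rowSel136 (i : ℕ) : ℕ :=
  (Bool.rec (motive := fun _ => ℕ) (Bool.rec (motive := fun _ => ℕ) rowBlk883
    rowBlk882 (Nat.blt i 226048))
    (Bool.rec (motive := fun _ => ℕ) rowBlk881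
    rowBlk880 (Nat.blt i 225536)) (Nat.blt i 225792))

/-- A choice of packed blocks. -/
noncomputable def rowSel137 (i : ℕ) : ℕ :=
  (Bool.rec (motive := fun _ => ℕ) (Bool.rec (motive := fun _ => ℕ) (rowSel131 i)
    (rowSel133 i) (Nat.blt i 228864))
    (Bool.rec (motive := fun _ => ℕ) (rowSel135 i)
    (rowSel136 i) (Nat.blt i 226304)) (Nat.blt i 227584))

/-- A choice of packed blocks. -/
noncomputable def rowSel138 (i : ℕ) : ℕ :=
  (Bool.rec (motive := fun _ => ℕ) rowBlk879
    rowBlk878 (Nat.blt i 225024))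

/-- A choice of packed blocks. -/
noncomputable def rowSel139 (i : ℕ) : ℕ :=
  (Bool.rec (motive := fun _ => ℕ) (Bool.rec (motive := fun _ => ℕ) (rowSel138 i)
    rowBlk877 (Nat.blt i 224768))
    (Bool.rec (motive := fun _ => ℕ) rowBlk876
    rowBlk875 (Nat.blt i 224256)) (Nat.blt i 224512))

/-- A choice of packed blocks. -/
noncomputable def rowSel140 (i : ℕ) : ℕ :=
  (Bool.rec (motive := fun _ => ℕ) rowBlk874
    rowBlk873 (Nat.blt i 223744))

/-- A choice of packed blocks. -/
noncomputable def rowSel141 (i : ℕ) : ℕ :=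
  (Bool.rec (motive := fun _ => ℕ) (Bool.rec (motive := fun _ => ℕ) (rowSel140 i)
    rowBlk872 (Nat.blt i 223488))
    (Bool.rec (motive := fun _ => ℕ) rowBlk871
    rowBlk870 (Nat.blt i 222976)) (Nat.blt i 223232))

/-- A choice of packed blocks. -/
noncomputable def rowSel142 (i : ℕ) : ℕ :=
  (Bool.rec (motive := fun _ => ℕ) rowBlk869
    rowBlk868 (Nat.blt i 222464))

/-- A choice of packed blocks. -/
noncomputable def rowSel143 (i : ℕ) : ℕ :=
  (Bool.rec (motive := fun _ => ℕ) (Bool.rec (motive := fun _ => ℕ) (rowSel142 i)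
    rowBlk867 (Nat.blt i 222208))
    (Bool.rec (motive := fun _ => ℕ) rowBlk866
    rowBlk865 (Nat.blt i 221696)) (Nat.blt i 221952))

/-- A choice of packed blocks. -/
noncomputable def rowSel144 (i : ℕ) : ℕ :=
  (Bool.rec (motive := fun _ => ℕ) (Bool.rec (motive := fun _ => ℕ) rowBlk864
    rowBlk863 (Nat.blt i 221184))
    (Bool.rec (motive := fun _ => ℕ) rowBlk862
    rowBlk861 (Nat.blt i 220672)) (Nat.blt i 220928))

/-- A choice of packed blocks. -/
noncomputable def rowSel145 (i : ℕ) : ℕ :=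
  (Bool.rec (motive := fun _ => ℕ) (Bool.rec (motive := fun _ => ℕ) (rowSel139 i)
    (rowSel141 i) (Nat.blt i 224000))
    (Bool.rec (motive := fun _ => ℕ) (rowSel143 i)
    (rowSel144 i) (Nat.blt i 221440)) (Nat.blt i 222720))

/-- A choice of packed blocks. -/
noncomputable def rowSel146 (i : ℕ) : ℕ :=
  (Bool.rec (motive := fun _ => ℕ) rowBlk860
    rowBlk859 (Nat.blt i 220160))

/-- A choice of packed blocks. -/
noncomputable def rowSel147 (i : ℕ) : ℕ :=
  (Bool.rec (motive := fun _ => ℕ) (Bool.rec (motive := fun _ => ℕ) (rowSel146 i)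
    rowBlk858 (Nat.blt i 219904))
    (Bool.rec (motive := fun _ => ℕ) rowBlk857
    rowBlk856 (Nat.blt i 219392)) (Nat.blt i 219648))

/-- A choice of packed blocks. -/
noncomputable def rowSel148 (i : ℕ) : ℕ :=
  (Bool.rec (motive := fun _ => ℕ) rowBlk855
    rowBlk854 (Nat.blt i 218880))

/-- A choice of packed blocks. -/
noncomputable def rowSel149 (i : ℕ) : ℕ :=
  (Bool.rec (motive := fun _ => ℕ) (Bool.rec (motive := fun _ => ℕ) (rowSel148 i)
    rowBlk853 (Nat.blt i 218624))
    (Bool.rec (motive := fun _ => ℕ) rowBlk852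
    rowBlk851 (Nat.blt i 218112)) (Nat.blt i 218368))

/-- A choice of packed blocks. -/
noncomputable def rowSel150 (i : ℕ) : ℕ :=
  (Bool.rec (motive := fun _ => ℕ) rowBlk850
    rowBlk849 (Nat.blt i 217600))

/-- A choice of packed blocks. -/
noncomputable def rowSel151 (i : ℕ) : ℕ :=
  (Bool.rec (motive := fun _ => ℕ) (Bool.rec (motive := fun _ => ℕ) (rowSel150 i)
    rowBlk848 (Nat.blt i 217344))
    (Bool.rec (motive := fun _ => ℕ) rowBlk847
    rowBlk846 (Nat.blt i 216832)) (Nat.blt i 217088))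

/-- A choice of packed blocks. -/
noncomputable def rowSel152 (i : ℕ) : ℕ :=
  (Bool.rec (motive := fun _ => ℕ) (Bool.rec (motive := fun _ => ℕ) rowBlk845
    rowBlk844 (Nat.blt i 216320))
    (Bool.rec (motive := fun _ => ℕ) rowBlk843
    rowBlk842 (Nat.blt i 215808)) (Nat.blt i 216064))

/-- A choice of packed blocks. -/
noncomputable def rowSel153 (i : ℕ) : ℕ :=
  (Bool.rec (motive := fun _ => ℕ) (Bool.rec (motive := fun _ => ℕ) (rowSel147 i)
    (rowSel149 i) (Nat.blt i 219136))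
    (Bool.rec (motive := fun _ => ℕ) (rowSel151 i)
    (rowSel152 i) (Nat.blt i 216576)) (Nat.blt i 217856))

/-- A choice of packed blocks. -/
noncomputable def rowSel154 (i : ℕ) : ℕ :=
  (Bool.rec (motive := fun _ => ℕ) rowBlk841
    rowBlk840 (Nat.blt i 215296))

/-- A choice of packed blocks. -/
noncomputable def rowSel155 (i : ℕ) : ℕ :=
  (Bool.rec (motive := fun _ => ℕ) (Bool.rec (motive := fun _ => ℕ) (rowSel154 i)
    rowBlk839 (Nat.blt i 215040))
    (Bool.rec (motive := fun _ => ℕ) rowBlk838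
    rowBlk837 (Nat.blt i 214528)) (Nat.blt i 214784))

/-- A choice of packed blocks. -/
noncomputable def rowSel156 (i : ℕ) : ℕ :=
  (Bool.rec (motive := fun _ => ℕ) (Bool.rec (motive := fun _ => ℕ) rowBlk836
    rowBlk835 (Nat.blt i 214016))
    (Bool.rec (motive := fun _ => ℕ) rowBlk834
    rowBlk833 (Nat.blt i 213504)) (Nat.blt i 213760))

/-- A choice of packed blocks. -/
noncomputable def rowSel157 (i : ℕ) : ℕ :=
  (Bool.rec (motive := fun _ => ℕ) rowBlk832
    rowBlk831 (Nat.blt i 212992))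

/-- A choice of packed blocks. -/
noncomputable def rowSel158 (i : ℕ) : ℕ :=
  (Bool.rec (motive := fun _ => ℕ) (Bool.rec (motive := fun _ => ℕ) (rowSel157 i)
    rowBlk830 (Nat.blt i 212736))
    (Bool.rec (motive := fun _ => ℕ) rowBlk829
    rowBlk828 (Nat.blt i 212224)) (Nat.blt i 212480))

/-- A choice of packed blocks. -/
noncomputable def rowSel159 (i : ℕ) : ℕ :=
  (Bool.rec (motive := fun _ => ℕ) (Bool.rec (motive := fun _ => ℕ) rowBlk827
    rowBlk826 (Nat.blt i 211712))
    (Bool.rec (motive := fun _ => ℕ) rowBlk825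
    rowBlk824 (Nat.blt i 211200)) (Nat.blt i 211456))

/-- A choice of packed blocks. -/
noncomputable def rowSel160 (i : ℕ) : ℕ :=
  (Bool.rec (motive := fun _ => ℕ) (Bool.rec (motive := fun _ => ℕ) (rowSel155 i)
    (rowSel156 i) (Nat.blt i 214272))
    (Bool.rec (motive := fun _ => ℕ) (rowSel158 i)
    (rowSel159 i) (Nat.blt i 211968)) (Nat.blt i 213248))

/-- A choice of packed blocks. -/
noncomputable def rowSel161 (i : ℕ) : ℕ :=
  (Bool.rec (motive := fun _ => ℕ) (Bool.rec (motive := fun _ => ℕ) (rowSel137 i)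
    (rowSel145 i) (Nat.blt i 225280))
    (Bool.rec (motive := fun _ => ℕ) (rowSel153 i)
    (rowSel160 i) (Nat.blt i 215552)) (Nat.blt i 220416))

/-- A choice of packed blocks. -/
noncomputable def rowSel162 (i : ℕ) : ℕ :=
  (Bool.rec (motive := fun _ => ℕ) rowBlk823
    rowBlk822 (Nat.blt i 210688))

/-- A choice of packed blocks. -/
noncomputable def rowSel163 (i : ℕ) : ℕ :=
  (Bool.rec (motive := fun _ => ℕ) (Bool.rec (motive := fun _ => ℕ) (rowSel162 i)
    rowBlk821 (Nat.blt i 210432))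
    (Bool.rec (motive := fun _ => ℕ) rowBlk820
    rowBlk819 (Nat.blt i 209920)) (Nat.blt i 210176))

/-- A choice of packed blocks. -/
noncomputable def rowSel164 (i : ℕ) : ℕ :=
  (Bool.rec (motive := fun _ => ℕ) rowBlk818
    rowBlk817 (Nat.blt i 209408))

/-- A choice of packed blocks. -/
noncomputable def rowSel165 (i : ℕ) : ℕ :=
  (Bool.rec (motive := fun _ => ℕ) (Bool.rec (motive := fun _ => ℕ) (rowSel164 i)
    rowBlk816 (Nat.blt i 209152))
    (Bool.rec (motive := fun _ => ℕ) rowBlk815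
    rowBlk814 (Nat.blt i 208640)) (Nat.blt i 208896))

/-- A choice of packed blocks. -/
noncomputable def rowSel166 (i : ℕ) : ℕ :=
  (Bool.rec (motive := fun _ => ℕ) rowBlk813
    rowBlk812 (Nat.blt i 208128))

/-- A choice of packed blocks. -/
noncomputable def rowSel167 (i : ℕ) : ℕ :=
  (Bool.rec (motive := fun _ => ℕ) (Bool.rec (motive := fun _ => ℕ) (rowSel166 i)
    rowBlk811 (Nat.blt i 207872))
    (Bool.rec (motive := fun _ => ℕ) rowBlk810
    rowBlk809 (Nat.blt i 207360)) (Nat.blt i 207616))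

/-- A choice of packed blocks. -/
noncomputable def rowSel168 (i : ℕ) : ℕ :=
  (Bool.rec (motive := fun _ => ℕ) (Bool.rec (motive := fun _ => ℕ) rowBlk808
    rowBlk807 (Nat.blt i 206848))
    (Bool.rec (motive := fun _ => ℕ) rowBlk806
    rowBlk805 (Nat.blt i 206336)) (Nat.blt i 206592))

/-- A choice of packed blocks. -/
noncomputable def rowSel169 (i : ℕ) : ℕ :=
  (Bool.rec (motive := fun _ => ℕ) (Bool.rec (motive := fun _ => ℕ) (rowSel163 i)
    (rowSel165 i) (Nat.blt i 209664))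
    (Bool.rec (motive := fun _ => ℕ) (rowSel167 i)
    (rowSel168 i) (Nat.blt i 207104)) (Nat.blt i 208384))

/-- A choice of packed blocks. -/
noncomputable def rowSel170 (i : ℕ) : ℕ :=
  (Bool.rec (motive := fun _ => ℕ) rowBlk804
    rowBlk803 (Nat.blt i 205824))

/-- A choice of packed blocks. -/
noncomputable def rowSel171 (i : ℕ) : ℕ :=
  (Bool.rec (motive := fun _ => ℕ) (Bool.rec (motive := fun _ => ℕ) (rowSel170 i)
    rowBlk802 (Nat.blt i 205568))
    (Bool.rec (motive := fun _ => ℕ) rowBlk801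
    rowBlk800 (Nat.blt i 205056)) (Nat.blt i 205312))

/-- A choice of packed blocks. -/
noncomputable def rowSel172 (i : ℕ) : ℕ :=
  (Bool.rec (motive := fun _ => ℕ) rowBlk799
    rowBlk798 (Nat.blt i 204544))

/-- A choice of packed blocks. -/
noncomputable def rowSel173 (i : ℕ) : ℕ :=
  (Bool.rec (motive := fun _ => ℕ) (Bool.rec (motive := fun _ => ℕ) (rowSel172 i)
    rowBlk797 (Nat.blt i 204288))
    (Bool.rec (motive := fun _ => ℕ) rowBlk796
    rowBlk795 (Nat.blt i 203776)) (Nat.blt i 204032))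

/-- A choice of packed blocks. -/
noncomputable def rowSel174 (i : ℕ) : ℕ :=
  (Bool.rec (motive := fun _ => ℕ) rowBlk794
    rowBlk793 (Nat.blt i 203264))

/-- A choice of packed blocks. -/
noncomputable def rowSel175 (i : ℕ) : ℕ :=
  (Bool.rec (motive := fun _ => ℕ) (Bool.rec (motive := fun _ => ℕ) (rowSel174 i)
    rowBlk792 (Nat.blt i 203008))
    (Bool.rec (motive := fun _ => ℕ) rowBlk791
    rowBlk790 (Nat.blt i 202496)) (Nat.blt i 202752))

/-- A choice of packed blocks. -/
noncomputable def rowSel176 (i : ℕ) : ℕ :=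
  (Bool.rec (motive := fun _ => ℕ) (Bool.rec (motive := fun _ => ℕ) rowBlk789
    rowBlk788 (Nat.blt i 201984))
    (Bool.rec (motive := fun _ => ℕ) rowBlk787
    rowBlk786 (Nat.blt i 201472)) (Nat.blt i 201728))

/-- A choice of packed blocks. -/
noncomputable def rowSel177 (i : ℕ) : ℕ :=
  (Bool.rec (motive := fun _ => ℕ) (Bool.rec (motive := fun _ => ℕ) (rowSel171 i)
    (rowSel173 i) (Nat.blt i 204800))
    (Bool.rec (motive := fun _ => ℕ) (rowSel175 i)
    (rowSel176 i) (Nat.blt i 202240)) (Nat.blt i 203520))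

/-- A choice of packed blocks. -/
noncomputable def rowSel178 (i : ℕ) : ℕ :=
  (Bool.rec (motive := fun _ => ℕ) rowBlk785
    rowBlk784 (Nat.blt i 200960))

/-- A choice of packed blocks. -/
noncomputable def rowSel179 (i : ℕ) : ℕ :=
  (Bool.rec (motive := fun _ => ℕ) (Bool.rec (motive := fun _ => ℕ) (rowSel178 i)
    rowBlk783 (Nat.blt i 200704))
    (Bool.rec (motive := fun _ => ℕ) rowBlk782
    rowBlk781 (Nat.blt i 200192)) (Nat.blt i 200448))

/-- A choice of packed blocks. -/
noncomputable def rowSel180 (i : ℕ) : ℕ :=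
  (Bool.rec (motive := fun _ => ℕ) rowBlk780
    rowBlk779 (Nat.blt i 199680))

/-- A choice of packed blocks. -/
noncomputable def rowSel181 (i : ℕ) : ℕ :=
  (Bool.rec (motive := fun _ => ℕ) (Bool.rec (motive := fun _ => ℕ) (rowSel180 i)
    rowBlk778 (Nat.blt i 199424))
    (Bool.rec (motive := fun _ => ℕ) rowBlk777
    rowBlk776 (Nat.blt i 198912)) (Nat.blt i 199168))

/-- A choice of packed blocks. -/
noncomputable def rowSel182 (i : ℕ) : ℕ :=
  (Bool.rec (motive := fun _ => ℕ) rowBlk775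
    rowBlk774 (Nat.blt i 198400))

/-- A choice of packed blocks. -/
noncomputable def rowSel183 (i : ℕ) : ℕ :=
  (Bool.rec (motive := fun _ => ℕ) (Bool.rec (motive := fun _ => ℕ) (rowSel182 i)
    rowBlk773 (Nat.blt i 198144))
    (Bool.rec (motive := fun _ => ℕ) rowBlk772
    rowBlk771 (Nat.blt i 197632)) (Nat.blt i 197888))

/-- A choice of packed blocks. -/
noncomputable def rowSel184 (i : ℕ) : ℕ :=
  (Bool.rec (motive := fun _ => ℕ) (Bool.rec (motive := fun _ => ℕ) rowBlk770
    rowBlk769 (Nat.blt i 197120))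
    (Bool.rec (motive := fun _ => ℕ) rowBlk768
    rowBlk767 (Nat.blt i 196608)) (Nat.blt i 196864))

/-- A choice of packed blocks. -/
noncomputable def rowSel185 (i : ℕ) : ℕ :=
  (Bool.rec (motive := fun _ => ℕ) (Bool.rec (motive := fun _ => ℕ) (rowSel179 i)
    (rowSel181 i) (Nat.blt i 199936))
    (Bool.rec (motive := fun _ => ℕ) (rowSel183 i)
    (rowSel184 i) (Nat.blt i 197376)) (Nat.blt i 198656))

/-- A choice of packed blocks. -/
noncomputable def rowSel186 (i : ℕ) : ℕ :=
  (Bool.rec (motive := fun _ => ℕ) rowBlk766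
    rowBlk765 (Nat.blt i 196096))

/-- A choice of packed blocks. -/
noncomputable def rowSel187 (i : ℕ) : ℕ :=
  (Bool.rec (motive := fun _ => ℕ) (Bool.rec (motive := fun _ => ℕ) (rowSel186 i)
    rowBlk764 (Nat.blt i 195840))
    (Bool.rec (motive := fun _ => ℕ) rowBlk763
    rowBlk762 (Nat.blt i 195328)) (Nat.blt i 195584))

/-- A choice of packed blocks. -/
noncomputable def rowSel188 (i : ℕ) : ℕ :=
  (Bool.rec (motive := fun _ => ℕ) (Bool.rec (motive := fun _ => ℕ) rowBlk761
    rowBlk760 (Nat.blt i 194816))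
    (Bool.rec (motive := fun _ => ℕ) rowBlk759
    rowBlk758 (Nat.blt i 194304)) (Nat.blt i 194560))

/-- A choice of packed blocks. -/
noncomputable def rowSel189 (i : ℕ) : ℕ :=
  (Bool.rec (motive := fun _ => ℕ) rowBlk757
    rowBlk756 (Nat.blt i 193792))

/-- A choice of packed blocks. -/
noncomputable def rowSel190 (i : ℕ) : ℕ :=
  (Bool.rec (motive := fun _ => ℕ) (Bool.rec (motive := fun _ => ℕ) (rowSel189 i)
    rowBlk755 (Nat.blt i 193536))
    (Bool.rec (motive := fun _ => ℕ) rowBlk754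
    rowBlk753 (Nat.blt i 193024)) (Nat.blt i 193280))

/-- A choice of packed blocks. -/
noncomputable def rowSel191 (i : ℕ) : ℕ :=
  (Bool.rec (motive := fun _ => ℕ) (Bool.rec (motive := fun _ => ℕ) rowBlk752
    rowBlk751 (Nat.blt i 192512))
    (Bool.rec (motive := fun _ => ℕ) rowBlk750
    rowBlk749 (Nat.blt i 192000)) (Nat.blt i 192256))

/-- A choice of packed blocks. -/
noncomputable def rowSel192 (i : ℕ) : ℕ :=
  (Bool.rec (motive := fun _ => ℕ) (Bool.rec (motive := fun _ => ℕ) (rowSel187 i)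
    (rowSel188 i) (Nat.blt i 195072))
    (Bool.rec (motive := fun _ => ℕ) (rowSel190 i)
    (rowSel191 i) (Nat.blt i 192768)) (Nat.blt i 194048))

/-- A choice of packed blocks. -/
noncomputable def rowSel193 (i : ℕ) : ℕ :=
  (Bool.rec (motive := fun _ => ℕ) (Bool.rec (motive := fun _ => ℕ) (rowSel169 i)
    (rowSel177 i) (Nat.blt i 206080))
    (Bool.rec (motive := fun _ => ℕ) (rowSel185 i)
    (rowSel192 i) (Nat.blt i 196352)) (Nat.blt i 201216))

/-- A choice of packed blocks. -/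
noncomputable def rowSel194 (i : ℕ) : ℕ :=
  (Bool.rec (motive := fun _ => ℕ) rowBlk748
    rowBlk747 (Nat.blt i 191488))

/-- A choice of packed blocks. -/
noncomputable def rowSel195 (i : ℕ) : ℕ :=
  (Bool.rec (motive := fun _ => ℕ) (Bool.rec (motive := fun _ => ℕ) (rowSel194 i)
    rowBlk746 (Nat.blt i 191232))
    (Bool.rec (motive := fun _ => ℕ) rowBlk745
    rowBlk744 (Nat.blt i 190720)) (Nat.blt i 190976))

/-- A choice of packed blocks. -/
noncomputable def rowSel196 (i : ℕ) : ℕ :=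
  (Bool.rec (motive := fun _ => ℕ) rowBlk743
    rowBlk742 (Nat.blt i 190208))

/-- A choice of packed blocks. -/
noncomputable def rowSel197 (i : ℕ) : ℕ :=
  (Bool.rec (motive := fun _ => ℕ) (Bool.rec (motive := fun _ => ℕ) (rowSel196 i)
    rowBlk741 (Nat.blt i 189952))
    (Bool.rec (motive := fun _ => ℕ) rowBlk740
    rowBlk739 (Nat.blt i 189440)) (Nat.blt i 189696))

/-- A choice of packed blocks. -/
noncomputable def rowSel198 (i : ℕ) : ℕ :=
  (Bool.rec (motive := fun _ => ℕ) rowBlk738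
    rowBlk737 (Nat.blt i 188928))

/-- A choice of packed blocks. -/
noncomputable def rowSel199 (i : ℕ) : ℕ :=
  (Bool.rec (motive := fun _ => ℕ) (Bool.rec (motive := fun _ => ℕ) (rowSel198 i)
    rowBlk736 (Nat.blt i 188672))
    (Bool.rec (motive := fun _ => ℕ) rowBlk735
    rowBlk734 (Nat.blt i 188160)) (Nat.blt i 188416))

/-- A choice of packed blocks. -/
noncomputable def rowSel200 (i : ℕ) : ℕ :=
  (Bool.rec (motive := fun _ => ℕ) (Bool.rec (motive := fun _ => ℕ) rowBlk733
    rowBlk732 (Nat.blt i 187648))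
    (Bool.rec (motive := fun _ => ℕ) rowBlk731
    rowBlk730 (Nat.blt i 187136)) (Nat.blt i 187392))

/-- A choice of packed blocks. -/
noncomputable def rowSel201 (i : ℕ) : ℕ :=
  (Bool.rec (motive := fun _ => ℕ) (Bool.rec (motive := fun _ => ℕ) (rowSel195 i)
    (rowSel197 i) (Nat.blt i 190464))
    (Bool.rec (motive := fun _ => ℕ) (rowSel199 i)
    (rowSel200 i) (Nat.blt i 187904)) (Nat.blt i 189184))

/-- A choice of packed blocks. -/
noncomputable def rowSel202 (i : ℕ) : ℕ :=
  (Bool.rec (motive := fun _ => ℕ) rowBlk729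
    rowBlk728 (Nat.blt i 186624))

/-- A choice of packed blocks. -/
noncomputable def rowSel203 (i : ℕ) : ℕ :=
  (Bool.rec (motive := fun _ => ℕ) (Bool.rec (motive := fun _ => ℕ) (rowSel202 i)
    rowBlk727 (Nat.blt i 186368))
    (Bool.rec (motive := fun _ => ℕ) rowBlk726
    rowBlk725 (Nat.blt i 185856)) (Nat.blt i 186112))

/-- A choice of packed blocks. -/
noncomputable def rowSel204 (i : ℕ) : ℕ :=
  (Bool.rec (motive := fun _ => ℕ) rowBlk724
    rowBlk723 (Nat.blt i 185344))

/-- A choice of packed blocks. -/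
noncomputable def rowSel205 (i : ℕ) : ℕ :=
  (Bool.rec (motive := fun _ => ℕ) (Bool.rec (motive := fun _ => ℕ) (rowSel204 i)
    rowBlk722 (Nat.blt i 185088))
    (Bool.rec (motive := fun _ => ℕ) rowBlk721
    rowBlk720 (Nat.blt i 184576)) (Nat.blt i 184832))

/-- A choice of packed blocks. -/
noncomputable def rowSel206 (i : ℕ) : ℕ :=
  (Bool.rec (motive := fun _ => ℕ) rowBlk719
    rowBlk718 (Nat.blt i 184064))

/-- A choice of packed blocks. -/
noncomputable def rowSel207 (i : ℕ) : ℕ :=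
  (Bool.rec (motive := fun _ => ℕ) (Bool.rec (motive := fun _ => ℕ) (rowSel206 i)
    rowBlk717 (Nat.blt i 183808))
    (Bool.rec (motive := fun _ => ℕ) rowBlk716
    rowBlk715 (Nat.blt i 183296)) (Nat.blt i 183552))

/-- A choice of packed blocks. -/
noncomputable def rowSel208 (i : ℕ) : ℕ :=
  (Bool.rec (motive := fun _ => ℕ) (Bool.rec (motive := fun _ => ℕ) rowBlk714
    rowBlk713 (Nat.blt i 182784))
    (Bool.rec (motive := fun _ => ℕ) rowBlk712
    rowBlk711 (Nat.blt i 182272)) (Nat.blt i 182528))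

/-- A choice of packed blocks. -/
noncomputable def rowSel209 (i : ℕ) : ℕ :=
  (Bool.rec (motive := fun _ => ℕ) (Bool.rec (motive := fun _ => ℕ) (rowSel203 i)
    (rowSel205 i) (Nat.blt i 185600))
    (Bool.rec (motive := fun _ => ℕ) (rowSel207 i)
    (rowSel208 i) (Nat.blt i 183040)) (Nat.blt i 184320))

/-- A choice of packed blocks. -/
noncomputable def rowSel210 (i : ℕ) : ℕ :=
  (Bool.rec (motive := fun _ => ℕ) rowBlk710
    rowBlk709 (Nat.blt i 181760))

/-- A choice of packed blocks. -/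
noncomputable def rowSel211 (i : ℕ) : ℕ :=
  (Bool.rec (motive := fun _ => ℕ) (Bool.rec (motive := fun _ => ℕ) (rowSel210 i)
    rowBlk708 (Nat.blt i 181504))
    (Bool.rec (motive := fun _ => ℕ) rowBlk707
    rowBlk706 (Nat.blt i 180992)) (Nat.blt i 181248))

/-- A choice of packed blocks. -/
noncomputable def rowSel212 (i : ℕ) : ℕ :=
  (Bool.rec (motive := fun _ => ℕ) rowBlk705
    rowBlk704 (Nat.blt i 180480))

/-- A choice of packed blocks. -/
noncomputable def rowSel213 (i : ℕ) : ℕ :=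
  (Bool.rec (motive := fun _ => ℕ) (Bool.rec (motive := fun _ => ℕ) (rowSel212 i)
    rowBlk703 (Nat.blt i 180224))
    (Bool.rec (motive := fun _ => ℕ) rowBlk702
    rowBlk701 (Nat.blt i 179712)) (Nat.blt i 179968))

/-- A choice of packed blocks. -/
noncomputable def rowSel214 (i : ℕ) : ℕ :=
  (Bool.rec (motive := fun _ => ℕ) rowBlk700
    rowBlk699 (Nat.blt i 179200))

/-- A choice of packed blocks. -/
noncomputable def rowSel215 (i : ℕ) : ℕ :=
  (Bool.rec (motive := fun _ => ℕ) (Bool.rec (motive := fun _ => ℕ) (rowSel214 i)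
    rowBlk698 (Nat.blt i 178944))
    (Bool.rec (motive := fun _ => ℕ) rowBlk697
    rowBlk696 (Nat.blt i 178432)) (Nat.blt i 178688))

/-- A choice of packed blocks. -/
noncomputable def rowSel216 (i : ℕ) : ℕ :=
  (Bool.rec (motive := fun _ => ℕ) (Bool.rec (motive := fun _ => ℕ) rowBlk695
    rowBlk694 (Nat.blt i 177920))
    (Bool.rec (motive := fun _ => ℕ) rowBlk693
    rowBlk692 (Nat.blt i 177408)) (Nat.blt i 177664))

/-- A choice of packed blocks. -/
noncomputable def rowSel217 (i : ℕ) : ℕ :=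
  (Bool.rec (motive := fun _ => ℕ) (Bool.rec (motive := fun _ => ℕ) (rowSel211 i)
    (rowSel213 i) (Nat.blt i 180736))
    (Bool.rec (motive := fun _ => ℕ) (rowSel215 i)
    (rowSel216 i) (Nat.blt i 178176)) (Nat.blt i 179456))

/-- A choice of packed blocks. -/
noncomputable def rowSel218 (i : ℕ) : ℕ :=
  (Bool.rec (motive := fun _ => ℕ) rowBlk691
    rowBlk690 (Nat.blt i 176896))

/-- A choice of packed blocks. -/
noncomputable def rowSel219 (i : ℕ) : ℕ :=
  (Bool.rec (motive := fun _ => ℕ) (Bool.rec (motive := fun _ => ℕ) (rowSel218 i)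
    rowBlk689 (Nat.blt i 176640))
    (Bool.rec (motive := fun _ => ℕ) rowBlk688
    rowBlk687 (Nat.blt i 176128)) (Nat.blt i 176384))

/-- A choice of packed blocks. -/
noncomputable def rowSel220 (i : ℕ) : ℕ :=
  (Bool.rec (motive := fun _ => ℕ) (Bool.rec (motive := fun _ => ℕ) rowBlk686
    rowBlk685 (Nat.blt i 175616))
    (Bool.rec (motive := fun _ => ℕ) rowBlk684
    rowBlk683 (Nat.blt i 175104)) (Nat.blt i 175360))

/-- A choice of packed blocks. -/
noncomputable def rowSel221 (i : ℕ) : ℕ :=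
  (Bool.rec (motive := fun _ => ℕ) rowBlk682
    rowBlk681 (Nat.blt i 174592))

/-- A choice of packed blocks. -/
noncomputable def rowSel222 (i : ℕ) : ℕ :=
  (Bool.rec (motive := fun _ => ℕ) (Bool.rec (motive := fun _ => ℕ) (rowSel221 i)
    rowBlk680 (Nat.blt i 174336))
    (Bool.rec (motive := fun _ => ℕ) rowBlk679
    rowBlk678 (Nat.blt i 173824)) (Nat.blt i 174080))

/-- A choice of packed blocks. -/
noncomputable def rowSel223 (i : ℕ) : ℕ :=
  (Bool.rec (motive := fun _ => ℕ) (Bool.rec (motive := fun _ => ℕ) rowBlk677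
    rowBlk676 (Nat.blt i 173312))
    (Bool.rec (motive := fun _ => ℕ) rowBlk675
    rowBlk674 (Nat.blt i 172800)) (Nat.blt i 173056))

/-- A choice of packed blocks. -/
noncomputable def rowSel224 (i : ℕ) : ℕ :=
  (Bool.rec (motive := fun _ => ℕ) (Bool.rec (motive := fun _ => ℕ) (rowSel219 i)
    (rowSel220 i) (Nat.blt i 175872))
    (Bool.rec (motive := fun _ => ℕ) (rowSel222 i)
    (rowSel223 i) (Nat.blt i 173568)) (Nat.blt i 174848))

/-- A choice of packed blocks. -/
noncomputable def rowSel225 (i : ℕ) : ℕ :=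
  (Bool.rec (motive := fun _ => ℕ) (Bool.rec (motive := fun _ => ℕ) (rowSel201 i)
    (rowSel209 i) (Nat.blt i 186880))
    (Bool.rec (motive := fun _ => ℕ) (rowSel217 i)
    (rowSel224 i) (Nat.blt i 177152)) (Nat.blt i 182016))

/-- A choice of packed blocks. -/
noncomputable def rowSel226 (i : ℕ) : ℕ :=
  (Bool.rec (motive := fun _ => ℕ) rowBlk673
    rowBlk672 (Nat.blt i 172288))

/-- A choice of packed blocks. -/
noncomputable def rowSel227 (i : ℕ) : ℕ :=
  (Bool.rec (motive := fun _ => ℕ) (Bool.rec (motive := fun _ => ℕ) (rowSel226 i)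
    rowBlk671 (Nat.blt i 172032))
    (Bool.rec (motive := fun _ => ℕ) rowBlk670
    rowBlk669 (Nat.blt i 171520)) (Nat.blt i 171776))

/-- A choice of packed blocks. -/
noncomputable def rowSel228 (i : ℕ) : ℕ :=
  (Bool.rec (motive := fun _ => ℕ) rowBlk668
    rowBlk667 (Nat.blt i 171008))

/-- A choice of packed blocks. -/
noncomputable def rowSel229 (i : ℕ) : ℕ :=
  (Bool.rec (motive := fun _ => ℕ) (Bool.rec (motive := fun _ => ℕ) (rowSel228 i)
    rowBlk666 (Nat.blt i 170752))
    (Bool.rec (motive := fun _ => ℕ) rowBlk665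
    rowBlk664 (Nat.blt i 170240)) (Nat.blt i 170496))

/-- A choice of packed blocks. -/
noncomputable def rowSel230 (i : ℕ) : ℕ :=
  (Bool.rec (motive := fun _ => ℕ) rowBlk663
    rowBlk662 (Nat.blt i 169728))

/-- A choice of packed blocks. -/
noncomputable def rowSel231 (i : ℕ) : ℕ :=
  (Bool.rec (motive := fun _ => ℕ) (Bool.rec (motive := fun _ => ℕ) (rowSel230 i)
    rowBlk661 (Nat.blt i 169472))
    (Bool.rec (motive := fun _ => ℕ) rowBlk660
    rowBlk659 (Nat.blt i 168960)) (Nat.blt i 169216))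

/-- A choice of packed blocks. -/
noncomputable def rowSel232 (i : ℕ) : ℕ :=
  (Bool.rec (motive := fun _ => ℕ) (Bool.rec (motive := fun _ => ℕ) rowBlk658
    rowBlk657 (Nat.blt i 168448))
    (Bool.rec (motive := fun _ => ℕ) rowBlk656
    rowBlk655 (Nat.blt i 167936)) (Nat.blt i 168192))

/-- A choice of packed blocks. -/
noncomputable def rowSel233 (i : ℕ) : ℕ :=
  (Bool.rec (motive := fun _ => ℕ) (Bool.rec (motive := fun _ => ℕ) (rowSel227 i)
    (rowSel229 i) (Nat.blt i 171264))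
    (Bool.rec (motive := fun _ => ℕ) (rowSel231 i)
    (rowSel232 i) (Nat.blt i 168704)) (Nat.blt i 169984))

/-- A choice of packed blocks. -/
noncomputable def rowSel234 (i : ℕ) : ℕ :=
  (Bool.rec (motive := fun _ => ℕ) rowBlk654
    rowBlk653 (Nat.blt i 167424))

/-- A choice of packed blocks. -/
noncomputable def rowSel235 (i : ℕ) : ℕ :=
  (Bool.rec (motive := fun _ => ℕ) (Bool.rec (motive := fun _ => ℕ) (rowSel234 i)
    rowBlk652 (Nat.blt i 167168))
    (Bool.rec (motive := fun _ => ℕ) rowBlk651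
    rowBlk650 (Nat.blt i 166656)) (Nat.blt i 166912))

/-- A choice of packed blocks. -/
noncomputable def rowSel236 (i : ℕ) : ℕ :=
  (Bool.rec (motive := fun _ => ℕ) rowBlk649
    rowBlk648 (Nat.blt i 166144))

/-- A choice of packed blocks. -/
noncomputable def rowSel237 (i : ℕ) : ℕ :=
  (Bool.rec (motive := fun _ => ℕ) (Bool.rec (motive := fun _ => ℕ) (rowSel236 i)
    rowBlk647 (Nat.blt i 165888))
    (Bool.rec (motive := fun _ => ℕ) rowBlk646
    rowBlk645 (Nat.blt i 165376)) (Nat.blt i 165632))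

/-- A choice of packed blocks. -/
noncomputable def rowSel238 (i : ℕ) : ℕ :=
  (Bool.rec (motive := fun _ => ℕ) rowBlk644
    rowBlk643 (Nat.blt i 164864))

/-- A choice of packed blocks. -/
noncomputable def rowSel239 (i : ℕ) : ℕ :=
  (Bool.rec (motive := fun _ => ℕ) (Bool.rec (motive := fun _ => ℕ) (rowSel238 i)
    rowBlk642 (Nat.blt i 164608))
    (Bool.rec (motive := fun _ => ℕ) rowBlk641
    rowBlk640 (Nat.blt i 164096)) (Nat.blt i 164352))

/-- A choice of packed blocks. -/
noncomputable def rowSel240 (i : ℕ) : ℕ :=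
  (Bool.rec (motive := fun _ => ℕ) (Bool.rec (motive := fun _ => ℕ) rowBlk639
    rowBlk638 (Nat.blt i 163584))
    (Bool.rec (motive := fun _ => ℕ) rowBlk637
    rowBlk636 (Nat.blt i 163072)) (Nat.blt i 163328))

/-- A choice of packed blocks. -/
noncomputable def rowSel241 (i : ℕ) : ℕ :=
  (Bool.rec (motive := fun _ => ℕ) (Bool.rec (motive := fun _ => ℕ) (rowSel235 i)
    (rowSel237 i) (Nat.blt i 166400))
    (Bool.rec (motive := fun _ => ℕ) (rowSel239 i)
    (rowSel240 i) (Nat.blt i 163840)) (Nat.blt i 165120))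

/-- A choice of packed blocks. -/
noncomputable def rowSel242 (i : ℕ) : ℕ :=
  (Bool.rec (motive := fun _ => ℕ) rowBlk635
    rowBlk634 (Nat.blt i 162560))

/-- A choice of packed blocks. -/
noncomputable def rowSel243 (i : ℕ) : ℕ :=
  (Bool.rec (motive := fun _ => ℕ) (Bool.rec (motive := fun _ => ℕ) (rowSel242 i)
    rowBlk633 (Nat.blt i 162304))
    (Bool.rec (motive := fun _ => ℕ) rowBlk632
    rowBlk631 (Nat.blt i 161792)) (Nat.blt i 162048))

/-- A choice of packed blocks. -/
noncomputable def rowSel244 (i : ℕ) : ℕ :=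
  (Bool.rec (motive := fun _ => ℕ) rowBlk630
    rowBlk629 (Nat.blt i 161280))

/-- A choice of packed blocks. -/
noncomputable def rowSel245 (i : ℕ) : ℕ :=
  (Bool.rec (motive := fun _ => ℕ) (Bool.rec (motive := fun _ => ℕ) (rowSel244 i)
    rowBlk628 (Nat.blt i 161024))
    (Bool.rec (motive := fun _ => ℕ) rowBlk627
    rowBlk626 (Nat.blt i 160512)) (Nat.blt i 160768))

/-- A choice of packed blocks. -/
noncomputable def rowSel246 (i : ℕ) : ℕ :=
  (Bool.rec (motive := fun _ => ℕ) rowBlk625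
    rowBlk624 (Nat.blt i 160000))

/-- A choice of packed blocks. -/
noncomputable def rowSel247 (i : ℕ) : ℕ :=
  (Bool.rec (motive := fun _ => ℕ) (Bool.rec (motive := fun _ => ℕ) (rowSel246 i)
    rowBlk623 (Nat.blt i 159744))
    (Bool.rec (motive := fun _ => ℕ) rowBlk622
    rowBlk621 (Nat.blt i 159232)) (Nat.blt i 159488))

/-- A choice of packed blocks. -/
noncomputable def rowSel248 (i : ℕ) : ℕ :=
  (Bool.rec (motive := fun _ => ℕ) (Bool.rec (motive := fun _ => ℕ) rowBlk620
    rowBlk619 (Nat.blt i 158720))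
    (Bool.rec (motive := fun _ => ℕ) rowBlk618
    rowBlk617 (Nat.blt i 158208)) (Nat.blt i 158464))

/-- A choice of packed blocks. -/
noncomputable def rowSel249 (i : ℕ) : ℕ :=
  (Bool.rec (motive := fun _ => ℕ) (Bool.rec (motive := fun _ => ℕ) (rowSel243 i)
    (rowSel245 i) (Nat.blt i 161536))
    (Bool.rec (motive := fun _ => ℕ) (rowSel247 i)
    (rowSel248 i) (Nat.blt i 158976)) (Nat.blt i 160256))

/-- A choice of packed blocks. -/
noncomputable def rowSel250 (i : ℕ) : ℕ :=
  (Bool.rec (motive := fun _ => ℕ) rowBlk616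
    rowBlk615 (Nat.blt i 157696))

/-- A choice of packed blocks. -/
noncomputable def rowSel251 (i : ℕ) : ℕ :=
  (Bool.rec (motive := fun _ => ℕ) (Bool.rec (motive := fun _ => ℕ) (rowSel250 i)
    rowBlk614 (Nat.blt i 157440))
    (Bool.rec (motive := fun _ => ℕ) rowBlk613
    rowBlk612 (Nat.blt i 156928)) (Nat.blt i 157184))

/-- A choice of packed blocks. -/
noncomputable def rowSel252 (i : ℕ) : ℕ :=
  (Bool.rec (motive := fun _ => ℕ) (Bool.rec (motive := fun _ => ℕ) rowBlk611
    rowBlk610 (Nat.blt i 156416))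
    (Bool.rec (motive := fun _ => ℕ) rowBlk609
    rowBlk608 (Nat.blt i 155904)) (Nat.blt i 156160))

/-- A choice of packed blocks. -/
noncomputable def rowSel253 (i : ℕ) : ℕ :=
  (Bool.rec (motive := fun _ => ℕ) rowBlk607
    rowBlk606 (Nat.blt i 155392))

/-- A choice of packed blocks. -/
noncomputable def rowSel254 (i : ℕ) : ℕ :=
  (Bool.rec (motive := fun _ => ℕ) (Bool.rec (motive := fun _ => ℕ) (rowSel253 i)
    rowBlk605 (Nat.blt i 155136))
    (Bool.rec (motive := fun _ => ℕ) rowBlk604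
    rowBlk603 (Nat.blt i 154624)) (Nat.blt i 154880))

/-- A choice of packed blocks. -/
noncomputable def rowSel255 (i : ℕ) : ℕ :=
  (Bool.rec (motive := fun _ => ℕ) (Bool.rec (motive := fun _ => ℕ) rowBlk602
    rowBlk601 (Nat.blt i 154112))
    (Bool.rec (motive := fun _ => ℕ) rowBlk600
    rowBlk599 (Nat.blt i 153600)) (Nat.blt i 153856))

/-- A choice of packed blocks. -/
noncomputable def rowSel256 (i : ℕ) : ℕ :=
  (Bool.rec (motive := fun _ => ℕ) (Bool.rec (motive := fun _ => ℕ) (rowSel251 i)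
    (rowSel252 i) (Nat.blt i 156672))
    (Bool.rec (motive := fun _ => ℕ) (rowSel254 i)
    (rowSel255 i) (Nat.blt i 154368)) (Nat.blt i 155648))

/-- A choice of packed blocks. -/
noncomputable def rowSel257 (i : ℕ) : ℕ :=
  (Bool.rec (motive := fun _ => ℕ) (Bool.rec (motive := fun _ => ℕ) (rowSel233 i)
    (rowSel241 i) (Nat.blt i 167680))
    (Bool.rec (motive := fun _ => ℕ) (rowSel249 i)
    (rowSel256 i) (Nat.blt i 157952)) (Nat.blt i 162816))

/-- A choice of packed blocks. -/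
noncomputable def rowSel258 (i : ℕ) : ℕ :=
  (Bool.rec (motive := fun _ => ℕ) (Bool.rec (motive := fun _ => ℕ) (rowSel161 i)
    (rowSel193 i) (Nat.blt i 210944))
    (Bool.rec (motive := fun _ => ℕ) (rowSel225 i)
    (rowSel257 i) (Nat.blt i 172544)) (Nat.blt i 191744))

/-- A choice of packed blocks. -/
noncomputable def rowSel259 (i : ℕ) : ℕ :=
  (Bool.rec (motive := fun _ => ℕ) rowBlk598
    rowBlk597 (Nat.blt i 153088))

/-- A choice of packed blocks. -/
noncomputable def rowSel260 (i : ℕ) : ℕ :=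
  (Bool.rec (motive := fun _ => ℕ) (Bool.rec (motive := fun _ => ℕ) (rowSel259 i)
    rowBlk596 (Nat.blt i 152832))
    (Bool.rec (motive := fun _ => ℕ) rowBlk595
    rowBlk594 (Nat.blt i 152320)) (Nat.blt i 152576))

/-- A choice of packed blocks. -/
noncomputable def rowSel261 (i : ℕ) : ℕ :=
  (Bool.rec (motive := fun _ => ℕ) rowBlk593
    rowBlk592 (Nat.blt i 151808))

/-- A choice of packed blocks. -/
noncomputable def rowSel262 (i : ℕ) : ℕ :=
  (Bool.rec (motive := fun _ => ℕ) (Bool.rec (motive := fun _ => ℕ) (rowSel261 i)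
    rowBlk591 (Nat.blt i 151552))
    (Bool.rec (motive := fun _ => ℕ) rowBlk590
    rowBlk589 (Nat.blt i 151040)) (Nat.blt i 151296))

/-- A choice of packed blocks. -/
noncomputable def rowSel263 (i : ℕ) : ℕ :=
  (Bool.rec (motive := fun _ => ℕ) rowBlk588
    rowBlk587 (Nat.blt i 150528))

/-- A choice of packed blocks. -/
noncomputable def rowSel264 (i : ℕ) : ℕ :=
  (Bool.rec (motive := fun _ => ℕ) (Bool.rec (motive := fun _ => ℕ) (rowSel263 i)
    rowBlk586 (Nat.blt i 150272))
    (Bool.rec (motive := fun _ => ℕ) rowBlk585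
    rowBlk584 (Nat.blt i 149760)) (Nat.blt i 150016))

/-- A choice of packed blocks. -/
noncomputable def rowSel265 (i : ℕ) : ℕ :=
  (Bool.rec (motive := fun _ => ℕ) (Bool.rec (motive := fun _ => ℕ) rowBlk583
    rowBlk582 (Nat.blt i 149248))
    (Bool.rec (motive := fun _ => ℕ) rowBlk581
    rowBlk580 (Nat.blt i 148736)) (Nat.blt i 148992))

/-- A choice of packed blocks. -/
noncomputable def rowSel266 (i : ℕ) : ℕ :=
  (Bool.rec (motive := fun _ => ℕ) (Bool.rec (motive := fun _ => ℕ) (rowSel260 i)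
    (rowSel262 i) (Nat.blt i 152064))
    (Bool.rec (motive := fun _ => ℕ) (rowSel264 i)
    (rowSel265 i) (Nat.blt i 149504)) (Nat.blt i 150784))

/-- A choice of packed blocks. -/
noncomputable def rowSel267 (i : ℕ) : ℕ :=
  (Bool.rec (motive := fun _ => ℕ) rowBlk579
    rowBlk578 (Nat.blt i 148224))

/-- A choice of packed blocks. -/
noncomputable def rowSel268 (i : ℕ) : ℕ :=
  (Bool.rec (motive := fun _ => ℕ) (Bool.rec (motive := fun _ => ℕ) (rowSel267 i)
    rowBlk577 (Nat.blt i 147968))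
    (Bool.rec (motive := fun _ => ℕ) rowBlk576
    rowBlk575 (Nat.blt i 147456)) (Nat.blt i 147712))

/-- A choice of packed blocks. -/
noncomputable def rowSel269 (i : ℕ) : ℕ :=
  (Bool.rec (motive := fun _ => ℕ) rowBlk574
    rowBlk573 (Nat.blt i 146944))

/-- A choice of packed blocks. -/
noncomputable def rowSel270 (i : ℕ) : ℕ :=
  (Bool.rec (motive := fun _ => ℕ) (Bool.rec (motive := fun _ => ℕ) (rowSel269 i)
    rowBlk572 (Nat.blt i 146688))
    (Bool.rec (motive := fun _ => ℕ) rowBlk571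
    rowBlk570 (Nat.blt i 146176)) (Nat.blt i 146432))

/-- A choice of packed blocks. -/
noncomputable def rowSel271 (i : ℕ) : ℕ :=
  (Bool.rec (motive := fun _ => ℕ) rowBlk569
    rowBlk568 (Nat.blt i 145664))

/-- A choice of packed blocks. -/
noncomputable def rowSel272 (i : ℕ) : ℕ :=
  (Bool.rec (motive := fun _ => ℕ) (Bool.rec (motive := fun _ => ℕ) (rowSel271 i)
    rowBlk567 (Nat.blt i 145408))
    (Bool.rec (motive := fun _ => ℕ) rowBlk566
    rowBlk565 (Nat.blt i 144896)) (Nat.blt i 145152))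

/-- A choice of packed blocks. -/
noncomputable def rowSel273 (i : ℕ) : ℕ :=
  (Bool.rec (motive := fun _ => ℕ) (Bool.rec (motive := fun _ => ℕ) rowBlk564
    rowBlk563 (Nat.blt i 144384))
    (Bool.rec (motive := fun _ => ℕ) rowBlk562
    rowBlk561 (Nat.blt i 143872)) (Nat.blt i 144128))

/-- A choice of packed blocks. -/
noncomputable def rowSel274 (i : ℕ) : ℕ :=
  (Bool.rec (motive := fun _ => ℕ) (Bool.rec (motive := fun _ => ℕ) (rowSel268 i)
    (rowSel270 i) (Nat.blt i 147200))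
    (Bool.rec (motive := fun _ => ℕ) (rowSel272 i)
    (rowSel273 i) (Nat.blt i 144640)) (Nat.blt i 145920))

/-- A choice of packed blocks. -/
noncomputable def rowSel275 (i : ℕ) : ℕ :=
  (Bool.rec (motive := fun _ => ℕ) rowBlk560
    rowBlk559 (Nat.blt i 143360))

/-- A choice of packed blocks. -/
noncomputable def rowSel276 (i : ℕ) : ℕ :=
  (Bool.rec (motive := fun _ => ℕ) (Bool.rec (motive := fun _ => ℕ) (rowSel275 i)
    rowBlk558 (Nat.blt i 143104))
    (Bool.rec (motive := fun _ => ℕ) rowBlk557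
    rowBlk556 (Nat.blt i 142592)) (Nat.blt i 142848))

/-- A choice of packed blocks. -/
noncomputable def rowSel277 (i : ℕ) : ℕ :=
  (Bool.rec (motive := fun _ => ℕ) rowBlk555
    rowBlk554 (Nat.blt i 142080))

/-- A choice of packed blocks. -/
noncomputable def rowSel278 (i : ℕ) : ℕ :=
  (Bool.rec (motive := fun _ => ℕ) (Bool.rec (motive := fun _ => ℕ) (rowSel277 i)
    rowBlk553 (Nat.blt i 141824))
    (Bool.rec (motive := fun _ => ℕ) rowBlk552
    rowBlk551 (Nat.blt i 141312)) (Nat.blt i 141568))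

/-- A choice of packed blocks. -/
noncomputable def rowSel279 (i : ℕ) : ℕ :=
  (Bool.rec (motive := fun _ => ℕ) rowBlk550
    rowBlk549 (Nat.blt i 140800))

/-- A choice of packed blocks. -/
noncomputable def rowSel280 (i : ℕ) : ℕ :=
  (Bool.rec (motive := fun _ => ℕ) (Bool.rec (motive := fun _ => ℕ) (rowSel279 i)
    rowBlk548 (Nat.blt i 140544))
    (Bool.rec (motive := fun _ => ℕ) rowBlk547
    rowBlk546 (Nat.blt i 140032)) (Nat.blt i 140288))

/-- A choice of packed blocks. -/
noncomputable def rowSel281 (i : ℕ) : ℕ :=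
  (Bool.rec (motive := fun _ => ℕ) (Bool.rec (motive := fun _ => ℕ) rowBlk545
    rowBlk544 (Nat.blt i 139520))
    (Bool.rec (motive := fun _ => ℕ) rowBlk543
    rowBlk542 (Nat.blt i 139008)) (Nat.blt i 139264))

/-- A choice of packed blocks. -/
noncomputable def rowSel282 (i : ℕ) : ℕ :=
  (Bool.rec (motive := fun _ => ℕ) (Bool.rec (motive := fun _ => ℕ) (rowSel276 i)
    (rowSel278 i) (Nat.blt i 142336))
    (Bool.rec (motive := fun _ => ℕ) (rowSel280 i)
    (rowSel281 i) (Nat.blt i 139776)) (Nat.blt i 141056))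

/-- A choice of packed blocks. -/
noncomputable def rowSel283 (i : ℕ) : ℕ :=
  (Bool.rec (motive := fun _ => ℕ) rowBlk541
    rowBlk540 (Nat.blt i 138496))

/-- A choice of packed blocks. -/
noncomputable def rowSel284 (i : ℕ) : ℕ :=
  (Bool.rec (motive := fun _ => ℕ) (Bool.rec (motive := fun _ => ℕ) (rowSel283 i)
    rowBlk539 (Nat.blt i 138240))
    (Bool.rec (motive := fun _ => ℕ) rowBlk538
    rowBlk537 (Nat.blt i 137728)) (Nat.blt i 137984))

/-- A choice of packed blocks. -/
noncomputable def rowSel285 (i : ℕ) : ℕ :=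
  (Bool.rec (motive := fun _ => ℕ) (Bool.rec (motive := fun _ => ℕ) rowBlk536
    rowBlk535 (Nat.blt i 137216))
    (Bool.rec (motive := fun _ => ℕ) rowBlk534
    rowBlk533 (Nat.blt i 136704)) (Nat.blt i 136960))

/-- A choice of packed blocks. -/
noncomputable def rowSel286 (i : ℕ) : ℕ :=
  (Bool.rec (motive := fun _ => ℕ) rowBlk532
    rowBlk531 (Nat.blt i 136192))

/-- A choice of packed blocks. -/
noncomputable def rowSel287 (i : ℕ) : ℕ :=
  (Bool.rec (motive := fun _ => ℕ) (Bool.rec (motive := fun _ => ℕ) (rowSel286 i)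
    rowBlk530 (Nat.blt i 135936))
    (Bool.rec (motive := fun _ => ℕ) rowBlk529
    rowBlk528 (Nat.blt i 135424)) (Nat.blt i 135680))

/-- A choice of packed blocks. -/
noncomputable def rowSel288 (i : ℕ) : ℕ :=
  (Bool.rec (motive := fun _ => ℕ) (Bool.rec (motive := fun _ => ℕ) rowBlk527
    rowBlk526 (Nat.blt i 134912))
    (Bool.rec (motive := fun _ => ℕ) rowBlk525
    rowBlk524 (Nat.blt i 134400)) (Nat.blt i 134656))

/-- A choice of packed blocks. -/
noncomputable def rowSel289 (i : ℕ) : ℕ :=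
  (Bool.rec (motive := fun _ => ℕ) (Bool.rec (motive := fun _ => ℕ) (rowSel284 i)
    (rowSel285 i) (Nat.blt i 137472))
    (Bool.rec (motive := fun _ => ℕ) (rowSel287 i)
    (rowSel288 i) (Nat.blt i 135168)) (Nat.blt i 136448))

/-- A choice of packed blocks. -/
noncomputable def rowSel290 (i : ℕ) : ℕ :=
  (Bool.rec (motive := fun _ => ℕ) (Bool.rec (motive := fun _ => ℕ) (rowSel266 i)
    (rowSel274 i) (Nat.blt i 148480))
    (Bool.rec (motive := fun _ => ℕ) (rowSel282 i)
    (rowSel289 i) (Nat.blt i 138752)) (Nat.blt i 143616))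

/-- A choice of packed blocks. -/
noncomputable def rowSel291 (i : ℕ) : ℕ :=
  (Bool.rec (motive := fun _ => ℕ) rowBlk523
    rowBlk522 (Nat.blt i 133888))

/-- A choice of packed blocks. -/
noncomputable def rowSel292 (i : ℕ) : ℕ :=
  (Bool.rec (motive := fun _ => ℕ) (Bool.rec (motive := fun _ => ℕ) (rowSel291 i)
    rowBlk521 (Nat.blt i 133632))
    (Bool.rec (motive := fun _ => ℕ) rowBlk520
    rowBlk519 (Nat.blt i 133120)) (Nat.blt i 133376))

/-- A choice of packed blocks. -/
noncomputable def rowSel293 (i : ℕ) : ℕ :=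
  (Bool.rec (motive := fun _ => ℕ) rowBlk518
    rowBlk517 (Nat.blt i 132608))

/-- A choice of packed blocks. -/
noncomputable def rowSel294 (i : ℕ) : ℕ :=
  (Bool.rec (motive := fun _ => ℕ) (Bool.rec (motive := fun _ => ℕ) (rowSel293 i)
    rowBlk516 (Nat.blt i 132352))
    (Bool.rec (motive := fun _ => ℕ) rowBlk515
    rowBlk514 (Nat.blt i 131840)) (Nat.blt i 132096))

/-- A choice of packed blocks. -/
noncomputable def rowSel295 (i : ℕ) : ℕ :=
  (Bool.rec (motive := fun _ => ℕ) rowBlk513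
    rowBlk512 (Nat.blt i 131328))

/-- A choice of packed blocks. -/
noncomputable def rowSel296 (i : ℕ) : ℕ :=
  (Bool.rec (motive := fun _ => ℕ) (Bool.rec (motive := fun _ => ℕ) (rowSel295 i)
    rowBlk511 (Nat.blt i 131072))
    (Bool.rec (motive := fun _ => ℕ) rowBlk510
    rowBlk509 (Nat.blt i 130560)) (Nat.blt i 130816))

/-- A choice of packed blocks. -/
noncomputable def rowSel297 (i : ℕ) : ℕ :=
  (Bool.rec (motive := fun _ => ℕ) (Bool.rec (motive := fun _ => ℕ) rowBlk508
    rowBlk507 (Nat.blt i 130048))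
    (Bool.rec (motive := fun _ => ℕ) rowBlk506
    rowBlk505 (Nat.blt i 129536)) (Nat.blt i 129792))

/-- A choice of packed blocks. -/
noncomputable def rowSel298 (i : ℕ) : ℕ :=
  (Bool.rec (motive := fun _ => ℕ) (Bool.rec (motive := fun _ => ℕ) (rowSel292 i)
    (rowSel294 i) (Nat.blt i 132864))
    (Bool.rec (motive := fun _ => ℕ) (rowSel296 i)
    (rowSel297 i) (Nat.blt i 130304)) (Nat.blt i 131584))

/-- A choice of packed blocks. -/
noncomputable def rowSel299 (i : ℕ) : ℕ :=
  (Bool.rec (motive := fun _ => ℕ) rowBlk504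
    rowBlk503 (Nat.blt i 129024))

/-- A choice of packed blocks. -/
noncomputable def rowSel300 (i : ℕ) : ℕ :=
  (Bool.rec (motive := fun _ => ℕ) (Bool.rec (motive := fun _ => ℕ) (rowSel299 i)
    rowBlk502 (Nat.blt i 128768))
    (Bool.rec (motive := fun _ => ℕ) rowBlk501
    rowBlk500 (Nat.blt i 128256)) (Nat.blt i 128512))

/-- A choice of packed blocks. -/
noncomputable def rowSel301 (i : ℕ) : ℕ :=
  (Bool.rec (motive := fun _ => ℕ) rowBlk499
    rowBlk498 (Nat.blt i 127744))

/-- A choice of packed blocks. -/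
noncomputable def rowSel302 (i : ℕ) : ℕ :=
  (Bool.rec (motive := fun _ => ℕ) (Bool.rec (motive := fun _ => ℕ) (rowSel301 i)
    rowBlk497 (Nat.blt i 127488))
    (Bool.rec (motive := fun _ => ℕ) rowBlk496
    rowBlk495 (Nat.blt i 126976)) (Nat.blt i 127232))

/-- A choice of packed blocks. -/
noncomputable def rowSel303 (i : ℕ) : ℕ :=
  (Bool.rec (motive := fun _ => ℕ) rowBlk494
    rowBlk493 (Nat.blt i 126464))

/-- A choice of packed blocks. -/
noncomputable def rowSel304 (i : ℕ) : ℕ :=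
  (Bool.rec (motive := fun _ => ℕ) (Bool.rec (motive := fun _ => ℕ) (rowSel303 i)
    rowBlk492 (Nat.blt i 126208))
    (Bool.rec (motive := fun _ => ℕ) rowBlk491
    rowBlk490 (Nat.blt i 125696)) (Nat.blt i 125952))

/-- A choice of packed blocks. -/
noncomputable def rowSel305 (i : ℕ) : ℕ :=
  (Bool.rec (motive := fun _ => ℕ) (Bool.rec (motive := fun _ => ℕ) rowBlk489
    rowBlk488 (Nat.blt i 125184))
    (Bool.rec (motive := fun _ => ℕ) rowBlk487
    rowBlk486 (Nat.blt i 124672)) (Nat.blt i 124928))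

/-- A choice of packed blocks. -/
noncomputable def rowSel306 (i : ℕ) : ℕ :=
  (Bool.rec (motive := fun _ => ℕ) (Bool.rec (motive := fun _ => ℕ) (rowSel300 i)
    (rowSel302 i) (Nat.blt i 128000))
    (Bool.rec (motive := fun _ => ℕ) (rowSel304 i)
    (rowSel305 i) (Nat.blt i 125440)) (Nat.blt i 126720))

/-- A choice of packed blocks. -/
noncomputable def rowSel307 (i : ℕ) : ℕ :=
  (Bool.rec (motive := fun _ => ℕ) rowBlk485
    rowBlk484 (Nat.blt i 124160))

/-- A choice of packed blocks. -/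
noncomputable def rowSel308 (i : ℕ) : ℕ :=
  (Bool.rec (motive := fun _ => ℕ) (Bool.rec (motive := fun _ => ℕ) (rowSel307 i)
    rowBlk483 (Nat.blt i 123904))
    (Bool.rec (motive := fun _ => ℕ) rowBlk482
    rowBlk481 (Nat.blt i 123392)) (Nat.blt i 123648))

/-- A choice of packed blocks. -/
noncomputable def rowSel309 (i : ℕ) : ℕ :=
  (Bool.rec (motive := fun _ => ℕ) rowBlk480
    rowBlk479 (Nat.blt i 122880))

/-- A choice of packed blocks. -/
noncomputable def rowSel310 (i : ℕ) : ℕ :=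
  (Bool.rec (motive := fun _ => ℕ) (Bool.rec (motive := fun _ => ℕ) (rowSel309 i)
    rowBlk478 (Nat.blt i 122624))
    (Bool.rec (motive := fun _ => ℕ) rowBlk477
    rowBlk476 (Nat.blt i 122112)) (Nat.blt i 122368))

/-- A choice of packed blocks. -/
noncomputable def rowSel311 (i : ℕ) : ℕ :=
  (Bool.rec (motive := fun _ => ℕ) rowBlk475
    rowBlk474 (Nat.blt i 121600))

/-- A choice of packed blocks. -/
noncomputable def rowSel312 (i : ℕ) : ℕ :=
  (Bool.rec (motive := fun _ => ℕ) (Bool.rec (motive := fun _ => ℕ) (rowSel311 i)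
    rowBlk473 (Nat.blt i 121344))
    (Bool.rec (motive := fun _ => ℕ) rowBlk472
    rowBlk471 (Nat.blt i 120832)) (Nat.blt i 121088))

/-- A choice of packed blocks. -/
noncomputable def rowSel313 (i : ℕ) : ℕ :=
  (Bool.rec (motive := fun _ => ℕ) (Bool.rec (motive := fun _ => ℕ) rowBlk470
    rowBlk469 (Nat.blt i 120320))
    (Bool.rec (motive := fun _ => ℕ) rowBlk468
    rowBlk467 (Nat.blt i 119808)) (Nat.blt i 120064))

/-- A choice of packed blocks. -/
noncomputable def rowSel314 (i : ℕ) : ℕ :=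
  (Bool.rec (motive := fun _ => ℕ) (Bool.rec (motive := fun _ => ℕ) (rowSel308 i)
    (rowSel310 i) (Nat.blt i 123136))
    (Bool.rec (motive := fun _ => ℕ) (rowSel312 i)
    (rowSel313 i) (Nat.blt i 120576)) (Nat.blt i 121856))

/-- A choice of packed blocks. -/
noncomputable def rowSel315 (i : ℕ) : ℕ :=
  (Bool.rec (motive := fun _ => ℕ) rowBlk466
    rowBlk465 (Nat.blt i 119296))

/-- A choice of packed blocks. -/
noncomputable def rowSel316 (i : ℕ) : ℕ :=
  (Bool.rec (motive := fun _ => ℕ) (Bool.rec (motive := fun _ => ℕ) (rowSel315 i)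
    rowBlk464 (Nat.blt i 119040))
    (Bool.rec (motive := fun _ => ℕ) rowBlk463
    rowBlk462 (Nat.blt i 118528)) (Nat.blt i 118784))

/-- A choice of packed blocks. -/
noncomputable def rowSel317 (i : ℕ) : ℕ :=
  (Bool.rec (motive := fun _ => ℕ) (Bool.rec (motive := fun _ => ℕ) rowBlk461
    rowBlk460 (Nat.blt i 118016))
    (Bool.rec (motive := fun _ => ℕ) rowBlk459
    rowBlk458 (Nat.blt i 117504)) (Nat.blt i 117760))

/-- A choice of packed blocks. -/
noncomputable def rowSel318 (i : ℕ) : ℕ :=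
  (Bool.rec (motive := fun _ => ℕ) rowBlk457
    rowBlk456 (Nat.blt i 116992))

/-- A choice of packed blocks. -/
noncomputable def rowSel319 (i : ℕ) : ℕ :=
  (Bool.rec (motive := fun _ => ℕ) (Bool.rec (motive := fun _ => ℕ) (rowSel318 i)
    rowBlk455 (Nat.blt i 116736))
    (Bool.rec (motive := fun _ => ℕ) rowBlk454
    rowBlk453 (Nat.blt i 116224)) (Nat.blt i 116480))

/-- A choice of packed blocks. -/
noncomputable def rowSel320 (i : ℕ) : ℕ :=
  (Bool.rec (motive := fun _ => ℕ) (Bool.rec (motive := fun _ => ℕ) rowBlk452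
    rowBlk451 (Nat.blt i 115712))
    (Bool.rec (motive := fun _ => ℕ) rowBlk450
    rowBlk449 (Nat.blt i 115200)) (Nat.blt i 115456))

/-- A choice of packed blocks. -/
noncomputable def rowSel321 (i : ℕ) : ℕ :=
  (Bool.rec (motive := fun _ => ℕ) (Bool.rec (motive := fun _ => ℕ) (rowSel316 i)
    (rowSel317 i) (Nat.blt i 118272))
    (Bool.rec (motive := fun _ => ℕ) (rowSel319 i)
    (rowSel320 i) (Nat.blt i 115968)) (Nat.blt i 117248))

/-- A choice of packed blocks. -/
noncomputable def rowSel322 (i : ℕ) : ℕ :=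
  (Bool.rec (motive := fun _ => ℕ) (Bool.rec (motive := fun _ => ℕ) (rowSel298 i)
    (rowSel306 i) (Nat.blt i 129280))
    (Bool.rec (motive := fun _ => ℕ) (rowSel314 i)
    (rowSel321 i) (Nat.blt i 119552)) (Nat.blt i 124416))

/-- A choice of packed blocks. -/
noncomputable def rowSel323 (i : ℕ) : ℕ :=
  (Bool.rec (motive := fun _ => ℕ) rowBlk448
    rowBlk447 (Nat.blt i 114688))

/-- A choice of packed blocks. -/
noncomputable def rowSel324 (i : ℕ) : ℕ :=
  (Bool.rec (motive := fun _ => ℕ) (Bool.rec (motive := fun _ => ℕ) (rowSel323 i)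
    rowBlk446 (Nat.blt i 114432))
    (Bool.rec (motive := fun _ => ℕ) rowBlk445
    rowBlk444 (Nat.blt i 113920)) (Nat.blt i 114176))

/-- A choice of packed blocks. -/
noncomputable def rowSel325 (i : ℕ) : ℕ :=
  (Bool.rec (motive := fun _ => ℕ) rowBlk443
    rowBlk442 (Nat.blt i 113408))

/-- A choice of packed blocks. -/
noncomputable def rowSel326 (i : ℕ) : ℕ :=
  (Bool.rec (motive := fun _ => ℕ) (Bool.rec (motive := fun _ => ℕ) (rowSel325 i)
    rowBlk441 (Nat.blt i 113152))
    (Bool.rec (motive := fun _ => ℕ) rowBlk440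
    rowBlk439 (Nat.blt i 112640)) (Nat.blt i 112896))

/-- A choice of packed blocks. -/
noncomputable def rowSel327 (i : ℕ) : ℕ :=
  (Bool.rec (motive := fun _ => ℕ) rowBlk438
    rowBlk437 (Nat.blt i 112128))

/-- A choice of packed blocks. -/
noncomputable def rowSel328 (i : ℕ) : ℕ :=
  (Bool.rec (motive := fun _ => ℕ) (Bool.rec (motive := fun _ => ℕ) (rowSel327 i)
    rowBlk436 (Nat.blt i 111872))
    (Bool.rec (motive := fun _ => ℕ) rowBlk435
    rowBlk434 (Nat.blt i 111360)) (Nat.blt i 111616))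

/-- A choice of packed blocks. -/
noncomputable def rowSel329 (i : ℕ) : ℕ :=
  (Bool.rec (motive := fun _ => ℕ) (Bool.rec (motive := fun _ => ℕ) rowBlk433
    rowBlk432 (Nat.blt i 110848))
    (Bool.rec (motive := fun _ => ℕ) rowBlk431
    rowBlk430 (Nat.blt i 110336)) (Nat.blt i 110592))

/-- A choice of packed blocks. -/
noncomputable def rowSel330 (i : ℕ) : ℕ :=
  (Bool.rec (motive := fun _ => ℕ) (Bool.rec (motive := fun _ => ℕ) (rowSel324 i)
    (rowSel326 i) (Nat.blt i 113664))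
    (Bool.rec (motive := fun _ => ℕ) (rowSel328 i)
    (rowSel329 i) (Nat.blt i 111104)) (Nat.blt i 112384))

/-- A choice of packed blocks. -/
noncomputable def rowSel331 (i : ℕ) : ℕ :=
  (Bool.rec (motive := fun _ => ℕ) rowBlk429
    rowBlk428 (Nat.blt i 109824))

/-- A choice of packed blocks. -/
noncomputable def rowSel332 (i : ℕ) : ℕ :=
  (Bool.rec (motive := fun _ => ℕ) (Bool.rec (motive := fun _ => ℕ) (rowSel331 i)
    rowBlk427 (Nat.blt i 109568))
    (Bool.rec (motive := fun _ => ℕ) rowBlk426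
    rowBlk425 (Nat.blt i 109056)) (Nat.blt i 109312))

/-- A choice of packed blocks. -/
noncomputable def rowSel333 (i : ℕ) : ℕ :=
  (Bool.rec (motive := fun _ => ℕ) rowBlk424
    rowBlk423 (Nat.blt i 108544))

/-- A choice of packed blocks. -/
noncomputable def rowSel334 (i : ℕ) : ℕ :=
  (Bool.rec (motive := fun _ => ℕ) (Bool.rec (motive := fun _ => ℕ) (rowSel333 i)
    rowBlk422 (Nat.blt i 108288))
    (Bool.rec (motive := fun _ => ℕ) rowBlk421
    rowBlk420 (Nat.blt i 107776)) (Nat.blt i 108032))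

/-- A choice of packed blocks. -/
noncomputable def rowSel335 (i : ℕ) : ℕ :=
  (Bool.rec (motive := fun _ => ℕ) rowBlk419
    rowBlk418 (Nat.blt i 107264))

/-- A choice of packed blocks. -/
noncomputable def rowSel336 (i : ℕ) : ℕ :=
  (Bool.rec (motive := fun _ => ℕ) (Bool.rec (motive := fun _ => ℕ) (rowSel335 i)
    rowBlk417 (Nat.blt i 107008))
    (Bool.rec (motive := fun _ => ℕ) rowBlk416
    rowBlk415 (Nat.blt i 106496)) (Nat.blt i 106752))

/-- A choice of packed blocks. -/
noncomputable def rowSel337 (i : ℕ) : ℕ :=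
  (Bool.rec (motive := fun _ => ℕ) (Bool.rec (motive := fun _ => ℕ) rowBlk414
    rowBlk413 (Nat.blt i 105984))
    (Bool.rec (motive := fun _ => ℕ) rowBlk412
    rowBlk411 (Nat.blt i 105472)) (Nat.blt i 105728))

/-- A choice of packed blocks. -/
noncomputable def rowSel338 (i : ℕ) : ℕ :=
  (Bool.rec (motive := fun _ => ℕ) (Bool.rec (motive := fun _ => ℕ) (rowSel332 i)
    (rowSel334 i) (Nat.blt i 108800))
    (Bool.rec (motive := fun _ => ℕ) (rowSel336 i)
    (rowSel337 i) (Nat.blt i 106240)) (Nat.blt i 107520))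

/-- A choice of packed blocks. -/
noncomputable def rowSel339 (i : ℕ) : ℕ :=
  (Bool.rec (motive := fun _ => ℕ) rowBlk410
    rowBlk409 (Nat.blt i 104960))

/-- A choice of packed blocks. -/
noncomputable def rowSel340 (i : ℕ) : ℕ :=
  (Bool.rec (motive := fun _ => ℕ) (Bool.rec (motive := fun _ => ℕ) (rowSel339 i)
    rowBlk408 (Nat.blt i 104704))
    (Bool.rec (motive := fun _ => ℕ) rowBlk407
    rowBlk406 (Nat.blt i 104192)) (Nat.blt i 104448))

/-- A choice of packed blocks. -/
noncomputable def rowSel341 (i : ℕ) : ℕ :=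
  (Bool.rec (motive := fun _ => ℕ) rowBlk405
    rowBlk404 (Nat.blt i 103680))

/-- A choice of packed blocks. -/
noncomputable def rowSel342 (i : ℕ) : ℕ :=
  (Bool.rec (motive := fun _ => ℕ) (Bool.rec (motive := fun _ => ℕ) (rowSel341 i)
    rowBlk403 (Nat.blt i 103424))
    (Bool.rec (motive := fun _ => ℕ) rowBlk402
    rowBlk401 (Nat.blt i 102912)) (Nat.blt i 103168))

/-- A choice of packed blocks. -/
noncomputable def rowSel343 (i : ℕ) : ℕ :=
  (Bool.rec (motive := fun _ => ℕ) rowBlk400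
    rowBlk399 (Nat.blt i 102400))

/-- A choice of packed blocks. -/
noncomputable def rowSel344 (i : ℕ) : ℕ :=
  (Bool.rec (motive := fun _ => ℕ) (Bool.rec (motive := fun _ => ℕ) (rowSel343 i)
    rowBlk398 (Nat.blt i 102144))
    (Bool.rec (motive := fun _ => ℕ) rowBlk397
    rowBlk396 (Nat.blt i 101632)) (Nat.blt i 101888))

/-- A choice of packed blocks. -/
noncomputable def rowSel345 (i : ℕ) : ℕ :=
  (Bool.rec (motive := fun _ => ℕ) (Bool.rec (motive := fun _ => ℕ) rowBlk395
    rowBlk394 (Nat.blt i 101120))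
    (Bool.rec (motive := fun _ => ℕ) rowBlk393
    rowBlk392 (Nat.blt i 100608)) (Nat.blt i 100864))

/-- A choice of packed blocks. -/
noncomputable def rowSel346 (i : ℕ) : ℕ :=
  (Bool.rec (motive := fun _ => ℕ) (Bool.rec (motive := fun _ => ℕ) (rowSel340 i)
    (rowSel342 i) (Nat.blt i 103936))
    (Bool.rec (motive := fun _ => ℕ) (rowSel344 i)
    (rowSel345 i) (Nat.blt i 101376)) (Nat.blt i 102656))

/-- A choice of packed blocks. -/
noncomputable def rowSel347 (i : ℕ) : ℕ :=
  (Bool.rec (motive := fun _ => ℕ) rowBlk391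
    rowBlk390 (Nat.blt i 100096))

/-- A choice of packed blocks. -/
noncomputable def rowSel348 (i : ℕ) : ℕ :=
  (Bool.rec (motive := fun _ => ℕ) (Bool.rec (motive := fun _ => ℕ) (rowSel347 i)
    rowBlk389 (Nat.blt i 99840))
    (Bool.rec (motive := fun _ => ℕ) rowBlk388
    rowBlk387 (Nat.blt i 99328)) (Nat.blt i 99584))

/-- A choice of packed blocks. -/
noncomputable def rowSel349 (i : ℕ) : ℕ :=
  (Bool.rec (motive := fun _ => ℕ) (Bool.rec (motive := fun _ => ℕ) rowBlk386
    rowBlk385 (Nat.blt i 98816))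
    (Bool.rec (motive := fun _ => ℕ) rowBlk384
    rowBlk383 (Nat.blt i 98304)) (Nat.blt i 98560))

/-- A choice of packed blocks. -/
noncomputable def rowSel350 (i : ℕ) : ℕ :=
  (Bool.rec (motive := fun _ => ℕ) rowBlk382
    rowBlk381 (Nat.blt i 97792))

/-- A choice of packed blocks. -/
noncomputable def rowSel351 (i : ℕ) : ℕ :=
  (Bool.rec (motive := fun _ => ℕ) (Bool.rec (motive := fun _ => ℕ) (rowSel350 i)
    rowBlk380 (Nat.blt i 97536))
    (Bool.rec (motive := fun _ => ℕ) rowBlk379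
    rowBlk378 (Nat.blt i 97024)) (Nat.blt i 97280))

/-- A choice of packed blocks. -/
noncomputable def rowSel352 (i : ℕ) : ℕ :=
  (Bool.rec (motive := fun _ => ℕ) (Bool.rec (motive := fun _ => ℕ) rowBlk377
    rowBlk376 (Nat.blt i 96512))
    (Bool.rec (motive := fun _ => ℕ) rowBlk375
    rowBlk374 (Nat.blt i 96000)) (Nat.blt i 96256))

/-- A choice of packed blocks. -/
noncomputable def rowSel353 (i : ℕ) : ℕ :=
  (Bool.rec (motive := fun _ => ℕ) (Bool.rec (motive := fun _ => ℕ) (rowSel348 i)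
    (rowSel349 i) (Nat.blt i 99072))
    (Bool.rec (motive := fun _ => ℕ) (rowSel351 i)
    (rowSel352 i) (Nat.blt i 96768)) (Nat.blt i 98048))

/-- A choice of packed blocks. -/
noncomputable def rowSel354 (i : ℕ) : ℕ :=
  (Bool.rec (motive := fun _ => ℕ) (Bool.rec (motive := fun _ => ℕ) (rowSel330 i)
    (rowSel338 i) (Nat.blt i 110080))
    (Bool.rec (motive := fun _ => ℕ) (rowSel346 i)
    (rowSel353 i) (Nat.blt i 100352)) (Nat.blt i 105216))

/-- A choice of packed blocks. -/
noncomputable def rowSel355 (i : ℕ) : ℕ :=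
  (Bool.rec (motive := fun _ => ℕ) rowBlk373
    rowBlk372 (Nat.blt i 95488))

/-- A choice of packed blocks. -/
noncomputable def rowSel356 (i : ℕ) : ℕ :=
  (Bool.rec (motive := fun _ => ℕ) (Bool.rec (motive := fun _ => ℕ) (rowSel355 i)
    rowBlk371 (Nat.blt i 95232))
    (Bool.rec (motive := fun _ => ℕ) rowBlk370
    rowBlk369 (Nat.blt i 94720)) (Nat.blt i 94976))

/-- A choice of packed blocks. -/
noncomputable def rowSel357 (i : ℕ) : ℕ :=
  (Bool.rec (motive := fun _ => ℕ) rowBlk368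
    rowBlk367 (Nat.blt i 94208))

/-- A choice of packed blocks. -/
noncomputable def rowSel358 (i : ℕ) : ℕ :=
  (Bool.rec (motive := fun _ => ℕ) (Bool.rec (motive := fun _ => ℕ) (rowSel357 i)
    rowBlk366 (Nat.blt i 93952))
    (Bool.rec (motive := fun _ => ℕ) rowBlk365
    rowBlk364 (Nat.blt i 93440)) (Nat.blt i 93696))

/-- A choice of packed blocks. -/
noncomputable def rowSel359 (i : ℕ) : ℕ :=
  (Bool.rec (motive := fun _ => ℕ) rowBlk363
    rowBlk362 (Nat.blt i 92928))

/-- A choice of packed blocks. -/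
noncomputable def rowSel360 (i : ℕ) : ℕ :=
  (Bool.rec (motive := fun _ => ℕ) (Bool.rec (motive := fun _ => ℕ) (rowSel359 i)
    rowBlk361 (Nat.blt i 92672))
    (Bool.rec (motive := fun _ => ℕ) rowBlk360
    rowBlk359 (Nat.blt i 92160)) (Nat.blt i 92416))

/-- A choice of packed blocks. -/
noncomputable def rowSel361 (i : ℕ) : ℕ :=
  (Bool.rec (motive := fun _ => ℕ) (Bool.rec (motive := fun _ => ℕ) rowBlk358
    rowBlk357 (Nat.blt i 91648))
    (Bool.rec (motive := fun _ => ℕ) rowBlk356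
    rowBlk355 (Nat.blt i 91136)) (Nat.blt i 91392))

/-- A choice of packed blocks. -/
noncomputable def rowSel362 (i : ℕ) : ℕ :=
  (Bool.rec (motive := fun _ => ℕ) (Bool.rec (motive := fun _ => ℕ) (rowSel356 i)
    (rowSel358 i) (Nat.blt i 94464))
    (Bool.rec (motive := fun _ => ℕ) (rowSel360 i)
    (rowSel361 i) (Nat.blt i 91904)) (Nat.blt i 93184))

/-- A choice of packed blocks. -/
noncomputable def rowSel363 (i : ℕ) : ℕ :=
  (Bool.rec (motive := fun _ => ℕ) rowBlk354
    rowBlk353 (Nat.blt i 90624))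

/-- A choice of packed blocks. -/
noncomputable def rowSel364 (i : ℕ) : ℕ :=
  (Bool.rec (motive := fun _ => ℕ) (Bool.rec (motive := fun _ => ℕ) (rowSel363 i)
    rowBlk352 (Nat.blt i 90368))
    (Bool.rec (motive := fun _ => ℕ) rowBlk351
    rowBlk350 (Nat.blt i 89856)) (Nat.blt i 90112))

/-- A choice of packed blocks. -/
noncomputable def rowSel365 (i : ℕ) : ℕ :=
  (Bool.rec (motive := fun _ => ℕ) rowBlk349
    rowBlk348 (Nat.blt i 89344))

/-- A choice of packed blocks. -/
noncomputable def rowSel366 (i : ℕ) : ℕ :=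
  (Bool.rec (motive := fun _ => ℕ) (Bool.rec (motive := fun _ => ℕ) (rowSel365 i)
    rowBlk347 (Nat.blt i 89088))
    (Bool.rec (motive := fun _ => ℕ) rowBlk346
    rowBlk345 (Nat.blt i 88576)) (Nat.blt i 88832))

/-- A choice of packed blocks. -/
noncomputable def rowSel367 (i : ℕ) : ℕ :=
  (Bool.rec (motive := fun _ => ℕ) rowBlk344
    rowBlk343 (Nat.blt i 88064))

/-- A choice of packed blocks. -/
noncomputable def rowSel368 (i : ℕ) : ℕ :=
  (Bool.rec (motive := fun _ => ℕ) (Bool.rec (motive := fun _ => ℕ) (rowSel367 i)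
    rowBlk342 (Nat.blt i 87808))
    (Bool.rec (motive := fun _ => ℕ) rowBlk341
    rowBlk340 (Nat.blt i 87296)) (Nat.blt i 87552))

/-- A choice of packed blocks. -/
noncomputable def rowSel369 (i : ℕ) : ℕ :=
  (Bool.rec (motive := fun _ => ℕ) (Bool.rec (motive := fun _ => ℕ) rowBlk339
    rowBlk338 (Nat.blt i 86784))
    (Bool.rec (motive := fun _ => ℕ) rowBlk337
    rowBlk336 (Nat.blt i 86272)) (Nat.blt i 86528))

/-- A choice of packed blocks. -/
noncomputable def rowSel370 (i : ℕ) : ℕ :=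
  (Bool.rec (motive := fun _ => ℕ) (Bool.rec (motive := fun _ => ℕ) (rowSel364 i)
    (rowSel366 i) (Nat.blt i 89600))
    (Bool.rec (motive := fun _ => ℕ) (rowSel368 i)
    (rowSel369 i) (Nat.blt i 87040)) (Nat.blt i 88320))

/-- A choice of packed blocks. -/
noncomputable def rowSel371 (i : ℕ) : ℕ :=
  (Bool.rec (motive := fun _ => ℕ) rowBlk335
    rowBlk334 (Nat.blt i 85760))

/-- A choice of packed blocks. -/
noncomputable def rowSel372 (i : ℕ) : ℕ :=
  (Bool.rec (motive := fun _ => ℕ) (Bool.rec (motive := fun _ => ℕ) (rowSel371 i)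
    rowBlk333 (Nat.blt i 85504))
    (Bool.rec (motive := fun _ => ℕ) rowBlk332
    rowBlk331 (Nat.blt i 84992)) (Nat.blt i 85248))

/-- A choice of packed blocks. -/
noncomputable def rowSel373 (i : ℕ) : ℕ :=
  (Bool.rec (motive := fun _ => ℕ) rowBlk330
    rowBlk329 (Nat.blt i 84480))

/-- A choice of packed blocks. -/
noncomputable def rowSel374 (i : ℕ) : ℕ :=
  (Bool.rec (motive := fun _ => ℕ) (Bool.rec (motive := fun _ => ℕ) (rowSel373 i)
    rowBlk328 (Nat.blt i 84224))
    (Bool.rec (motive := fun _ => ℕ) rowBlk327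
    rowBlk326 (Nat.blt i 83712)) (Nat.blt i 83968))

/-- A choice of packed blocks. -/
noncomputable def rowSel375 (i : ℕ) : ℕ :=
  (Bool.rec (motive := fun _ => ℕ) rowBlk325
    rowBlk324 (Nat.blt i 83200))

/-- A choice of packed blocks. -/
noncomputable def rowSel376 (i : ℕ) : ℕ :=
  (Bool.rec (motive := fun _ => ℕ) (Bool.rec (motive := fun _ => ℕ) (rowSel375 i)
    rowBlk323 (Nat.blt i 82944))
    (Bool.rec (motive := fun _ => ℕ) rowBlk322
    rowBlk321 (Nat.blt i 82432)) (Nat.blt i 82688))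

/-- A choice of packed blocks. -/
noncomputable def rowSel377 (i : ℕ) : ℕ :=
  (Bool.rec (motive := fun _ => ℕ) (Bool.rec (motive := fun _ => ℕ) rowBlk320
    rowBlk319 (Nat.blt i 81920))
    (Bool.rec (motive := fun _ => ℕ) rowBlk318
    rowBlk317 (Nat.blt i 81408)) (Nat.blt i 81664))

/-- A choice of packed blocks. -/
noncomputable def rowSel378 (i : ℕ) : ℕ :=
  (Bool.rec (motive := fun _ => ℕ) (Bool.rec (motive := fun _ => ℕ) (rowSel372 i)
    (rowSel374 i) (Nat.blt i 84736))
    (Bool.rec (motive := fun _ => ℕ) (rowSel376 i)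
    (rowSel377 i) (Nat.blt i 82176)) (Nat.blt i 83456))

/-- A choice of packed blocks. -/
noncomputable def rowSel379 (i : ℕ) : ℕ :=
  (Bool.rec (motive := fun _ => ℕ) rowBlk316
    rowBlk315 (Nat.blt i 80896))

/-- A choice of packed blocks. -/
noncomputable def rowSel380 (i : ℕ) : ℕ :=
  (Bool.rec (motive := fun _ => ℕ) (Bool.rec (motive := fun _ => ℕ) (rowSel379 i)
    rowBlk314 (Nat.blt i 80640))
    (Bool.rec (motive := fun _ => ℕ) rowBlk313
    rowBlk312 (Nat.blt i 80128)) (Nat.blt i 80384))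

/-- A choice of packed blocks. -/
noncomputable def rowSel381 (i : ℕ) : ℕ :=
  (Bool.rec (motive := fun _ => ℕ) (Bool.rec (motive := fun _ => ℕ) rowBlk311
    rowBlk310 (Nat.blt i 79616))
    (Bool.rec (motive := fun _ => ℕ) rowBlk309
    rowBlk308 (Nat.blt i 79104)) (Nat.blt i 79360))

/-- A choice of packed blocks. -/
noncomputable def rowSel382 (i : ℕ) : ℕ :=
  (Bool.rec (motive := fun _ => ℕ) rowBlk307
    rowBlk306 (Nat.blt i 78592))

/-- A choice of packed blocks. -/
noncomputable def rowSel383 (i : ℕ) : ℕ :=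
  (Bool.rec (motive := fun _ => ℕ) (Bool.rec (motive := fun _ => ℕ) (rowSel382 i)
    rowBlk305 (Nat.blt i 78336))
    (Bool.rec (motive := fun _ => ℕ) rowBlk304
    rowBlk303 (Nat.blt i 77824)) (Nat.blt i 78080))

/-- A choice of packed blocks. -/
noncomputable def rowSel384 (i : ℕ) : ℕ :=
  (Bool.rec (motive := fun _ => ℕ) (Bool.rec (motive := fun _ => ℕ) rowBlk302
    rowBlk301 (Nat.blt i 77312))
    (Bool.rec (motive := fun _ => ℕ) rowBlk300
    rowBlk299 (Nat.blt i 76800)) (Nat.blt i 77056))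

/-- A choice of packed blocks. -/
noncomputable def rowSel385 (i : ℕ) : ℕ :=
  (Bool.rec (motive := fun _ => ℕ) (Bool.rec (motive := fun _ => ℕ) (rowSel380 i)
    (rowSel381 i) (Nat.blt i 79872))
    (Bool.rec (motive := fun _ => ℕ) (rowSel383 i)
    (rowSel384 i) (Nat.blt i 77568)) (Nat.blt i 78848))

/-- A choice of packed blocks. -/
noncomputable def rowSel386 (i : ℕ) : ℕ :=
  (Bool.rec (motive := fun _ => ℕ) (Bool.rec (motive := fun _ => ℕ) (rowSel362 i)
    (rowSel370 i) (Nat.blt i 90880))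
    (Bool.rec (motive := fun _ => ℕ) (rowSel378 i)
    (rowSel385 i) (Nat.blt i 81152)) (Nat.blt i 86016))

/-- A choice of packed blocks. -/
noncomputable def rowSel387 (i : ℕ) : ℕ :=
  (Bool.rec (motive := fun _ => ℕ) (Bool.rec (motive := fun _ => ℕ) (rowSel290 i)
    (rowSel322 i) (Nat.blt i 134144))
    (Bool.rec (motive := fun _ => ℕ) (rowSel354 i)
    (rowSel386 i) (Nat.blt i 95744)) (Nat.blt i 114944))

/-- A choice of packed blocks. -/
noncomputable def rowSel388 (i : ℕ) : ℕ :=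
  (Bool.rec (motive := fun _ => ℕ) rowBlk298
    rowBlk297 (Nat.blt i 76288))

/-- A choice of packed blocks. -/
noncomputable def rowSel389 (i : ℕ) : ℕ :=
  (Bool.rec (motive := fun _ => ℕ) (Bool.rec (motive := fun _ => ℕ) (rowSel388 i)
    rowBlk296 (Nat.blt i 76032))
    (Bool.rec (motive := fun _ => ℕ) rowBlk295
    rowBlk294 (Nat.blt i 75520)) (Nat.blt i 75776))

/-- A choice of packed blocks. -/
noncomputable def rowSel390 (i : ℕ) : ℕ :=
  (Bool.rec (motive := fun _ => ℕ) rowBlk293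
    rowBlk292 (Nat.blt i 75008))

/-- A choice of packed blocks. -/
noncomputable def rowSel391 (i : ℕ) : ℕ :=
  (Bool.rec (motive := fun _ => ℕ) (Bool.rec (motive := fun _ => ℕ) (rowSel390 i)
    rowBlk291 (Nat.blt i 74752))
    (Bool.rec (motive := fun _ => ℕ) rowBlk290
    rowBlk289 (Nat.blt i 74240)) (Nat.blt i 74496))

/-- A choice of packed blocks. -/
noncomputable def rowSel392 (i : ℕ) : ℕ :=
  (Bool.rec (motive := fun _ => ℕ) rowBlk288
    rowBlk287 (Nat.blt i 73728))

/-- A choice of packed blocks. -/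
noncomputable def rowSel393 (i : ℕ) : ℕ :=
  (Bool.rec (motive := fun _ => ℕ) (Bool.rec (motive := fun _ => ℕ) (rowSel392 i)
    rowBlk286 (Nat.blt i 73472))
    (Bool.rec (motive := fun _ => ℕ) rowBlk285
    rowBlk284 (Nat.blt i 72960)) (Nat.blt i 73216))

/-- A choice of packed blocks. -/
noncomputable def rowSel394 (i : ℕ) : ℕ :=
  (Bool.rec (motive := fun _ => ℕ) (Bool.rec (motive := fun _ => ℕ) rowBlk283
    rowBlk282 (Nat.blt i 72448))
    (Bool.rec (motive := fun _ => ℕ) rowBlk281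
    rowBlk280 (Nat.blt i 71936)) (Nat.blt i 72192))

/-- A choice of packed blocks. -/
noncomputable def rowSel395 (i : ℕ) : ℕ :=
  (Bool.rec (motive := fun _ => ℕ) (Bool.rec (motive := fun _ => ℕ) (rowSel389 i)
    (rowSel391 i) (Nat.blt i 75264))
    (Bool.rec (motive := fun _ => ℕ) (rowSel393 i)
    (rowSel394 i) (Nat.blt i 72704)) (Nat.blt i 73984))

/-- A choice of packed blocks. -/
noncomputable def rowSel396 (i : ℕ) : ℕ :=
  (Bool.rec (motive := fun _ => ℕ) rowBlk279
    rowBlk278 (Nat.blt i 71424))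

/-- A choice of packed blocks. -/
noncomputable def rowSel397 (i : ℕ) : ℕ :=
  (Bool.rec (motive := fun _ => ℕ) (Bool.rec (motive := fun _ => ℕ) (rowSel396 i)
    rowBlk277 (Nat.blt i 71168))
    (Bool.rec (motive := fun _ => ℕ) rowBlk276
    rowBlk275 (Nat.blt i 70656)) (Nat.blt i 70912))

/-- A choice of packed blocks. -/
noncomputable def rowSel398 (i : ℕ) : ℕ :=
  (Bool.rec (motive := fun _ => ℕ) rowBlk274
    rowBlk273 (Nat.blt i 70144))

/-- A choice of packed blocks. -/
noncomputable def rowSel399 (i : ℕ) : ℕ :=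
  (Bool.rec (motive := fun _ => ℕ) (Bool.rec (motive := fun _ => ℕ) (rowSel398 i)
    rowBlk272 (Nat.blt i 69888))
    (Bool.rec (motive := fun _ => ℕ) rowBlk271
    rowBlk270 (Nat.blt i 69376)) (Nat.blt i 69632))

/-- A choice of packed blocks. -/
noncomputable def rowSel400 (i : ℕ) : ℕ :=
  (Bool.rec (motive := fun _ => ℕ) rowBlk269
    rowBlk268 (Nat.blt i 68864))

/-- A choice of packed blocks. -/
noncomputable def rowSel401 (i : ℕ) : ℕ :=
  (Bool.rec (motive := fun _ => ℕ) (Bool.rec (motive := fun _ => ℕ) (rowSel400 i)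
    rowBlk267 (Nat.blt i 68608))
    (Bool.rec (motive := fun _ => ℕ) rowBlk266
    rowBlk265 (Nat.blt i 68096)) (Nat.blt i 68352))

/-- A choice of packed blocks. -/
noncomputable def rowSel402 (i : ℕ) : ℕ :=
  (Bool.rec (motive := fun _ => ℕ) (Bool.rec (motive := fun _ => ℕ) rowBlk264
    rowBlk263 (Nat.blt i 67584))
    (Bool.rec (motive := fun _ => ℕ) rowBlk262
    rowBlk261 (Nat.blt i 67072)) (Nat.blt i 67328))

/-- A choice of packed blocks. -/
noncomputable def rowSel403 (i : ℕ) : ℕ :=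
  (Bool.rec (motive := fun _ => ℕ) (Bool.rec (motive := fun _ => ℕ) (rowSel397 i)
    (rowSel399 i) (Nat.blt i 70400))
    (Bool.rec (motive := fun _ => ℕ) (rowSel401 i)
    (rowSel402 i) (Nat.blt i 67840)) (Nat.blt i 69120))

/-- A choice of packed blocks. -/
noncomputable def rowSel404 (i : ℕ) : ℕ :=
  (Bool.rec (motive := fun _ => ℕ) rowBlk260
    rowBlk259 (Nat.blt i 66560))

/-- A choice of packed blocks. -/
noncomputable def rowSel405 (i : ℕ) : ℕ :=
  (Bool.rec (motive := fun _ => ℕ) (Bool.rec (motive := fun _ => ℕ) (rowSel404 i)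
    rowBlk258 (Nat.blt i 66304))
    (Bool.rec (motive := fun _ => ℕ) rowBlk257
    rowBlk256 (Nat.blt i 65792)) (Nat.blt i 66048))

/-- A choice of packed blocks. -/
noncomputable def rowSel406 (i : ℕ) : ℕ :=
  (Bool.rec (motive := fun _ => ℕ) rowBlk255
    rowBlk254 (Nat.blt i 65280))

/-- A choice of packed blocks. -/
noncomputable def rowSel407 (i : ℕ) : ℕ :=
  (Bool.rec (motive := fun _ => ℕ) (Bool.rec (motive := fun _ => ℕ) (rowSel406 i)
    rowBlk253 (Nat.blt i 65024))
    (Bool.rec (motive := fun _ => ℕ) rowBlk252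
    rowBlk251 (Nat.blt i 64512)) (Nat.blt i 64768))

/-- A choice of packed blocks. -/
noncomputable def rowSel408 (i : ℕ) : ℕ :=
  (Bool.rec (motive := fun _ => ℕ) rowBlk250
    rowBlk249 (Nat.blt i 64000))

/-- A choice of packed blocks. -/
noncomputable def rowSel409 (i : ℕ) : ℕ :=
  (Bool.rec (motive := fun _ => ℕ) (Bool.rec (motive := fun _ => ℕ) (rowSel408 i)
    rowBlk248 (Nat.blt i 63744))
    (Bool.rec (motive := fun _ => ℕ) rowBlk247
    rowBlk246 (Nat.blt i 63232)) (Nat.blt i 63488))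

/-- A choice of packed blocks. -/
noncomputable def rowSel410 (i : ℕ) : ℕ :=
  (Bool.rec (motive := fun _ => ℕ) (Bool.rec (motive := fun _ => ℕ) rowBlk245
    rowBlk244 (Nat.blt i 62720))
    (Bool.rec (motive := fun _ => ℕ) rowBlk243
    rowBlk242 (Nat.blt i 62208)) (Nat.blt i 62464))

/-- A choice of packed blocks. -/
noncomputable def rowSel411 (i : ℕ) : ℕ :=
  (Bool.rec (motive := fun _ => ℕ) (Bool.rec (motive := fun _ => ℕ) (rowSel405 i)
    (rowSel407 i) (Nat.blt i 65536))
    (Bool.rec (motive := fun _ => ℕ) (rowSel409 i)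
    (rowSel410 i) (Nat.blt i 62976)) (Nat.blt i 64256))

/-- A choice of packed blocks. -/
noncomputable def rowSel412 (i : ℕ) : ℕ :=
  (Bool.rec (motive := fun _ => ℕ) rowBlk241
    rowBlk240 (Nat.blt i 61696))

/-- A choice of packed blocks. -/
noncomputable def rowSel413 (i : ℕ) : ℕ :=
  (Bool.rec (motive := fun _ => ℕ) (Bool.rec (motive := fun _ => ℕ) (rowSel412 i)
    rowBlk239 (Nat.blt i 61440))
    (Bool.rec (motive := fun _ => ℕ) rowBlk238
    rowBlk237 (Nat.blt i 60928)) (Nat.blt i 61184))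

/-- A choice of packed blocks. -/
noncomputable def rowSel414 (i : ℕ) : ℕ :=
  (Bool.rec (motive := fun _ => ℕ) (Bool.rec (motive := fun _ => ℕ) rowBlk236
    rowBlk235 (Nat.blt i 60416))
    (Bool.rec (motive := fun _ => ℕ) rowBlk234
    rowBlk233 (Nat.blt i 59904)) (Nat.blt i 60160))

/-- A choice of packed blocks. -/
noncomputable def rowSel415 (i : ℕ) : ℕ :=
  (Bool.rec (motive := fun _ => ℕ) rowBlk232
    rowBlk231 (Nat.blt i 59392))

/-- A choice of packed blocks. -/
noncomputable def rowSel416 (i : ℕ) : ℕ :=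
  (Bool.rec (motive := fun _ => ℕ) (Bool.rec (motive := fun _ => ℕ) (rowSel415 i)
    rowBlk230 (Nat.blt i 59136))
    (Bool.rec (motive := fun _ => ℕ) rowBlk229
    rowBlk228 (Nat.blt i 58624)) (Nat.blt i 58880))

/-- A choice of packed blocks. -/
noncomputable def rowSel417 (i : ℕ) : ℕ :=
  (Bool.rec (motive := fun _ => ℕ) (Bool.rec (motive := fun _ => ℕ) rowBlk227
    rowBlk226 (Nat.blt i 58112))
    (Bool.rec (motive := fun _ => ℕ) rowBlk225
    rowBlk224 (Nat.blt i 57600)) (Nat.blt i 57856))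

/-- A choice of packed blocks. -/
noncomputable def rowSel418 (i : ℕ) : ℕ :=
  (Bool.rec (motive := fun _ => ℕ) (Bool.rec (motive := fun _ => ℕ) (rowSel413 i)
    (rowSel414 i) (Nat.blt i 60672))
    (Bool.rec (motive := fun _ => ℕ) (rowSel416 i)
    (rowSel417 i) (Nat.blt i 58368)) (Nat.blt i 59648))

/-- A choice of packed blocks. -/
noncomputable def rowSel419 (i : ℕ) : ℕ :=
  (Bool.rec (motive := fun _ => ℕ) (Bool.rec (motive := fun _ => ℕ) (rowSel395 i)
    (rowSel403 i) (Nat.blt i 71680))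
    (Bool.rec (motive := fun _ => ℕ) (rowSel411 i)
    (rowSel418 i) (Nat.blt i 61952)) (Nat.blt i 66816))

/-- A choice of packed blocks. -/
noncomputable def rowSel420 (i : ℕ) : ℕ :=
  (Bool.rec (motive := fun _ => ℕ) rowBlk223
    rowBlk222 (Nat.blt i 57088))

/-- A choice of packed blocks. -/
noncomputable def rowSel421 (i : ℕ) : ℕ :=
  (Bool.rec (motive := fun _ => ℕ) (Bool.rec (motive := fun _ => ℕ) (rowSel420 i)
    rowBlk221 (Nat.blt i 56832))
    (Bool.rec (motive := fun _ => ℕ) rowBlk220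
    rowBlk219 (Nat.blt i 56320)) (Nat.blt i 56576))

/-- A choice of packed blocks. -/
noncomputable def rowSel422 (i : ℕ) : ℕ :=
  (Bool.rec (motive := fun _ => ℕ) rowBlk218
    rowBlk217 (Nat.blt i 55808))

/-- A choice of packed blocks. -/
noncomputable def rowSel423 (i : ℕ) : ℕ :=
  (Bool.rec (motive := fun _ => ℕ) (Bool.rec (motive := fun _ => ℕ) (rowSel422 i)
    rowBlk216 (Nat.blt i 55552))
    (Bool.rec (motive := fun _ => ℕ) rowBlk215
    rowBlk214 (Nat.blt i 55040)) (Nat.blt i 55296))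

/-- A choice of packed blocks. -/
noncomputable def rowSel424 (i : ℕ) : ℕ :=
  (Bool.rec (motive := fun _ => ℕ) rowBlk213
    rowBlk212 (Nat.blt i 54528))

/-- A choice of packed blocks. -/
noncomputable def rowSel425 (i : ℕ) : ℕ :=
  (Bool.rec (motive := fun _ => ℕ) (Bool.rec (motive := fun _ => ℕ) (rowSel424 i)
    rowBlk211 (Nat.blt i 54272))
    (Bool.rec (motive := fun _ => ℕ) rowBlk210
    rowBlk209 (Nat.blt i 53760)) (Nat.blt i 54016))

/-- A choice of packed blocks. -/
noncomputable def rowSel426 (i : ℕ) : ℕ :=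
  (Bool.rec (motive := fun _ => ℕ) (Bool.rec (motive := fun _ => ℕ) rowBlk208
    rowBlk207 (Nat.blt i 53248))
    (Bool.rec (motive := fun _ => ℕ) rowBlk206
    rowBlk205 (Nat.blt i 52736)) (Nat.blt i 52992))

/-- A choice of packed blocks. -/
noncomputable def rowSel427 (i : ℕ) : ℕ :=
  (Bool.rec (motive := fun _ => ℕ) (Bool.rec (motive := fun _ => ℕ) (rowSel421 i)
    (rowSel423 i) (Nat.blt i 56064))
    (Bool.rec (motive := fun _ => ℕ) (rowSel425 i)
    (rowSel426 i) (Nat.blt i 53504)) (Nat.blt i 54784))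

/-- A choice of packed blocks. -/
noncomputable def rowSel428 (i : ℕ) : ℕ :=
  (Bool.rec (motive := fun _ => ℕ) rowBlk204
    rowBlk203 (Nat.blt i 52224))

/-- A choice of packed blocks. -/
noncomputable def rowSel429 (i : ℕ) : ℕ :=
  (Bool.rec (motive := fun _ => ℕ) (Bool.rec (motive := fun _ => ℕ) (rowSel428 i)
    rowBlk202 (Nat.blt i 51968))
    (Bool.rec (motive := fun _ => ℕ) rowBlk201
    rowBlk200 (Nat.blt i 51456)) (Nat.blt i 51712))

/-- A choice of packed blocks. -/
noncomputable def rowSel430 (i : ℕ) : ℕ :=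
  (Bool.rec (motive := fun _ => ℕ) rowBlk199
    rowBlk198 (Nat.blt i 50944))

/-- A choice of packed blocks. -/
noncomputable def rowSel431 (i : ℕ) : ℕ :=
  (Bool.rec (motive := fun _ => ℕ) (Bool.rec (motive := fun _ => ℕ) (rowSel430 i)
    rowBlk197 (Nat.blt i 50688))
    (Bool.rec (motive := fun _ => ℕ) rowBlk196
    rowBlk195 (Nat.blt i 50176)) (Nat.blt i 50432))

/-- A choice of packed blocks. -/
noncomputable def rowSel432 (i : ℕ) : ℕ :=
  (Bool.rec (motive := fun _ => ℕ) rowBlk194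
    rowBlk193 (Nat.blt i 49664))

/-- A choice of packed blocks. -/
noncomputable def rowSel433 (i : ℕ) : ℕ :=
  (Bool.rec (motive := fun _ => ℕ) (Bool.rec (motive := fun _ => ℕ) (rowSel432 i)
    rowBlk192 (Nat.blt i 49408))
    (Bool.rec (motive := fun _ => ℕ) rowBlk191
    rowBlk190 (Nat.blt i 48896)) (Nat.blt i 49152))

/-- A choice of packed blocks. -/
noncomputable def rowSel434 (i : ℕ) : ℕ :=
  (Bool.rec (motive := fun _ => ℕ) (Bool.rec (motive := fun _ => ℕ) rowBlk189
    rowBlk188 (Nat.blt i 48384))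
    (Bool.rec (motive := fun _ => ℕ) rowBlk187
    rowBlk186 (Nat.blt i 47872)) (Nat.blt i 48128))

/-- A choice of packed blocks. -/
noncomputable def rowSel435 (i : ℕ) : ℕ :=
  (Bool.rec (motive := fun _ => ℕ) (Bool.rec (motive := fun _ => ℕ) (rowSel429 i)
    (rowSel431 i) (Nat.blt i 51200))
    (Bool.rec (motive := fun _ => ℕ) (rowSel433 i)
    (rowSel434 i) (Nat.blt i 48640)) (Nat.blt i 49920))

/-- A choice of packed blocks. -/
noncomputable def rowSel436 (i : ℕ) : ℕ :=
  (Bool.rec (motive := fun _ => ℕ) rowBlk185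
    rowBlk184 (Nat.blt i 47360))

/-- A choice of packed blocks. -/
noncomputable def rowSel437 (i : ℕ) : ℕ :=
  (Bool.rec (motive := fun _ => ℕ) (Bool.rec (motive := fun _ => ℕ) (rowSel436 i)
    rowBlk183 (Nat.blt i 47104))
    (Bool.rec (motive := fun _ => ℕ) rowBlk182
    rowBlk181 (Nat.blt i 46592)) (Nat.blt i 46848))

/-- A choice of packed blocks. -/
noncomputable def rowSel438 (i : ℕ) : ℕ :=
  (Bool.rec (motive := fun _ => ℕ) rowBlk180
    rowBlk179 (Nat.blt i 46080))

/-- A choice of packed blocks. -/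
noncomputable def rowSel439 (i : ℕ) : ℕ :=
  (Bool.rec (motive := fun _ => ℕ) (Bool.rec (motive := fun _ => ℕ) (rowSel438 i)
    rowBlk178 (Nat.blt i 45824))
    (Bool.rec (motive := fun _ => ℕ) rowBlk177
    rowBlk176 (Nat.blt i 45312)) (Nat.blt i 45568))

/-- A choice of packed blocks. -/
noncomputable def rowSel440 (i : ℕ) : ℕ :=
  (Bool.rec (motive := fun _ => ℕ) rowBlk175
    rowBlk174 (Nat.blt i 44800))

/-- A choice of packed blocks. -/
noncomputable def rowSel441 (i : ℕ) : ℕ :=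
  (Bool.rec (motive := fun _ => ℕ) (Bool.rec (motive := fun _ => ℕ) (rowSel440 i)
    rowBlk173 (Nat.blt i 44544))
    (Bool.rec (motive := fun _ => ℕ) rowBlk172
    rowBlk171 (Nat.blt i 44032)) (Nat.blt i 44288))

/-- A choice of packed blocks. -/
noncomputable def rowSel442 (i : ℕ) : ℕ :=
  (Bool.rec (motive := fun _ => ℕ) (Bool.rec (motive := fun _ => ℕ) rowBlk170
    rowBlk169 (Nat.blt i 43520))
    (Bool.rec (motive := fun _ => ℕ) rowBlk168
    rowBlk167 (Nat.blt i 43008)) (Nat.blt i 43264))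

/-- A choice of packed blocks. -/
noncomputable def rowSel443 (i : ℕ) : ℕ :=
  (Bool.rec (motive := fun _ => ℕ) (Bool.rec (motive := fun _ => ℕ) (rowSel437 i)
    (rowSel439 i) (Nat.blt i 46336))
    (Bool.rec (motive := fun _ => ℕ) (rowSel441 i)
    (rowSel442 i) (Nat.blt i 43776)) (Nat.blt i 45056))

/-- A choice of packed blocks. -/
noncomputable def rowSel444 (i : ℕ) : ℕ :=
  (Bool.rec (motive := fun _ => ℕ) rowBlk166
    rowBlk165 (Nat.blt i 42496))

/-- A choice of packed blocks. -/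
noncomputable def rowSel445 (i : ℕ) : ℕ :=
  (Bool.rec (motive := fun _ => ℕ) (Bool.rec (motive := fun _ => ℕ) (rowSel444 i)
    rowBlk164 (Nat.blt i 42240))
    (Bool.rec (motive := fun _ => ℕ) rowBlk163
    rowBlk162 (Nat.blt i 41728)) (Nat.blt i 41984))

/-- A choice of packed blocks. -/
noncomputable def rowSel446 (i : ℕ) : ℕ :=
  (Bool.rec (motive := fun _ => ℕ) (Bool.rec (motive := fun _ => ℕ) rowBlk161
    rowBlk160 (Nat.blt i 41216))
    (Bool.rec (motive := fun _ => ℕ) rowBlk159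
    rowBlk158 (Nat.blt i 40704)) (Nat.blt i 40960))

/-- A choice of packed blocks. -/
noncomputable def rowSel447 (i : ℕ) : ℕ :=
  (Bool.rec (motive := fun _ => ℕ) rowBlk157
    rowBlk156 (Nat.blt i 40192))

/-- A choice of packed blocks. -/
noncomputable def rowSel448 (i : ℕ) : ℕ :=
  (Bool.rec (motive := fun _ => ℕ) (Bool.rec (motive := fun _ => ℕ) (rowSel447 i)
    rowBlk155 (Nat.blt i 39936))
    (Bool.rec (motive := fun _ => ℕ) rowBlk154
    rowBlk153 (Nat.blt i 39424)) (Nat.blt i 39680))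

/-- A choice of packed blocks. -/
noncomputable def rowSel449 (i : ℕ) : ℕ :=
  (Bool.rec (motive := fun _ => ℕ) (Bool.rec (motive := fun _ => ℕ) rowBlk152
    rowBlk151 (Nat.blt i 38912))
    (Bool.rec (motive := fun _ => ℕ) rowBlk150
    rowBlk149 (Nat.blt i 38400)) (Nat.blt i 38656))

/-- A choice of packed blocks. -/
noncomputable def rowSel450 (i : ℕ) : ℕ :=
  (Bool.rec (motive := fun _ => ℕ) (Bool.rec (motive := fun _ => ℕ) (rowSel445 i)
    (rowSel446 i) (Nat.blt i 41472))
    (Bool.rec (motive := fun _ => ℕ) (rowSel448 i)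
    (rowSel449 i) (Nat.blt i 39168)) (Nat.blt i 40448))

/-- A choice of packed blocks. -/
noncomputable def rowSel451 (i : ℕ) : ℕ :=
  (Bool.rec (motive := fun _ => ℕ) (Bool.rec (motive := fun _ => ℕ) (rowSel427 i)
    (rowSel435 i) (Nat.blt i 52480))
    (Bool.rec (motive := fun _ => ℕ) (rowSel443 i)
    (rowSel450 i) (Nat.blt i 42752)) (Nat.blt i 47616))

/-- A choice of packed blocks. -/
noncomputable def rowSel452 (i : ℕ) : ℕ :=
  (Bool.rec (motive := fun _ => ℕ) rowBlk148
    rowBlk147 (Nat.blt i 37888))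

/-- A choice of packed blocks. -/
noncomputable def rowSel453 (i : ℕ) : ℕ :=
  (Bool.rec (motive := fun _ => ℕ) (Bool.rec (motive := fun _ => ℕ) (rowSel452 i)
    rowBlk146 (Nat.blt i 37632))
    (Bool.rec (motive := fun _ => ℕ) rowBlk145
    rowBlk144 (Nat.blt i 37120)) (Nat.blt i 37376))

/-- A choice of packed blocks. -/
noncomputable def rowSel454 (i : ℕ) : ℕ :=
  (Bool.rec (motive := fun _ => ℕ) rowBlk143
    rowBlk142 (Nat.blt i 36608))

/-- A choice of packed blocks. -/
noncomputable def rowSel455 (i : ℕ) : ℕ :=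
  (Bool.rec (motive := fun _ => ℕ) (Bool.rec (motive := fun _ => ℕ) (rowSel454 i)
    rowBlk141 (Nat.blt i 36352))
    (Bool.rec (motive := fun _ => ℕ) rowBlk140
    rowBlk139 (Nat.blt i 35840)) (Nat.blt i 36096))

/-- A choice of packed blocks. -/
noncomputable def rowSel456 (i : ℕ) : ℕ :=
  (Bool.rec (motive := fun _ => ℕ) rowBlk138
    rowBlk137 (Nat.blt i 35328))

/-- A choice of packed blocks. -/
noncomputable def rowSel457 (i : ℕ) : ℕ :=
  (Bool.rec (motive := fun _ => ℕ) (Bool.rec (motive := fun _ => ℕ) (rowSel456 i)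
    rowBlk136 (Nat.blt i 35072))
    (Bool.rec (motive := fun _ => ℕ) rowBlk135
    rowBlk134 (Nat.blt i 34560)) (Nat.blt i 34816))

/-- A choice of packed blocks. -/
noncomputable def rowSel458 (i : ℕ) : ℕ :=
  (Bool.rec (motive := fun _ => ℕ) (Bool.rec (motive := fun _ => ℕ) rowBlk133
    rowBlk132 (Nat.blt i 34048))
    (Bool.rec (motive := fun _ => ℕ) rowBlk131
    rowBlk130 (Nat.blt i 33536)) (Nat.blt i 33792))

/-- A choice of packed blocks. -/
noncomputable def rowSel459 (i : ℕ) : ℕ :=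
  (Bool.rec (motive := fun _ => ℕ) (Bool.rec (motive := fun _ => ℕ) (rowSel453 i)
    (rowSel455 i) (Nat.blt i 36864))
    (Bool.rec (motive := fun _ => ℕ) (rowSel457 i)
    (rowSel458 i) (Nat.blt i 34304)) (Nat.blt i 35584))

/-- A choice of packed blocks. -/
noncomputable def rowSel460 (i : ℕ) : ℕ :=
  (Bool.rec (motive := fun _ => ℕ) rowBlk129
    rowBlk128 (Nat.blt i 33024))

/-- A choice of packed blocks. -/
noncomputable def rowSel461 (i : ℕ) : ℕ :=
  (Bool.rec (motive := fun _ => ℕ) (Bool.rec (motive := fun _ => ℕ) (rowSel460 i)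
    rowBlk127 (Nat.blt i 32768))
    (Bool.rec (motive := fun _ => ℕ) rowBlk126
    rowBlk125 (Nat.blt i 32256)) (Nat.blt i 32512))

/-- A choice of packed blocks. -/
noncomputable def rowSel462 (i : ℕ) : ℕ :=
  (Bool.rec (motive := fun _ => ℕ) rowBlk124
    rowBlk123 (Nat.blt i 31744))

/-- A choice of packed blocks. -/
noncomputable def rowSel463 (i : ℕ) : ℕ :=
  (Bool.rec (motive := fun _ => ℕ) (Bool.rec (motive := fun _ => ℕ) (rowSel462 i)
    rowBlk122 (Nat.blt i 31488))
    (Bool.rec (motive := fun _ => ℕ) rowBlk121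
    rowBlk120 (Nat.blt i 30976)) (Nat.blt i 31232))

/-- A choice of packed blocks. -/
noncomputable def rowSel464 (i : ℕ) : ℕ :=
  (Bool.rec (motive := fun _ => ℕ) rowBlk119
    rowBlk118 (Nat.blt i 30464))

/-- A choice of packed blocks. -/
noncomputable def rowSel465 (i : ℕ) : ℕ :=
  (Bool.rec (motive := fun _ => ℕ) (Bool.rec (motive := fun _ => ℕ) (rowSel464 i)
    rowBlk117 (Nat.blt i 30208))
    (Bool.rec (motive := fun _ => ℕ) rowBlk116
    rowBlk115 (Nat.blt i 29696)) (Nat.blt i 29952))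

/-- A choice of packed blocks. -/
noncomputable def rowSel466 (i : ℕ) : ℕ :=
  (Bool.rec (motive := fun _ => ℕ) (Bool.rec (motive := fun _ => ℕ) rowBlk114
    rowBlk113 (Nat.blt i 29184))
    (Bool.rec (motive := fun _ => ℕ) rowBlk112
    rowBlk111 (Nat.blt i 28672)) (Nat.blt i 28928))

/-- A choice of packed blocks. -/
noncomputable def rowSel467 (i : ℕ) : ℕ :=
  (Bool.rec (motive := fun _ => ℕ) (Bool.rec (motive := fun _ => ℕ) (rowSel461 i)
    (rowSel463 i) (Nat.blt i 32000))
    (Bool.rec (motive := fun _ => ℕ) (rowSel465 i)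
    (rowSel466 i) (Nat.blt i 29440)) (Nat.blt i 30720))

/-- A choice of packed blocks. -/
noncomputable def rowSel468 (i : ℕ) : ℕ :=
  (Bool.rec (motive := fun _ => ℕ) rowBlk110
    rowBlk109 (Nat.blt i 28160))

/-- A choice of packed blocks. -/
noncomputable def rowSel469 (i : ℕ) : ℕ :=
  (Bool.rec (motive := fun _ => ℕ) (Bool.rec (motive := fun _ => ℕ) (rowSel468 i)
    rowBlk108 (Nat.blt i 27904))
    (Bool.rec (motive := fun _ => ℕ) rowBlk107
    rowBlk106 (Nat.blt i 27392)) (Nat.blt i 27648))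

/-- A choice of packed blocks. -/
noncomputable def rowSel470 (i : ℕ) : ℕ :=
  (Bool.rec (motive := fun _ => ℕ) rowBlk105
    rowBlk104 (Nat.blt i 26880))

/-- A choice of packed blocks. -/
noncomputable def rowSel471 (i : ℕ) : ℕ :=
  (Bool.rec (motive := fun _ => ℕ) (Bool.rec (motive := fun _ => ℕ) (rowSel470 i)
    rowBlk103 (Nat.blt i 26624))
    (Bool.rec (motive := fun _ => ℕ) rowBlk102
    rowBlk101 (Nat.blt i 26112)) (Nat.blt i 26368))

/-- A choice of packed blocks. -/
noncomputable def rowSel472 (i : ℕ) : ℕ :=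
  (Bool.rec (motive := fun _ => ℕ) rowBlk100
    rowBlk99 (Nat.blt i 25600))

/-- A choice of packed blocks. -/
noncomputable def rowSel473 (i : ℕ) : ℕ :=
  (Bool.rec (motive := fun _ => ℕ) (Bool.rec (motive := fun _ => ℕ) (rowSel472 i)
    rowBlk98 (Nat.blt i 25344))
    (Bool.rec (motive := fun _ => ℕ) rowBlk97
    rowBlk96 (Nat.blt i 24832)) (Nat.blt i 25088))

/-- A choice of packed blocks. -/
noncomputable def rowSel474 (i : ℕ) : ℕ :=
  (Bool.rec (motive := fun _ => ℕ) (Bool.rec (motive := fun _ => ℕ) rowBlk95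
    rowBlk94 (Nat.blt i 24320))
    (Bool.rec (motive := fun _ => ℕ) rowBlk93
    rowBlk92 (Nat.blt i 23808)) (Nat.blt i 24064))

/-- A choice of packed blocks. -/
noncomputable def rowSel475 (i : ℕ) : ℕ :=
  (Bool.rec (motive := fun _ => ℕ) (Bool.rec (motive := fun _ => ℕ) (rowSel469 i)
    (rowSel471 i) (Nat.blt i 27136))
    (Bool.rec (motive := fun _ => ℕ) (rowSel473 i)
    (rowSel474 i) (Nat.blt i 24576)) (Nat.blt i 25856))

/-- A choice of packed blocks. -/
noncomputable def rowSel476 (i : ℕ) : ℕ :=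
  (Bool.rec (motive := fun _ => ℕ) rowBlk91
    rowBlk90 (Nat.blt i 23296))

/-- A choice of packed blocks. -/
noncomputable def rowSel477 (i : ℕ) : ℕ :=
  (Bool.rec (motive := fun _ => ℕ) (Bool.rec (motive := fun _ => ℕ) (rowSel476 i)
    rowBlk89 (Nat.blt i 23040))
    (Bool.rec (motive := fun _ => ℕ) rowBlk88
    rowBlk87 (Nat.blt i 22528)) (Nat.blt i 22784))

/-- A choice of packed blocks. -/
noncomputable def rowSel478 (i : ℕ) : ℕ :=
  (Bool.rec (motive := fun _ => ℕ) (Bool.rec (motive := fun _ => ℕ) rowBlk86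
    rowBlk85 (Nat.blt i 22016))
    (Bool.rec (motive := fun _ => ℕ) rowBlk84
    rowBlk83 (Nat.blt i 21504)) (Nat.blt i 21760))

/-- A choice of packed blocks. -/
noncomputable def rowSel479 (i : ℕ) : ℕ :=
  (Bool.rec (motive := fun _ => ℕ) rowBlk82
    rowBlk81 (Nat.blt i 20992))

/-- A choice of packed blocks. -/
noncomputable def rowSel480 (i : ℕ) : ℕ :=
  (Bool.rec (motive := fun _ => ℕ) (Bool.rec (motive := fun _ => ℕ) (rowSel479 i)
    rowBlk80 (Nat.blt i 20736))
    (Bool.rec (motive := fun _ => ℕ) rowBlk79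
    rowBlk78 (Nat.blt i 20224)) (Nat.blt i 20480))

/-- A choice of packed blocks. -/
noncomputable def rowSel481 (i : ℕ) : ℕ :=
  (Bool.rec (motive := fun _ => ℕ) (Bool.rec (motive := fun _ => ℕ) rowBlk77
    rowBlk76 (Nat.blt i 19712))
    (Bool.rec (motive := fun _ => ℕ) rowBlk75
    rowBlk74 (Nat.blt i 19200)) (Nat.blt i 19456))

/-- A choice of packed blocks. -/
noncomputable def rowSel482 (i : ℕ) : ℕ :=
  (Bool.rec (motive := fun _ => ℕ) (Bool.rec (motive := fun _ => ℕ) (rowSel477 i)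
    (rowSel478 i) (Nat.blt i 22272))
    (Bool.rec (motive := fun _ => ℕ) (rowSel480 i)
    (rowSel481 i) (Nat.blt i 19968)) (Nat.blt i 21248))

/-- A choice of packed blocks. -/
noncomputable def rowSel483 (i : ℕ) : ℕ :=
  (Bool.rec (motive := fun _ => ℕ) (Bool.rec (motive := fun _ => ℕ) (rowSel459 i)
    (rowSel467 i) (Nat.blt i 33280))
    (Bool.rec (motive := fun _ => ℕ) (rowSel475 i)
    (rowSel482 i) (Nat.blt i 23552)) (Nat.blt i 28416))

/-- A choice of packed blocks. -/
noncomputable def rowSel484 (i : ℕ) : ℕ :=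
  (Bool.rec (motive := fun _ => ℕ) rowBlk73
    rowBlk72 (Nat.blt i 18688))

/-- A choice of packed blocks. -/
noncomputable def rowSel485 (i : ℕ) : ℕ :=
  (Bool.rec (motive := fun _ => ℕ) (Bool.rec (motive := fun _ => ℕ) (rowSel484 i)
    rowBlk71 (Nat.blt i 18432))
    (Bool.rec (motive := fun _ => ℕ) rowBlk70
    rowBlk69 (Nat.blt i 17920)) (Nat.blt i 18176))

/-- A choice of packed blocks. -/
noncomputable def rowSel486 (i : ℕ) : ℕ :=
  (Bool.rec (motive := fun _ => ℕ) rowBlk68
    rowBlk67 (Nat.blt i 17408))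

/-- A choice of packed blocks. -/
noncomputable def rowSel487 (i : ℕ) : ℕ :=
  (Bool.rec (motive := fun _ => ℕ) (Bool.rec (motive := fun _ => ℕ) (rowSel486 i)
    rowBlk66 (Nat.blt i 17152))
    (Bool.rec (motive := fun _ => ℕ) rowBlk65
    rowBlk64 (Nat.blt i 16640)) (Nat.blt i 16896))

/-- A choice of packed blocks. -/
noncomputable def rowSel488 (i : ℕ) : ℕ :=
  (Bool.rec (motive := fun _ => ℕ) rowBlk63
    rowBlk62 (Nat.blt i 16128))

/-- A choice of packed blocks. -/
noncomputable def rowSel489 (i : ℕ) : ℕ :=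
  (Bool.rec (motive := fun _ => ℕ) (Bool.rec (motive := fun _ => ℕ) (rowSel488 i)
    rowBlk61 (Nat.blt i 15872))
    (Bool.rec (motive := fun _ => ℕ) rowBlk60
    rowBlk59 (Nat.blt i 15360)) (Nat.blt i 15616))

/-- A choice of packed blocks. -/
noncomputable def rowSel490 (i : ℕ) : ℕ :=
  (Bool.rec (motive := fun _ => ℕ) (Bool.rec (motive := fun _ => ℕ) rowBlk58
    rowBlk57 (Nat.blt i 14848))
    (Bool.rec (motive := fun _ => ℕ) rowBlk56
    rowBlk55 (Nat.blt i 14336)) (Nat.blt i 14592))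

/-- A choice of packed blocks. -/
noncomputable def rowSel491 (i : ℕ) : ℕ :=
  (Bool.rec (motive := fun _ => ℕ) (Bool.rec (motive := fun _ => ℕ) (rowSel485 i)
    (rowSel487 i) (Nat.blt i 17664))
    (Bool.rec (motive := fun _ => ℕ) (rowSel489 i)
    (rowSel490 i) (Nat.blt i 15104)) (Nat.blt i 16384))

/-- A choice of packed blocks. -/
noncomputable def rowSel492 (i : ℕ) : ℕ :=
  (Bool.rec (motive := fun _ => ℕ) rowBlk54
    rowBlk53 (Nat.blt i 13824))

/-- A choice of packed blocks. -/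
noncomputable def rowSel493 (i : ℕ) : ℕ :=
  (Bool.rec (motive := fun _ => ℕ) (Bool.rec (motive := fun _ => ℕ) (rowSel492 i)
    rowBlk52 (Nat.blt i 13568))
    (Bool.rec (motive := fun _ => ℕ) rowBlk51
    rowBlk50 (Nat.blt i 13056)) (Nat.blt i 13312))

/-- A choice of packed blocks. -/
noncomputable def rowSel494 (i : ℕ) : ℕ :=
  (Bool.rec (motive := fun _ => ℕ) (Bool.rec (motive := fun _ => ℕ) rowBlk49
    rowBlk48 (Nat.blt i 12544))
    (Bool.rec (motive := fun _ => ℕ) rowBlk47
    rowBlk46 (Nat.blt i 12032)) (Nat.blt i 12288))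

/-- A choice of packed blocks. -/
noncomputable def rowSel495 (i : ℕ) : ℕ :=
  (Bool.rec (motive := fun _ => ℕ) rowBlk45
    rowBlk44 (Nat.blt i 11520))

/-- A choice of packed blocks. -/
noncomputable def rowSel496 (i : ℕ) : ℕ :=
  (Bool.rec (motive := fun _ => ℕ) (Bool.rec (motive := fun _ => ℕ) (rowSel495 i)
    rowBlk43 (Nat.blt i 11264))
    (Bool.rec (motive := fun _ => ℕ) rowBlk42
    rowBlk41 (Nat.blt i 10752)) (Nat.blt i 11008))

/-- A choice of packed blocks. -/
noncomputable def rowSel497 (i : ℕ) : ℕ :=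
  (Bool.rec (motive := fun _ => ℕ) (Bool.rec (motive := fun _ => ℕ) rowBlk40
    rowBlk39 (Nat.blt i 10240))
    (Bool.rec (motive := fun _ => ℕ) rowBlk38
    rowBlk37 (Nat.blt i 9728)) (Nat.blt i 9984))

/-- A choice of packed blocks. -/
noncomputable def rowSel498 (i : ℕ) : ℕ :=
  (Bool.rec (motive := fun _ => ℕ) (Bool.rec (motive := fun _ => ℕ) (rowSel493 i)
    (rowSel494 i) (Nat.blt i 12800))
    (Bool.rec (motive := fun _ => ℕ) (rowSel496 i)
    (rowSel497 i) (Nat.blt i 10496)) (Nat.blt i 11776))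

/-- A choice of packed blocks. -/
noncomputable def rowSel499 (i : ℕ) : ℕ :=
  (Bool.rec (motive := fun _ => ℕ) rowBlk36
    rowBlk35 (Nat.blt i 9216))

/-- A choice of packed blocks. -/
noncomputable def rowSel500 (i : ℕ) : ℕ :=
  (Bool.rec (motive := fun _ => ℕ) (Bool.rec (motive := fun _ => ℕ) (rowSel499 i)
    rowBlk34 (Nat.blt i 8960))
    (Bool.rec (motive := fun _ => ℕ) rowBlk33
    rowBlk32 (Nat.blt i 8448)) (Nat.blt i 8704))

/-- A choice of packed blocks. -/
noncomputable def rowSel501 (i : ℕ) : ℕ :=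
  (Bool.rec (motive := fun _ => ℕ) rowBlk31
    rowBlk30 (Nat.blt i 7936))

/-- A choice of packed blocks. -/
noncomputable def rowSel502 (i : ℕ) : ℕ :=
  (Bool.rec (motive := fun _ => ℕ) (Bool.rec (motive := fun _ => ℕ) (rowSel501 i)
    rowBlk29 (Nat.blt i 7680))
    (Bool.rec (motive := fun _ => ℕ) rowBlk28
    rowBlk27 (Nat.blt i 7168)) (Nat.blt i 7424))

/-- A choice of packed blocks. -/
noncomputable def rowSel503 (i : ℕ) : ℕ :=
  (Bool.rec (motive := fun _ => ℕ) rowBlk26
    rowBlk25 (Nat.blt i 6656))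

/-- A choice of packed blocks. -/
noncomputable def rowSel504 (i : ℕ) : ℕ :=
  (Bool.rec (motive := fun _ => ℕ) (Bool.rec (motive := fun _ => ℕ) (rowSel503 i)
    rowBlk24 (Nat.blt i 6400))
    (Bool.rec (motive := fun _ => ℕ) rowBlk23
    rowBlk22 (Nat.blt i 5888)) (Nat.blt i 6144))

/-- A choice of packed blocks. -/
noncomputable def rowSel505 (i : ℕ) : ℕ :=
  (Bool.rec (motive := fun _ => ℕ) (Bool.rec (motive := fun _ => ℕ) rowBlk21
    rowBlk20 (Nat.blt i 5376))
    (Bool.rec (motive := fun _ => ℕ) rowBlk19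
    rowBlk18 (Nat.blt i 4864)) (Nat.blt i 5120))

/-- A choice of packed blocks. -/
noncomputable def rowSel506 (i : ℕ) : ℕ :=
  (Bool.rec (motive := fun _ => ℕ) (Bool.rec (motive := fun _ => ℕ) (rowSel500 i)
    (rowSel502 i) (Nat.blt i 8192))
    (Bool.rec (motive := fun _ => ℕ) (rowSel504 i)
    (rowSel505 i) (Nat.blt i 5632)) (Nat.blt i 6912))

/-- A choice of packed blocks. -/
noncomputable def rowSel507 (i : ℕ) : ℕ :=
  (Bool.rec (motive := fun _ => ℕ) rowBlk17
    rowBlk16 (Nat.blt i 4352))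

/-- A choice of packed blocks. -/
noncomputable def rowSel508 (i : ℕ) : ℕ :=
  (Bool.rec (motive := fun _ => ℕ) (Bool.rec (motive := fun _ => ℕ) (rowSel507 i)
    rowBlk15 (Nat.blt i 4096))
    (Bool.rec (motive := fun _ => ℕ) rowBlk14
    rowBlk13 (Nat.blt i 3584)) (Nat.blt i 3840))

/-- A choice of packed blocks. -/
noncomputable def rowSel509 (i : ℕ) : ℕ :=
  (Bool.rec (motive := fun _ => ℕ) (Bool.rec (motive := fun _ => ℕ) rowBlk12
    rowBlk11 (Nat.blt i 3072))
    (Bool.rec (motive := fun _ => ℕ) rowBlk10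
    rowBlk9 (Nat.blt i 2560)) (Nat.blt i 2816))

/-- A choice of packed blocks. -/
noncomputable def rowSel510 (i : ℕ) : ℕ :=
  (Bool.rec (motive := fun _ => ℕ) rowBlk8
    rowBlk7 (Nat.blt i 2048))

/-- A choice of packed blocks. -/
noncomputable def rowSel511 (i : ℕ) : ℕ :=
  (Bool.rec (motive := fun _ => ℕ) (Bool.rec (motive := fun _ => ℕ) (rowSel510 i)
    rowBlk6 (Nat.blt i 1792))
    (Bool.rec (motive := fun _ => ℕ) rowBlk5
    rowBlk4 (Nat.blt i 1280)) (Nat.blt i 1536))

/-- A choice of packed blocks. -/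
noncomputable def rowSel512 (i : ℕ) : ℕ :=
  (Bool.rec (motive := fun _ => ℕ) (Bool.rec (motive := fun _ => ℕ) rowBlk3
    rowBlk2 (Nat.blt i 768))
    (Bool.rec (motive := fun _ => ℕ) rowBlk1
    rowBlk0 (Nat.blt i 256)) (Nat.blt i 512))

/-- A choice of packed blocks. -/
noncomputable def rowSel513 (i : ℕ) : ℕ :=
  (Bool.rec (motive := fun _ => ℕ) (Bool.rec (motive := fun _ => ℕ) (rowSel508 i)
    (rowSel509 i) (Nat.blt i 3328))
    (Bool.rec (motive := fun _ => ℕ) (rowSel511 i)
    (rowSel512 i) (Nat.blt i 1024)) (Nat.blt i 2304))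

/-- A choice of packed blocks. -/
noncomputable def rowSel514 (i : ℕ) : ℕ :=
  (Bool.rec (motive := fun _ => ℕ) (Bool.rec (motive := fun _ => ℕ) (rowSel491 i)
    (rowSel498 i) (Nat.blt i 14080))
    (Bool.rec (motive := fun _ => ℕ) (rowSel506 i)
    (rowSel513 i) (Nat.blt i 4608)) (Nat.blt i 9472))

/-- A choice of packed blocks. -/
noncomputable def rowSel515 (i : ℕ) : ℕ :=
  (Bool.rec (motive := fun _ => ℕ) (Bool.rec (motive := fun _ => ℕ) (rowSel419 i)
    (rowSel451 i) (Nat.blt i 57344))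
    (Bool.rec (motive := fun _ => ℕ) (rowSel483 i)
    (rowSel514 i) (Nat.blt i 18944)) (Nat.blt i 38144))

/-- A choice of packed blocks. -/
noncomputable def rowSel516 (i : ℕ) : ℕ :=
  (Bool.rec (motive := fun _ => ℕ) (Bool.rec (motive := fun _ => ℕ) (rowSel129 i)
    (rowSel258 i) (Nat.blt i 230144))
    (Bool.rec (motive := fun _ => ℕ) (rowSel387 i)
    (rowSel515 i) (Nat.blt i 76544)) (Nat.blt i 153344))

/-- The twelve images of a point, nineteen bits each. -/
noncomputable def row (i : ℕ) : ℕ :=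
  Nat.land (Nat.shiftRight (rowSel516 i) (Nat.mul 228 (Nat.land i 255))) 0xfffffffffffffffffffffffffffffffffffffffffffffffffffffffff

end CfsgLib.Fi24P
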