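import Cfsg.Agent.Lib.PresCert.Fast
import Cfsg.Agent.Lib.Fi24P.Pres
import Cfsg.Agent.Lib.Fi24P.Rows
import Cfsg.Agent.Lib.Fi24P.ColData0
import Cfsg.Agent.Lib.Fi24P.ColData1

/-!
# The checks at one point of the action on 306936 points

All images of a point are read from one packed word.
-/

set_option autoImplicit false
set_option maxRecDepth 100000

namespace CfsgLib.Fi24P

open CfsgLib.PresCert

/-- A field of a packed word of images. -/
noncomputable def fld (r g : ℕ) : ℕ := Nat.land (Nat.shiftRight r (Nat.mul 19 g)) 524287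

/-- The images under a generator. -/
noncomputable def img (g i : ℕ) : ℕ := fld (row i) g

/-- The table. -/
noncomputable def tab : Fast.Tab where
  ng := 12
  n := 306936
  img := img

/-- The three parts of the points. -/
noncomputable def cls (i : ℕ) : ℕ :=
  Bool.rec (Bool.rec 2 1 (Nat.blt i 31672)) 0 (Nat.beq i 0)

/-- The roots of the orbits of the nine generators commuting with the second one. -/
def orbRoots : List ℕ := [0, 31672, 31675, 11590, 31674, 31673, 32185, 8005, 26338]

/-- The label of a point. -/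
noncomputable def orbLab (i : ℕ) : ℕ := Nat.land (orbCode i) 15

/-- The depth of a point. -/
noncomputable def orbDep (i : ℕ) : ℕ := Nat.land (Nat.shiftRight (orbCode i) 8) 63

/-- The parent of a point. -/
noncomputable def orbPar (i : ℕ) : ℕ := Nat.shiftRight (orbCode i) 14

/-- The generator from the parent. -/
noncomputable def orbVia (i : ℕ) : ℕ := Nat.add 3 (Nat.land (Nat.shiftRight (orbCode i) 4) 15)

/-- Images in range and involutions; the parts are kept by all generators but one. -/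
noncomputable def invAt (i r : ℕ) : Bool :=
    (Nat.blt (fld r 0) 306936 && Nat.beq (fld (row (fld r 0)) 0) i &&
      Nat.beq (cls (fld r 0)) (cls i)) && (
    (Nat.blt (fld r 1) 306936 && Nat.beq (fld (row (fld r 1)) 1) i &&
      true) && (
    (Nat.blt (fld r 2) 306936 && Nat.beq (fld (row (fld r 2)) 2) i &&
      Nat.beq (cls (fld r 2)) (cls i)) && (
    (Nat.blt (fld r 3) 306936 && Nat.beq (fld (row (fld r 3)) 3) i &&
      Nat.beq (cls (fld r 3)) (cls i)) && (
    (Nat.blt (fld r 4) 306936 && Nat.beq (fld (row (fld r 4)) 4) i &&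
      Nat.beq (cls (fld r 4)) (cls i)) && (
    (Nat.blt (fld r 5) 306936 && Nat.beq (fld (row (fld r 5)) 5) i &&
      Nat.beq (cls (fld r 5)) (cls i)) && (
    (Nat.blt (fld r 6) 306936 && Nat.beq (fld (row (fld r 6)) 6) i &&
      Nat.beq (cls (fld r 6)) (cls i)) && (
    (Nat.blt (fld r 7) 306936 && Nat.beq (fld (row (fld r 7)) 7) i &&
      Nat.beq (cls (fld r 7)) (cls i)) && (
    (Nat.blt (fld r 8) 306936 && Nat.beq (fld (row (fld r 8)) 8) i &&
      Nat.beq (cls (fld r 8)) (cls i)) && (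
    (Nat.blt (fld r 9) 306936 && Nat.beq (fld (row (fld r 9)) 9) i &&
      Nat.beq (cls (fld r 9)) (cls i)) && (
    (Nat.blt (fld r 10) 306936 && Nat.beq (fld (row (fld r 10)) 10) i &&
      Nat.beq (cls (fld r 10)) (cls i)) && (
    (Nat.blt (fld r 11) 306936 && Nat.beq (fld (row (fld r 11)) 11) i &&
      Nat.beq (cls (fld r 11)) (cls i)) && (
    true))))))))))))

/-- The commutations. -/
noncomputable def commAt (r : ℕ) : Bool :=
    Nat.beq (fld (row (fld r 0)) 2) (fld (row (fld r 2)) 0) && (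
    Nat.beq (fld (row (fld r 0)) 3) (fld (row (fld r 3)) 0) && (
    Nat.beq (fld (row (fld r 0)) 4) (fld (row (fld r 4)) 0) && (
    Nat.beq (fld (row (fld r 0)) 5) (fld (row (fld r 5)) 0) && (
    Nat.beq (fld (row (fld r 0)) 6) (fld (row (fld r 6)) 0) && (
    Nat.beq (fld (row (fld r 0)) 7) (fld (row (fld r 7)) 0) && (
    Nat.beq (fld (row (fld r 0)) 8) (fld (row (fld r 8)) 0) && (
    Nat.beq (fld (row (fld r 0)) 9) (fld (row (fld r 9)) 0) && (
    Nat.beq (fld (row (fld r 0)) 10) (fld (row (fld r 10)) 0) && (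
    Nat.beq (fld (row (fld r 0)) 11) (fld (row (fld r 11)) 0) && (
    Nat.beq (fld (row (fld r 1)) 3) (fld (row (fld r 3)) 1) && (
    Nat.beq (fld (row (fld r 1)) 4) (fld (row (fld r 4)) 1) && (
    Nat.beq (fld (row (fld r 1)) 5) (fld (row (fld r 5)) 1) && (
    Nat.beq (fld (row (fld r 1)) 6) (fld (row (fld r 6)) 1) && (
    Nat.beq (fld (row (fld r 1)) 7) (fld (row (fld r 7)) 1) && (
    Nat.beq (fld (row (fld r 1)) 8) (fld (row (fld r 8)) 1) && (
    Nat.beq (fld (row (fld r 1)) 9) (fld (row (fld r 9)) 1) && (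
    Nat.beq (fld (row (fld r 1)) 10) (fld (row (fld r 10)) 1) && (
    Nat.beq (fld (row (fld r 1)) 11) (fld (row (fld r 11)) 1) && (
    Nat.beq (fld (row (fld r 2)) 4) (fld (row (fld r 4)) 2) && (
    Nat.beq (fld (row (fld r 2)) 5) (fld (row (fld r 5)) 2) && (
    Nat.beq (fld (row (fld r 2)) 6) (fld (row (fld r 6)) 2) && (
    Nat.beq (fld (row (fld r 2)) 7) (fld (row (fld r 7)) 2) && (
    Nat.beq (fld (row (fld r 2)) 8) (fld (row (fld r 8)) 2) && (
    Nat.beq (fld (row (fld r 2)) 9) (fld (row (fld r 9)) 2) && (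
    Nat.beq (fld (row (fld r 2)) 10) (fld (row (fld r 10)) 2) && (
    Nat.beq (fld (row (fld r 2)) 11) (fld (row (fld r 11)) 2) && (
    Nat.beq (fld (row (fld r 3)) 5) (fld (row (fld r 5)) 3) && (
    Nat.beq (fld (row (fld r 3)) 6) (fld (row (fld r 6)) 3) && (
    Nat.beq (fld (row (fld r 3)) 7) (fld (row (fld r 7)) 3) && (
    Nat.beq (fld (row (fld r 3)) 8) (fld (row (fld r 8)) 3) && (
    Nat.beq (fld (row (fld r 3)) 9) (fld (row (fld r 9)) 3) && (
    Nat.beq (fld (row (fld r 3)) 10) (fld (row (fld r 10)) 3) && (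
    Nat.beq (fld (row (fld r 3)) 11) (fld (row (fld r 11)) 3) && (
    Nat.beq (fld (row (fld r 4)) 6) (fld (row (fld r 6)) 4) && (
    Nat.beq (fld (row (fld r 4)) 7) (fld (row (fld r 7)) 4) && (
    Nat.beq (fld (row (fld r 4)) 8) (fld (row (fld r 8)) 4) && (
    Nat.beq (fld (row (fld r 4)) 9) (fld (row (fld r 9)) 4) && (
    Nat.beq (fld (row (fld r 4)) 10) (fld (row (fld r 10)) 4) && (
    Nat.beq (fld (row (fld r 4)) 11) (fld (row (fld r 11)) 4) && (
    Nat.beq (fld (row (fld r 5)) 7) (fld (row (fld r 7)) 5) && (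
    Nat.beq (fld (row (fld r 5)) 8) (fld (row (fld r 8)) 5) && (
    Nat.beq (fld (row (fld r 5)) 9) (fld (row (fld r 9)) 5) && (
    Nat.beq (fld (row (fld r 5)) 11) (fld (row (fld r 11)) 5) && (
    Nat.beq (fld (row (fld r 6)) 8) (fld (row (fld r 8)) 6) && (
    Nat.beq (fld (row (fld r 6)) 9) (fld (row (fld r 9)) 6) && (
    Nat.beq (fld (row (fld r 6)) 10) (fld (row (fld r 10)) 6) && (
    Nat.beq (fld (row (fld r 6)) 11) (fld (row (fld r 11)) 6) && (
    Nat.beq (fld (row (fld r 7)) 9) (fld (row (fld r 9)) 7) && (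
    Nat.beq (fld (row (fld r 7)) 10) (fld (row (fld r 10)) 7) && (
    Nat.beq (fld (row (fld r 7)) 11) (fld (row (fld r 11)) 7) && (
    Nat.beq (fld (row (fld r 8)) 10) (fld (row (fld r 10)) 8) && (
    Nat.beq (fld (row (fld r 8)) 11) (fld (row (fld r 11)) 8) && (
    Nat.beq (fld (row (fld r 9)) 10) (fld (row (fld r 10)) 9) && (
    Nat.beq (fld (row (fld r 9)) 11) (fld (row (fld r 11)) 9) && (
    true)))))))))))))))))))))))))))))))))))))))))))))))))))))))

/-- The braid relations. -/
noncomputable def braidAt (r : ℕ) : Bool :=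
    Nat.beq (fld (row (fld (row (fld r 0)) 1)) 0)
      (fld (row (fld (row (fld r 1)) 0)) 1) && (
    Nat.beq (fld (row (fld (row (fld r 1)) 2)) 1)
      (fld (row (fld (row (fld r 2)) 1)) 2) && (
    Nat.beq (fld (row (fld (row (fld r 2)) 3)) 2)
      (fld (row (fld (row (fld r 3)) 2)) 3) && (
    Nat.beq (fld (row (fld (row (fld r 3)) 4)) 3)
      (fld (row (fld (row (fld r 4)) 3)) 4) && (
    Nat.beq (fld (row (fld (row (fld r 4)) 5)) 4)
      (fld (row (fld (row (fld r 5)) 4)) 5) && (
    Nat.beq (fld (row (fld (row (fld r 5)) 6)) 5)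
      (fld (row (fld (row (fld r 6)) 5)) 6) && (
    Nat.beq (fld (row (fld (row (fld r 5)) 10)) 5)
      (fld (row (fld (row (fld r 10)) 5)) 10) && (
    Nat.beq (fld (row (fld (row (fld r 6)) 7)) 6)
      (fld (row (fld (row (fld r 7)) 6)) 7) && (
    Nat.beq (fld (row (fld (row (fld r 7)) 8)) 7)
      (fld (row (fld (row (fld r 8)) 7)) 8) && (
    Nat.beq (fld (row (fld (row (fld r 8)) 9)) 8)
      (fld (row (fld (row (fld r 9)) 8)) 9) && (
    Nat.beq (fld (row (fld (row (fld r 10)) 11)) 10)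
      (fld (row (fld (row (fld r 11)) 10)) 11) && (
    true)))))))))))

/-- The two products and their powers. -/
noncomputable def powAt (i r : ℕ) : Bool :=
  Nat.beq (colV i)
      (fld (row (fld (row (fld (row (fld (row (fld (row (fld (row (fld r 2)) 3)) 4)) 5)) 6)) 7)) 10) &&
    Nat.beq (colV^[9] i) (fld r 0) &&
    Nat.beq (colU i)
      (fld (row (fld (row (fld (row (fld (row (fld (row (fld (row (fld (row (fld (row (fld (row
        (fld (row (fld (row (fld (row (fld (row (fld r 11)) 10)) 5)) 9)) 8)) 7)) 6)) 5)) 0)) 1)) 2))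
        3)) 4)) 5) &&
    Nat.beq (colU2 i) (colU (colU i)) && Nat.beq (colU (colU2^[8] i)) i

/-- The orbits of the nine generators. -/
noncomputable def orbAt (i : ℕ) : Bool :=
  Nat.blt (orbLab i) 9 && (Nat.beq i (orbRoots.getD (orbLab i) 0) ||
    Nat.blt (orbPar i) 306936 && Nat.blt (orbDep (orbPar i)) (orbDep i) &&
      Nat.beq (orbLab (orbPar i)) (orbLab i) && Nat.blt (orbVia i) 12 &&
        Nat.beq (img (orbVia i) (orbPar i)) i)

/-- All checks at a point. -/
noncomputable def ptChk (i : ℕ) : Bool :=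
  invAt i (row i) && commAt (row i) && braidAt (row i) && powAt i (row i) && orbAt i

/-- A conjunction over a range from a starting point, by a recursor. -/
noncomputable def loop (f : ℕ → Bool) (b m : ℕ) : Bool :=
  Nat.rec (motive := fun _ => Bool) true (fun j ih => f (Nat.add b j) && ih) m

theorem loop_spec (f : ℕ → Bool) (b : ℕ) : ∀ {m j : ℕ}, loop f b m = true → j < m → f (b + j) = true
  | 0, j, _, hj => absurd hj (Nat.not_lt_zero j)
  | m + 1, j, h, hj => by
    change (f (b + m) && loop f b m) = true at h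
    rw [Bool.and_eq_true] at h
    rcases Nat.lt_succ_iff_lt_or_eq.1 hj with hlt | rfl
    · exact loop_spec f b h.2 hlt
    · exact h.1

/-- The checks on a block of points. -/
noncomputable def blockChk (b : ℕ) : Bool :=
  loop (fun i => !(Nat.blt i 306936) || ptChk i) (1000 * b) 1000

end CfsgLib.Fi24P
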