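import Cfsg.Agent.Lib.Fi23P.PermLevels

/-!
# Derived images of cosets under the second generator

A state is a root with a word in the other generators. An edge says that the second generator
carries one state to another; a use moves along an edge after a translation, justified by an
identity of words in the stabiliser of the root.
-/

set_option autoImplicit false
set_option maxRecDepth 100000

namespace CfsgLib.Fi24P

open CfsgLib.PresCert

/-- A use of an edge: its number, its direction, the translation and the witness. -/
structure Use where
  /-- The number of the edge. -/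
  edge : ℕ
  /-- The direction. -/
  flip : Bool
  /-- The translation, commuting with the second generator. -/
  mid : List ℕ
  /-- The stabiliser words. -/
  wit : List ℕ

/-- A derivation of an edge by a braid relation. -/
structure Step where
  /-- The edge it starts from. -/
  edge : ℕ
  /-- The direction. -/
  flip : Bool
  /-- The translation. -/
  mid : List ℕ
  /-- The braided letter. -/
  letter : ℕ
  /-- The use at the other end. -/
  use : Use

/-- All letters differ from the second generator. -/
def hLetters (w : List ℕ) : Bool := w.all fun g => Nat.blt g 12 && !(Nat.beq g 1)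

/-- All letters commute with the second generator and fix the first root. -/
def kLetters (w : List ℕ) : Bool := w.all fun g => Nat.blt 2 g && Nat.blt g 12

/-- The word in the smaller group under a word. -/
def projW (w : List ℕ) : List ℕ := (w.filter fun g => !(Nat.beq g 0)).map fun g => g - 2

/-- Two words give the same element of the double cover of the smaller group. -/
noncomputable def sameElt (u v : List ℕ) : Bool :=
  hLetters u && hLetters v && Nat.beq (u.length % 2) (v.length % 2) &&
    Fi23P.sameBase (projW u) (projW v)

/-- The word of a witness. -/
def witWord (S : List (List ℕ)) (v : List ℕ) : List ℕ := v.flatMap fun k => S.getD k []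

/-- Two words carry a root to the same coset. -/
noncomputable def eqState (S : List (List ℕ)) (R : ℕ) (h h2 v : List ℕ) : Bool :=
  match R with
  | 0 => hLetters h && hLetters h2
  | 1 => sameElt h (witWord S v ++ h2)
  | 2 => hLetters h && hLetters h2 &&
      Nat.beq (Fi23P.tab.walk 0 (projW h)) (Fi23P.tab.walk 0 (projW h2))
  | _ => false

/-- The side of an edge. -/
def edgeSide (E : List ((ℕ × List ℕ) × (ℕ × List ℕ))) (e : ℕ) (f : Bool) :
    (ℕ × List ℕ) × (ℕ × List ℕ) :=
  let p := E.getD e ((9, []), (9, []))
  bif f then (p.2, p.1) else p

/-- A use is justified by the first edges. -/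
noncomputable def useOk (E : List ((ℕ × List ℕ) × (ℕ × List ℕ))) (S : List (List ℕ)) (lim : ℕ)
    (st : ℕ × List ℕ) (u : Use) : Bool :=
  Nat.blt u.edge lim && kLetters u.mid && Nat.beq (edgeSide E u.edge u.flip).1.1 st.1 &&
    eqState S st.1 st.2 ((edgeSide E u.edge u.flip).1.2 ++ u.mid) u.wit

/-- The result of a use. -/
def useRes (E : List ((ℕ × List ℕ) × (ℕ × List ℕ))) (u : Use) : ℕ × List ℕ :=
  ((edgeSide E u.edge u.flip).2.1, (edgeSide E u.edge u.flip).2.2 ++ u.mid)

/-- A derived edge is justified by the edges before it. -/
noncomputable def stepOk (E : List ((ℕ × List ℕ) × (ℕ × List ℕ))) (S : List (List ℕ)) (k : ℕ)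
    (s : Step) : Bool :=
  let a := (edgeSide E s.edge s.flip).1
  let b := (edgeSide E s.edge s.flip).2
  let r := useRes E s.use
  Nat.blt s.edge k && kLetters s.mid && (Nat.beq s.letter 0 || Nat.beq s.letter 2) &&
    useOk E S k (b.1, b.2 ++ s.mid ++ [s.letter]) s.use &&
    decide (E.getD k ((9, []), (9, [])) =
      ((a.1, a.2 ++ s.mid ++ [s.letter]), (r.1, r.2 ++ [s.letter])))

/-- Following a word, with the uses at the second generator. -/
noncomputable def tracePath (E : List ((ℕ × List ℕ) × (ℕ × List ℕ))) (S : List (List ℕ)) (lim : ℕ) :
    ℕ × List ℕ → List ℕ → List Use → Option (ℕ × List ℕ)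
  | st, [], _ => some st
  | st, g :: w, us =>
    if Nat.beq g 1 then
      match us with
      | [] => none
      | u :: us' => if useOk E S lim st u then tracePath E S lim (useRes E u) w us' else none
    else if Nat.blt g 12 then tracePath E S lim (st.1, st.2 ++ [g]) w us else none

end CfsgLib.Fi24P
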