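import Cfsg.Agent.Lib.Fi24P.Orth

/-!
# The index of the subgroup and the order
-/

set_option autoImplicit false
set_option maxRecDepth 100000

namespace CfsgLib.Fi24P

open CfsgLib.PresCert Cfsg.Spor

/-- An orbit of the subgroup through a root. -/
def orbOf (R : ℕ) : Set Cos := {x | ∃ w, hLetters w = true ∧ act ftGen w • root R = x}

/-- The three double cosets. -/
def allOrb : Set Cos := {x | x = base0 ∨ x ∈ orbOf 1 ∨ x ∈ orbOf 2}

theorem orb_one : (orbOf 1).Finite ∧ (orbOf 1).ncard ≤ 275264 := by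
  haveI := Fi23P.card_fi.1
  classical
  let F : (Cfsg.Spor.Fi23 ⧸ subOne) × Bool → Cos := fun p =>
    psi p.1.out • if p.2 then eltL • root 1 else root 1
  have hsub : orbOf 1 ⊆ Set.range F := by
    rintro x ⟨w, hw, rfl⟩
    rw [act_eq_psi (hLetters_spec hw), pow_eltL, mul_smul]
    set z := act Fi23P.fiGen (projW w)
    have hz : ((z : Cfsg.Spor.Fi23 ⧸ subOne)).out⁻¹ * z ∈ subOne := by
      rw [← QuotientGroup.eq, QuotientGroup.out_eq']
    set o := ((z : Cfsg.Spor.Fi23 ⧸ subOne)).out with ho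
    have e : ∀ y : Cos, psi z • y = psi o • psi (o⁻¹ * z) • y := fun y => by
      rw [← mul_smul, ← map_mul, mul_inv_cancel_left]
    rcases Nat.mod_two_eq_zero_or_one w.length with m | m <;> rw [m]
    · rw [pow_zero, one_smul, e]
      rcases hz with hz | hz <;> rw [hz]
      · exact ⟨(_, false), rfl⟩
      · exact ⟨(_, true), rfl⟩
    · rw [pow_one, e, ← eltL_psi_smul]
      rcases hz with hz | hz <;> rw [hz]
      · exact ⟨(_, true), rfl⟩
      · rw [eltL_twice]; exact ⟨(_, false), rfl⟩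
  haveI := subOne.fintypeQuotientOfFiniteIndex
  have hfin : (Set.range F).Finite := Set.finite_range F
  refine ⟨hfin.subset hsub, ?_⟩
  have h1 := Set.ncard_le_ncard hsub hfin
  have h2 : (Set.range F).ncard ≤ Nat.card ((Cfsg.Spor.Fi23 ⧸ subOne) × Bool) := by
    rw [← Nat.card_coe_set_eq]
    exact Finite.card_range_le F
  rw [Nat.card_prod, ← Subgroup.index_eq_card, Nat.card_eq_fintype_card, Fintype.card_bool] at h2
  have := subOne_index
  omega

theorem orb_two : (orbOf 2).Finite ∧ (orbOf 2).ncard ≤ 31671 := by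
  haveI := Fi23P.card_fi.1
  classical
  let F : (Cfsg.Spor.Fi23 ⧸ Fi23P.subH) → Cos := fun q => psi q.out • root 2
  have hsub : orbOf 2 ⊆ Set.range F := by
    rintro x ⟨w, hw, rfl⟩
    set z := act Fi23P.fiGen (projW w)
    refine ⟨(z : Cfsg.Spor.Fi23 ⧸ Fi23P.subH), ?_⟩
    set o := ((z : Cfsg.Spor.Fi23 ⧸ Fi23P.subH)).out with ho
    have hz : o⁻¹ * z ∈ Fi23P.subH := by
      rw [ho, ← QuotientGroup.eq, QuotientGroup.out_eq']
    have hl : ∀ m : ℕ, eltL ^ m • root 2 = root 2 := by
      intro m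
      induction m with
      | zero => rw [pow_zero, one_smul]
      | succ m ih => rw [pow_succ, mul_smul, standard_fix (y := 0) (by decide), ih]
    show psi o • root 2 = _
    rw [act_eq_psi (hLetters_spec hw), mul_smul, hl]
    show psi o • root 2 = psi z • root 2
    conv_rhs => rw [show z = o * (o⁻¹ * z) by group, map_mul, mul_smul, psi_fix_two hz]
  haveI := Fi23P.subH.fintypeQuotientOfFiniteIndex
  have hfin : (Set.range F).Finite := Set.finite_range F
  refine ⟨hfin.subset hsub, (Set.ncard_le_ncard hsub hfin).trans ?_⟩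
  rw [← Fi23P.subH_spec.1, Subgroup.index_eq_card, ← Nat.card_coe_set_eq]
  exact Finite.card_range_le F

theorem allOrb_small : allOrb.Finite ∧ allOrb.ncard ≤ 306936 := by
  have e : allOrb = insert base0 (orbOf 1 ∪ orbOf 2) := Set.ext fun x => Iff.rfl
  rw [e]
  refine ⟨((orb_one.1.union orb_two.1)).insert _, ?_⟩
  have h1 := Set.ncard_insert_le base0 (orbOf 1 ∪ orbOf 2)
  have h2 := Set.ncard_union_le (orbOf 1) (orbOf 2)
  have := orb_one.2
  have := orb_two.2
  omega

theorem zero_fix : ∀ g < 12, g ≠ 1 → img g 0 = 0 := by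
  have h : ((List.range 12).all fun g => Nat.beq g 1 || Nat.beq (img g 0) 0) = true := by
    decide +kernel
  intro g hg h1
  have := List.all_eq_true.1 h g (List.mem_range.2 hg)
  simp only [Bool.or_eq_true, Nat.beq_eq] at this
  exact this.resolve_left h1

theorem subgH_fix {m : Cfsg.Spor.Fi24} (hm : m ∈ subgH) : phi m pt0 = pt0 := by
  induction hm using Subgroup.closure_induction with
  | mem s hs =>
    obtain ⟨w, hw, rfl⟩ := hs
    simp only [hList, List.mem_cons, List.not_mem_nil, or_false] at hw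
    rcases hw with rfl | rfl | rfl | rfl | rfl | rfl | rfl | rfl | rfl | rfl | rfl <;>
      exact Fin.ext ((phi_pt (by simp)).trans (zero_fix _ (by norm_num) (by norm_num)))
  | one => rw [map_one, Equiv.Perm.one_apply]
  | mul a b _ _ ha hb => rw [map_mul, Equiv.Perm.mul_apply, hb, ha]
  | inv a _ ha => rw [map_inv, Equiv.Perm.inv_def, Equiv.symm_apply_eq, ha]

/-- The point of a coset. -/
noncomputable def proj : Cos → Fin tab.n :=
  Quotient.lift (fun m => phi m pt0) fun a b hab => by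
    have h : a⁻¹ * b ∈ subgH := QuotientGroup.leftRel_apply.1 hab
    have := subgH_fix h
    rw [map_mul, Equiv.Perm.mul_apply, map_inv, Equiv.Perm.inv_def, Equiv.symm_apply_eq] at this
    exact this.symm

theorem proj_smul (m : Cfsg.Spor.Fi24) : proj (m • base0) = phi m pt0 := by
  rw [base0, MulAction.Quotient.smul_coe, smul_eq_mul, mul_one]; rfl

/-- The state of an orbit label. -/
def labState (l : ℕ) : ℕ × List ℕ :=
  (edgeSide edgeData (orbEdge.getD l (0, false)).1 (orbEdge.getD l (0, false)).2).1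

/-- The state across. -/
def labOther (l : ℕ) : ℕ × List ℕ :=
  (edgeSide edgeData (orbEdge.getD l (0, false)).1 (orbEdge.getD l (0, false)).2).2

theorem lab_checks : ((List.range 9).all fun l =>
    Nat.blt (orbEdge.getD l (0, false)).1 8 && Nat.blt (labState l).1 3 &&
      hLetters (labState l).2 && Nat.blt (labOther l).1 3 && hLetters (labOther l).2 &&
      (rootWord (labState l).1 ++ (labState l).2).all (fun g => Nat.blt g 12) &&
      Nat.beq (tab.walk 0 (rootWord (labState l).1 ++ (labState l).2)) (orbRoots.getD l 0)) = true := by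
  decide +kernel

theorem ptOf_mem {st : ℕ × List ℕ} (h1 : st.1 < 3) (h2 : hLetters st.2 = true) :
    ptOf st ∈ allOrb := by
  obtain ⟨R, w⟩ := st
  simp only at h1 h2
  interval_cases R
  · left
    show act ftGen w • root 0 = base0
    rw [show root 0 = base0 by simp [root, rootWord, act_nil], base0_fix h2]
  · exact Or.inr (Or.inl ⟨w, h2, rfl⟩)
  · exact Or.inr (Or.inr ⟨w, h2, rfl⟩)

theorem allOrb_smul {w : List ℕ} (hw : hLetters w = true) {x : Cos} (hx : x ∈ allOrb) :
    act ftGen w • x ∈ allOrb := by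
  have key : ∀ R, x ∈ orbOf R → act ftGen w • x ∈ orbOf R := by
    rintro R ⟨v, hv, rfl⟩
    refine ⟨v ++ w, ?_, by rw [act_append, mul_smul]⟩
    simp only [hLetters, List.all_append, Bool.and_eq_true] at hv hw ⊢
    exact ⟨hv, hw⟩
  rcases hx with rfl | hx | hx
  · exact Or.inl (base0_fix hw)
  · exact Or.inr (Or.inl (key 1 hx))
  · exact Or.inr (Or.inr (key 2 hx))

theorem orb_reach : ∀ {p : ℕ}, p < 306936 → ∃ κ : List ℕ, kLetters κ = true ∧
    tab.walk (orbRoots.getD (orbLab p) 0) κ = p := by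
  intro p
  induction hd : orbDep p using Nat.strong_induction_on generalizing p with
  | h d ih =>
    intro hp
    obtain ⟨-, h | ⟨a, b, c, e, f⟩⟩ := orb_spec (pt_chk hp)
    · exact ⟨[], rfl, h.symm⟩
    · obtain ⟨κ, hκ, hw⟩ := ih _ (hd ▸ b) rfl a
      have h3 : 2 < orbVia p := by
        show 2 < Nat.add 3 _
        exact Nat.lt_of_lt_of_le (by norm_num) (Nat.le_add_right 3 _)
      refine ⟨κ ++ [orbVia p], ?_, ?_⟩
      · simp only [kLetters, List.all_append, List.all_cons, List.all_nil, Bool.and_true,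
          Bool.and_eq_true, Nat.blt_eq] at hκ ⊢
        exact ⟨hκ, h3, e⟩
      · rw [walk_append, ← c, hw]
        exact f

theorem kLetters_h {κ : List ℕ} (h : kLetters κ = true) : hLetters κ = true := by
  simp only [hLetters, List.all_eq_true, Bool.and_eq_true, Nat.blt_eq, Bool.not_eq_true']
  intro g hg
  obtain ⟨h1, h2⟩ := kLetters_spec h g hg
  refine ⟨h2, ?_⟩
  interval_cases g <;> rfl

theorem point_covered (p : Fin tab.n) : ∃ l κ, l < 9 ∧ kLetters κ = true ∧
    act ftGen κ • ptOf (labState l) ∈ allOrb ∧ proj (act ftGen κ • ptOf (labState l)) = p := by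
  have hp : p.val < 306936 := p.isLt
  obtain ⟨κ, hκ, hw⟩ := orb_reach hp
  obtain ⟨hl, -⟩ := orb_spec (pt_chk hp)
  have h := List.all_eq_true.1 lab_checks (orbLab p.val) (List.mem_range.2 hl)
  simp only [Bool.and_eq_true, Nat.blt_eq, Nat.beq_eq, List.all_eq_true] at h
  obtain ⟨⟨⟨⟨⟨⟨-, h1⟩, h2⟩, -⟩, -⟩, h3⟩, h4⟩ := h
  refine ⟨_, κ, hl, hκ, allOrb_smul (kLetters_h hκ) (ptOf_mem h1 h2), ?_⟩
  rw [ptOf, root, ← mul_smul, ← mul_smul, mul_assoc, ← act_append, ← act_append, proj_smul]
  refine Fin.ext ?_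
  rw [phi_pt, walk_append, h4, hw]
  intro g hg
  rcases List.mem_append.1 hg with hg | hg
  · exact h3 g hg
  · exact (kLetters_spec hκ g hg).2

theorem proj_bijOn : Set.InjOn proj allOrb ∧ allOrb.ncard = 306936 := by
  have hsur : proj '' allOrb = Set.univ := Set.eq_univ_of_forall fun p => by
    obtain ⟨l, κ, -, -, hm, he⟩ := point_covered p
    exact ⟨_, hm, he⟩
  have h1 := Set.ncard_image_le (f := proj) allOrb_small.1
  rw [hsur, Set.ncard_univ, Nat.card_fin, tab_n] at h1
  have h2 : allOrb.ncard = 306936 := le_antisymm allOrb_small.2 h1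
  refine ⟨Set.injOn_of_ncard_image_eq ?_ allOrb_small.1, h2⟩
  rw [hsur, Set.ncard_univ, Nat.card_fin, tab_n, h2]

theorem second_closed {x : Cos} (hx : x ∈ allOrb) : ftGen 1 • x ∈ allOrb := by
  obtain ⟨l, κ, hl, hκ, hm, he⟩ := point_covered (proj x)
  obtain rfl := proj_bijOn.1 hx hm he.symm
  have h := List.all_eq_true.1 lab_checks l (List.mem_range.2 hl)
  simp only [Bool.and_eq_true, Nat.blt_eq] at h
  obtain ⟨⟨⟨⟨⟨⟨h0, -⟩, -⟩, h1⟩, h2⟩, -⟩, -⟩ := h
  have ht : ftGen 1 • ptOf (labState l) = ptOf (labOther l) :=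
    side_true edges_all h0 (orbEdge.getD l (0, false)).2
  rw [← mul_smul, second_comm (kLetters_spec hκ), mul_smul, ht]
  exact allOrb_smul (kLetters_h hκ) (ptOf_mem h1 h2)

theorem allOrb_univ : allOrb = Set.univ := by
  refine Set.eq_univ_of_forall fun x => ?_
  obtain ⟨m, rfl⟩ := QuotientGroup.mk_surjective x
  have e : ((m : Cfsg.Spor.Fi24) : Cos) = m • base0 := by
    rw [base0, MulAction.Quotient.smul_coe, smul_eq_mul, mul_one]
  rw [e]
  clear e
  have hm : m ∈ genGrp ((List.range 12).map fun g => [g]) ftGen := by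
    rw [closure_all]; exact Subgroup.mem_top m
  have hgen : ∀ g < 12, ∀ y ∈ allOrb, ftGen g • y ∈ allOrb := by
    intro g hg y hy
    by_cases h1 : g = 1
    · subst h1; exact second_closed hy
    · have hl : hLetters [g] = true := by
        interval_cases g <;> first | exact absurd rfl h1 | decide
      simpa [act_cons, act_nil] using allOrb_smul hl hy
  induction hm using Subgroup.closure_induction_left with
  | one => rw [one_smul]; exact Or.inl rfl
  | mul_left s hs y _ ih =>
    obtain ⟨w, hw, rfl⟩ := hs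
    obtain ⟨g, hg, rfl⟩ := List.mem_map.1 hw
    rw [act_cons, act_nil, one_mul, mul_smul]
    exact hgen g (List.mem_range.1 hg) _ ih
  | inv_mul_cancel s hs y _ ih =>
    obtain ⟨w, hw, rfl⟩ := hs
    obtain ⟨g, hg, rfl⟩ := List.mem_map.1 hw
    rw [act_cons, act_nil, one_mul, inv_eq_of_mul_eq_one_right (ftGen_sq g (List.mem_range.1 hg)),
      mul_smul]
    exact hgen g (List.mem_range.1 hg) _ ih

theorem proj_bijective : Function.Bijective proj := by
  refine ⟨fun a b h => proj_bijOn.1 (allOrb_univ ▸ Set.mem_univ a) (allOrb_univ ▸ Set.mem_univ b) h,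
    fun p => ?_⟩
  obtain ⟨l, κ, -, -, -, he⟩ := point_covered p
  exact ⟨_, he⟩

/-- The index. -/
theorem subgH_index : subgH.index = 306936 := by
  rw [Subgroup.index_eq_card, Nat.card_congr (Equiv.ofBijective proj proj_bijective), Nat.card_fin,
    tab_n]

theorem map_subgH : ((Subgroup.closure ({Cfsg.Spor.Fi24.a, Cfsg.Spor.Fi24.b, Cfsg.Spor.Fi24.c,
      Cfsg.Spor.Fi24.d, Cfsg.Spor.Fi24.e, Cfsg.Spor.Fi24.f, Cfsg.Spor.Fi24.g, Cfsg.Spor.Fi24.h,
      Cfsg.Spor.Fi24.i, Cfsg.Spor.Fi24.j, Cfsg.Spor.Fi24.l} :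
      Set (FreeGroup Cfsg.Spor.Fi24.Gen))).map (PresentedGroup.mk
      (Cfsg.Spor.coxRelators Cfsg.Spor.Fi24.edges ∪ {r | r ∈ Cfsg.Spor.Fi24.extra}))) = subgH := by
  have h := CoxData.map_closure ft_ok [.l, .a, .b, .c, .d, .e, .f, .g, .j, .h, .i]
  have e : ({Cfsg.Spor.Fi24.a, Cfsg.Spor.Fi24.b, Cfsg.Spor.Fi24.c, Cfsg.Spor.Fi24.d,
      Cfsg.Spor.Fi24.e, Cfsg.Spor.Fi24.f, Cfsg.Spor.Fi24.g, Cfsg.Spor.Fi24.h, Cfsg.Spor.Fi24.i,
      Cfsg.Spor.Fi24.j, Cfsg.Spor.Fi24.l} : Set (FreeGroup Cfsg.Spor.Fi24.Gen)) =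
      {r | r ∈ ([.l, .a, .b, .c, .d, .e, .f, .g, .j, .h, .i] : List Fi24.Gen).map FreeGroup.of} := by
    ext r
    simp only [Set.mem_insert_iff, Set.mem_singleton_iff, Set.mem_ofPred_eq, List.map_cons,
      List.map_nil, List.mem_cons, List.not_mem_nil, or_false]
    tauto
  rw [e]
  exact h

end CfsgLib.Fi24P
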