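import Mathlib.GroupTheory.GroupAction.Blocks
import Cfsg.Agent.Lib.Fi24P.Count

/-!
# The commutator subgroup is simple of the expected order
-/

set_option autoImplicit false
set_option maxRecDepth 100000

namespace CfsgLib.Fi24P

open CfsgLib.PresCert Cfsg.Spor

theorem act_neg_one : ∀ w : List ℕ, act (fun _ => (-1 : ℤˣ)) w = (-1 : ℤˣ) ^ w.length
  | [] => rfl
  | g :: w => by rw [act_cons, act_neg_one w, List.length_cons, pow_succ]

theorem rels_even : (ftData.rels.all fun w => Nat.beq (w.length % 2) 0) = true := by decide +kernel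

/-- The sign. -/
noncomputable def signHom : Cfsg.Spor.Fi24 →* ℤˣ :=
  PresentedGroup.toGroup (f := fun _ => (-1 : ℤˣ)) fun r hr => by
    have key : ∀ L : List (Fi24.Gen × Bool), FreeGroup.lift (fun _ => (-1 : ℤˣ)) (FreeGroup.mk L) =
        (-1 : ℤˣ) ^ L.length := by
      intro L
      induction L with
      | nil => rw [← FreeGroup.one_eq_mk, map_one]; rfl
      | cons p L ih =>
        obtain ⟨x, b⟩ := p
        rw [show FreeGroup.mk ((x, b) :: L) = FreeGroup.mk [(x, b)] * FreeGroup.mk L from rfl,
          map_mul, ih, List.length_cons, pow_succ']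
        congr 1
        cases b
        · rw [show FreeGroup.mk [(x, false)] = (FreeGroup.of x)⁻¹ from rfl, map_inv,
            FreeGroup.lift_apply_of]
          rfl
        · exact FreeGroup.lift_apply_of
    rw [← FreeGroup.mk_toWord (x := r), key]
    have h := List.all_eq_true.1 rels_even _ (List.mem_map.2 ⟨r, CoxData.relList_mem.2 hr, rfl⟩)
    simp only [List.length_reverse, List.length_map, Nat.beq_eq] at h
    rw [← Nat.div_add_mod r.toWord.length 2, h, add_zero, pow_mul]
    simp

theorem signHom_gen (g : ℕ) : signHom (ftGen g) = -1 := PresentedGroup.toGroup.of _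

/-- The commutator subgroup. -/
noncomputable abbrev comG : Subgroup Cfsg.Spor.Fi24 := commutator Cfsg.Spor.Fi24

theorem com_le_ker : comG ≤ signHom.ker := Abelianization.commutator_subset_ker _

theorem coset_cases (m : Cfsg.Spor.Fi24) : m ∈ comG ∨ m * eltL ∈ comG := by
  let q : Cfsg.Spor.Fi24 →* Abelianization Cfsg.Spor.Fi24 := Abelianization.of
  have hq : ∀ g < 12, q (ftGen g) = q eltL := by
    have hb : ∀ p ∈ braidList, q (ftGen p.1) = q (ftGen p.2) := by
      rintro ⟨a, b⟩ hp
      have h := congrArg q (gen_braid hp)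
      simp only [map_mul] at h
      rw [mul_comm (q (ftGen b)) (q (ftGen a))] at h
      exact mul_left_cancel h
    have e01 := hb (0, 1) (by decide)
    have e12 := hb (1, 2) (by decide)
    have e23 := hb (2, 3) (by decide)
    have e34 := hb (3, 4) (by decide)
    have e45 := hb (4, 5) (by decide)
    have e56 := hb (5, 6) (by decide)
    have e5x := hb (5, 10) (by decide)
    have e67 := hb (6, 7) (by decide)
    have e78 := hb (7, 8) (by decide)
    have e89 := hb (8, 9) (by decide)
    have exy := hb (10, 11) (by decide)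
    simp only at e01 e12 e23 e34 e45 e56 e5x e67 e78 e89 exy
    have f1 := e01.symm
    have f2 := e12.symm.trans f1
    have f3 := e23.symm.trans f2
    have f4 := e34.symm.trans f3
    have f5 := e45.symm.trans f4
    have f6 := e56.symm.trans f5
    have f7 := e67.symm.trans f6
    have f8 := e78.symm.trans f7
    have f9 := e89.symm.trans f8
    have f10 := e5x.symm.trans f5
    have f11 := exy.symm.trans f10
    intro g hg
    interval_cases g <;> first | rfl | assumption
  have hmem : ∀ x, q x = 1 → x ∈ comG := fun x hx => (QuotientGroup.eq_one_iff x).1 hx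
  suffices q m = 1 ∨ q m = q eltL by
    refine this.imp (hmem m) fun h => hmem _ ?_
    rw [map_mul, h, ← map_mul, eltL_sq, map_one]
  have hm : m ∈ genGrp ((List.range 12).map fun g => [g]) ftGen := by
    rw [closure_all]; exact Subgroup.mem_top m
  induction hm using Subgroup.closure_induction with
  | mem s hs =>
    obtain ⟨w, hw, rfl⟩ := hs
    obtain ⟨g, hg, rfl⟩ := List.mem_map.1 hw
    right
    rw [act_cons, act_nil, one_mul, hq g (List.mem_range.1 hg)]
  | one => exact Or.inl (map_one q)
  | mul a b _ _ ha hb =>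
    rw [map_mul]
    rcases ha with ha | ha <;> rcases hb with hb | hb <;> rw [ha, hb]
    · exact Or.inl (one_mul 1)
    · exact Or.inr (one_mul _)
    · exact Or.inr (mul_one _)
    · exact Or.inl (by rw [← map_mul, eltL_sq, map_one])
  | inv a _ ha =>
    rw [map_inv]
    rcases ha with ha | ha <;> rw [ha]
    · exact Or.inl inv_one
    · exact Or.inr (by rw [← map_inv, inv_eq_of_mul_eq_one_right eltL_sq])

theorem mem_com {m : Cfsg.Spor.Fi24} (h : signHom m = 1) : m ∈ comG := by
  refine (coset_cases m).resolve_right fun h2 => ?_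
  have := com_le_ker h2
  rw [MonoidHom.mem_ker, map_mul, h, signHom_gen, one_mul] at this
  exact absurd this (by decide)

theorem com_index : comG.index = 2 := by
  have e : comG = signHom.ker := le_antisymm com_le_ker fun m hm => mem_com hm
  have hr : signHom.range = ⊤ := by
    refine eq_top_iff.2 fun u _ => ?_
    rcases Int.units_eq_one_or u with rfl | rfl
    · exact ⟨1, map_one _⟩
    · exact ⟨ftGen 0, signHom_gen 0⟩
  rw [e, Subgroup.index_ker, hr, Subgroup.card_top, Nat.card_eq_fintype_card]
  decide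

theorem psi_sign (z : Cfsg.Spor.Fi23) : signHom (psi z) = 1 := by
  have h : z ∈ genGrp ((List.range 10).map fun g => [g]) Fi23P.fiGen := by
    rw [Fi23P.closure_all]; exact Subgroup.mem_top z
  induction h using Subgroup.closure_induction with
  | mem s hs =>
    obtain ⟨w, hw, rfl⟩ := hs
    obtain ⟨g, hg, rfl⟩ := List.mem_map.1 hw
    rw [act_cons, act_nil, one_mul, psi_gen (List.mem_range.1 hg), smallGen, map_mul, signHom_gen,
      signHom_gen]
    decide
  | one => simp
  | mul a b _ _ ha hb => rw [map_mul, map_mul, ha, hb, one_mul]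
  | inv a _ ha => rw [map_inv, map_inv, ha, inv_one]

theorem psi_ne_eltL (z : Cfsg.Spor.Fi23) : psi z ≠ eltL := fun h => by
  have := psi_sign z
  rw [h, signHom_gen] at this
  exact absurd this (by decide)

theorem psi_zero_moves : psi (Fi23P.fiGen 0) • root 1 ≠ root 1 := by
  rw [psi_gen (by norm_num), smallGen, show ftGen (0 + 2) * eltL = act ftGen [0, 2] from by
    simp [act_cons, act_nil], root, rootWord, ← mul_smul, ← act_append]
  intro h
  have h' := congrArg (fun x => (proj x).val) h
  simp only [proj_smul] at h'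
  rw [phi_pt (by decide), phi_pt (by decide)] at h'
  have : Nat.beq (tab.walk 0 ([1] ++ [0, 2])) (tab.walk 0 [1]) = false := by decide +kernel
  rw [Nat.beq_eq.mpr h'] at this
  exact Bool.noConfusion this

theorem psi_injective : Function.Injective psi := by
  haveI := Fi23P.simple
  refine (MonoidHom.ker_eq_bot_iff _).1 ?_
  refine (psi.normal_ker.eq_bot_or_eq_top).resolve_right fun h => psi_zero_moves ?_
  have : Fi23P.fiGen 0 ∈ psi.ker := h ▸ Subgroup.mem_top _
  rw [MonoidHom.mem_ker.1 this, one_smul]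

theorem subgH_cases {m : Cfsg.Spor.Fi24} (hm : m ∈ subgH) :
    ∃ z, m = psi z ∨ m = psi z * eltL := by
  induction hm using Subgroup.closure_induction with
  | mem s hs =>
    obtain ⟨w, hw, rfl⟩ := hs
    have hl : hLetters w = true := by
      simp only [hList, List.mem_cons, List.not_mem_nil, or_false] at hw
      rcases hw with rfl | rfl | rfl | rfl | rfl | rfl | rfl | rfl | rfl | rfl | rfl <;> rfl
    refine ⟨act Fi23P.fiGen (projW w), ?_⟩
    rw [act_eq_psi (hLetters_spec hl), pow_eltL]
    rcases Nat.mod_two_eq_zero_or_one w.length with e | e <;> rw [e]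
    · exact Or.inl (by rw [pow_zero, mul_one])
    · exact Or.inr (by rw [pow_one])
  | one => exact ⟨1, Or.inl (map_one psi).symm⟩
  | mul a b _ _ ha hb =>
    obtain ⟨y, ha⟩ := ha
    obtain ⟨z, hb⟩ := hb
    refine ⟨y * z, ?_⟩
    rcases ha with ha | ha <;> rcases hb with hb | hb <;> rw [ha, hb, map_mul]
    · exact Or.inl rfl
    · exact Or.inr (by rw [mul_assoc])
    · exact Or.inr (by rw [mul_assoc, psi_comm, ← mul_assoc])
    · exact Or.inl (by rw [mul_assoc, ← mul_assoc eltL, psi_comm, mul_assoc, eltL_sq, mul_one])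
  | inv a _ ha =>
    obtain ⟨y, ha | ha⟩ := ha
    · exact ⟨y⁻¹, Or.inl (by rw [ha, map_inv])⟩
    · refine ⟨y⁻¹, Or.inr ?_⟩
      rw [ha, mul_inv_rev, ← map_inv, inv_eq_of_mul_eq_one_right eltL_sq, psi_comm]

theorem psi_mem (z : Cfsg.Spor.Fi23) : psi z ∈ subgH := by
  have h : z ∈ genGrp ((List.range 10).map fun g => [g]) Fi23P.fiGen := by
    rw [Fi23P.closure_all]; exact Subgroup.mem_top z
  induction h using Subgroup.closure_induction with
  | mem s hs =>
    obtain ⟨w, hw, rfl⟩ := hs
    obtain ⟨g, hg, rfl⟩ := List.mem_map.1 hw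
    rw [List.mem_range] at hg
    rw [act_cons, act_nil, one_mul, psi_gen hg, smallGen]
    exact Subgroup.mul_mem _ (by
      simpa [act_cons, act_nil] using hLetters_mem (w := [g + 2]) (by
        simp only [hLetters, List.all_cons, List.all_nil, Bool.and_true, Bool.and_eq_true,
          Nat.blt_eq]
        exact ⟨by omega, rfl⟩)) (by
      simpa [act_cons, act_nil] using hLetters_mem (w := [0]) rfl)
  | one => rw [map_one]; exact Subgroup.one_mem _
  | mul a b _ _ ha hb => rw [map_mul]; exact Subgroup.mul_mem _ ha hb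
  | inv a _ ha => rw [map_inv]; exact Subgroup.inv_mem _ ha

theorem subgH_card : Nat.card subgH = 2 * 4089470473293004800 := by
  haveI := Fi23P.card_fi.1
  have hl : eltL ∈ subgH := by simpa [act_cons, act_nil] using hLetters_mem (w := [0]) rfl
  let F : Cfsg.Spor.Fi23 × Bool → subgH := fun p =>
    ⟨psi p.1 * (if p.2 then eltL else 1), Subgroup.mul_mem _ (psi_mem p.1) (by
      split_ifs
      · exact hl
      · exact Subgroup.one_mem _)⟩
  have hF : Function.Bijective F := by
    constructor
    · rintro ⟨y, a⟩ ⟨z, b⟩ h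
      have h' : psi y * (if a then eltL else 1) = psi z * (if b then eltL else 1) :=
        congrArg Subtype.val h
      have key : ∀ {u v : Cfsg.Spor.Fi23}, psi u ≠ psi v * eltL := fun {u v} e =>
        psi_ne_eltL (v⁻¹ * u) (by rw [map_mul, map_inv, e, inv_mul_cancel_left])
      cases a <;> cases b <;> simp only [Bool.false_eq_true, if_false, if_true, mul_one] at h'
      · rw [psi_injective h']
      · exact absurd h' key
      · exact absurd h'.symm key
      · rw [psi_injective (mul_right_cancel h')]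
    · rintro ⟨m, hm⟩
      obtain ⟨z, h | h⟩ := subgH_cases hm
      · exact ⟨(z, false), Subtype.ext (by simp [F, h])⟩
      · exact ⟨(z, true), Subtype.ext (by simp [F, h])⟩
  rw [← Nat.card_congr (Equiv.ofBijective F hF), Nat.card_prod, Fi23P.card_fi.2,
    Nat.card_eq_fintype_card, Fintype.card_bool, mul_comm]

theorem card_big : Nat.card Cfsg.Spor.Fi24 = 2510411418381323442585600 := by
  rw [← subgH.card_mul_index, subgH_card, subgH_index]

theorem card_com : Nat.card comG = 1255205709190661721292800 := by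
  have h := comG.card_mul_index
  rw [com_index, card_big] at h
  omega

/-- The smaller group inside the commutator subgroup. -/
noncomputable def psiCom : Cfsg.Spor.Fi23 →* comG := psi.codRestrict comG fun z => mem_com (psi_sign z)

theorem psi_smul_base (z : Cfsg.Spor.Fi23) : psi z • base0 = base0 := by
  rw [base0, MulAction.Quotient.smul_coe, smul_eq_mul, mul_one, QuotientGroup.eq, mul_one]
  exact inv_mem (psi_mem z)

theorem orbOf_one_psi {x : Cos} (hx : x ∈ orbOf 1) : ∃ z, psi z • root 1 = x := by
  obtain ⟨w, hw, rfl⟩ := hx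
  rw [act_eq_psi (hLetters_spec hw), pow_eltL, mul_smul]
  rcases Nat.mod_two_eq_zero_or_one w.length with e | e <;> rw [e]
  · exact ⟨_, by rw [pow_zero, one_smul]⟩
  · refine ⟨act Fi23P.fiGen (projW w) * Fi23P.fiGen 1, ?_⟩
    have h3 : ftGen 3 • root 1 = root 1 := by
      simpa [act_cons, act_nil] using first_letters (w := [3]) (by simp)
    rw [map_mul, mul_smul, pow_one, psi_gen (by norm_num), smallGen,
      ← eltL_comm (g := 3) (by norm_num) (by norm_num), mul_smul, h3]

theorem orbOf_two_psi {x : Cos} (hx : x ∈ orbOf 2) : ∃ z, psi z • root 2 = x := by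
  obtain ⟨w, hw, rfl⟩ := hx
  refine ⟨act Fi23P.fiGen (projW w), ?_⟩
  rw [act_eq_psi (hLetters_spec hw), pow_eltL, mul_smul]
  rcases Nat.mod_two_eq_zero_or_one w.length with e | e <;> rw [e]
  · rw [pow_zero, one_smul]
  · rw [pow_one, standard_fix (y := 0) (by decide)]

theorem cos_cases (x : Cos) : x = base0 ∨ x ∈ orbOf 1 ∨ x ∈ orbOf 2 :=
  allOrb_univ.ge (Set.mem_univ x)

theorem com_transitive : MulAction.IsPretransitive comG Cos := by
  refine ⟨fun x y => ?_⟩
  have key : ∀ x : Cos, ∃ c : comG, c • base0 = x := by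
    intro x
    obtain ⟨m, rfl⟩ := QuotientGroup.mk_surjective x
    have e : ((m : Cfsg.Spor.Fi24) : Cos) = m • base0 := by
      rw [base0, MulAction.Quotient.smul_coe, smul_eq_mul, mul_one]
    rcases coset_cases m with h | h
    · exact ⟨⟨m, h⟩, e.symm⟩
    · refine ⟨⟨_, h⟩, ?_⟩
      show (m * eltL) • base0 = _
      rw [mul_smul, e, gen_fix_base0 (by norm_num) (by norm_num)]
  obtain ⟨a, ha⟩ := key x
  obtain ⟨b, hb⟩ := key y
  exact ⟨b * a⁻¹, by rw [mul_smul, ← ha, inv_smul_smul, hb]⟩

theorem kernel_trivial {z : Cfsg.Spor.Fi23} (h : ∀ x : Cos, psi z • x = x) : z = 1 := by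
  haveI := Fi23P.simple
  let K : Subgroup Cfsg.Spor.Fi23 := (MulAction.toPermHom Cfsg.Spor.Fi24 Cos).ker.comap psi
  have hK : K = ⊥ := by
    haveI : K.Normal := Subgroup.Normal.comap inferInstance psi
    refine (Subgroup.Normal.eq_bot_or_eq_top (H := K) inferInstance).resolve_right fun e => ?_
    refine psi_zero_moves ?_
    have h0 : Fi23P.fiGen 0 ∈ K := e ▸ Subgroup.mem_top _
    exact Equiv.congr_fun (MonoidHom.mem_ker.1 (Subgroup.mem_comap.1 h0)) (root 1)
  have : z ∈ K := MonoidHom.mem_ker.2 (Equiv.ext h)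
  rwa [hK, Subgroup.mem_bot] at this

/-- The commutator subgroup is simple. -/
theorem com_simple : IsSimpleGroup comG := by
  haveI : Finite comG := Nat.finite_of_card_ne_zero (by rw [card_com]; norm_num)
  haveI := com_transitive
  haveI := Fi23P.simple
  haveI : Nontrivial comG := Finite.one_lt_card_iff_nontrivial.1 (by rw [card_com]; norm_num)
  have hcard : Nat.card Cos = 306936 := by
    rw [← Subgroup.index_eq_card]; exact subgH_index
  haveI : Finite Cos := Nat.finite_of_card_ne_zero (by rw [hcard]; norm_num)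
  refine ⟨fun N hN => or_iff_not_imp_left.2 fun hne => ?_⟩
  haveI := hN
  set O := MulAction.orbit N base0 with hO
  have hdvd : O.ncard ∣ 306936 := by
    rw [← hcard]
    exact (MulAction.IsBlock.orbit_of_normal (G := comG) (N := N) base0).ncard_dvd_card
      (MulAction.nonempty_orbit base0)
  have hconj : ∀ (n : N) (z : Cfsg.Spor.Fi23), psi z • n • base0 =
      (⟨psiCom z * n.1 * (psiCom z)⁻¹, hN.conj_mem n.1 n.2 _⟩ : N) • base0 := by
    intro n z
    show psi z • (n.1 : Cfsg.Spor.Fi24) • base0 = ((psiCom z * n.1 * (psiCom z)⁻¹ : comG) : Cfsg.Spor.Fi24) • base0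
    simp only [Subgroup.coe_mul, Subgroup.coe_inv, mul_smul]
    rw [show ((psiCom z : comG) : Cfsg.Spor.Fi24) = psi z from rfl, ← map_inv, psi_smul_base]
  have hinv : ∀ x ∈ O, ∀ z, psi z • x ∈ O := by
    rintro _ ⟨n, rfl⟩ z
    exact ⟨_, (hconj n z).symm⟩
  have hr : ∀ R : ℕ, ∀ x ∈ orbOf R, R = 1 ∨ R = 2 → x ∈ O → orbOf R ⊆ O := by
    rintro R x hx hR hxO y hy
    have : ∀ {w}, w ∈ orbOf R → ∃ z, psi z • root R = w := fun {w} hw => by
      rcases hR with rfl | rfl
      exacts [orbOf_one_psi hw, orbOf_two_psi hw]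
    obtain ⟨a, rfl⟩ := this hx
    obtain ⟨b, rfl⟩ := this hy
    have := hinv _ hxO (b * a⁻¹)
    rwa [map_mul, mul_smul, map_inv, inv_smul_smul] at this
  have hbig : ∃ x ∈ O, x ≠ base0 := by
    by_contra h
    simp only [not_exists, not_and, ne_eq, not_not] at h
    refine hne (eq_bot_iff.2 fun n hn => Subgroup.mem_bot.2 ?_)
    have hfix : ∀ x : Cos, (n : Cfsg.Spor.Fi24) • x = x := by
      intro x
      obtain ⟨c, rfl⟩ := MulAction.exists_smul_eq comG base0 x
      have h2 := h _ ⟨⟨c⁻¹ * n * c, hN.conj_mem' n hn c⟩, rfl⟩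
      have h3 : (c⁻¹ * n * c) • base0 = base0 := h2
      rw [mul_smul, mul_smul, inv_smul_eq_iff] at h3
      exact h3
    obtain ⟨z, hz | hz⟩ := subgH_cases (m := (n : Cfsg.Spor.Fi24)) (by
      have := hfix base0
      rw [base0, MulAction.Quotient.smul_coe, smul_eq_mul, mul_one, QuotientGroup.eq, mul_one] at this
      exact inv_mem_iff.1 this)
    · refine Subtype.ext ?_
      rw [hz, kernel_trivial (z := z) (by intro x; rw [← hz]; exact hfix x), map_one]
      rfl
    · exfalso
      have := com_le_ker n.2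
      rw [MonoidHom.mem_ker, hz, map_mul, psi_sign, signHom_gen, one_mul] at this
      exact absurd this (by decide)
  have hall : O = Set.univ := by
    have e : allOrb = insert base0 (orbOf 1 ∪ orbOf 2) := Set.ext fun x => Iff.rfl
    have hc := proj_bijOn.2
    rw [e] at hc
    have a1 := Set.ncard_insert_le base0 (orbOf 1 ∪ orbOf 2)
    have a2 := Set.ncard_union_le (orbOf 1) (orbOf 2)
    have a3 := orb_one.2
    have a4 := orb_two.2
    have hb : base0 ∉ orbOf 1 ∪ orbOf 2 := fun h => by
      rw [Set.insert_eq_of_mem h] at hc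
      omega
    have hb0 : base0 ∈ O := MulAction.mem_orbit_self base0
    by_contra hne'
    have hnot : ¬(orbOf 1 ⊆ O ∧ orbOf 2 ⊆ O) := fun h => hne' (Set.eq_univ_of_forall fun x => by
      rcases cos_cases x with rfl | hx | hx
      exacts [hb0, h.1 hx, h.2 hx])
    obtain ⟨x, hxO, hx0⟩ := hbig
    have hsame : ∀ R T : ℕ, (R = 1 ∧ T = 2 ∨ R = 2 ∧ T = 1) → x ∈ orbOf R →
        O = insert base0 (orbOf R) := by
      intro R T hRT hxR
      have hR : orbOf R ⊆ O := hr R x hxR (by omega) hxO
      refine Set.Subset.antisymm (fun y hy => ?_) (Set.insert_subset hb0 hR)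
      rcases cos_cases y with rfl | hy' | hy'
      · exact Or.inl rfl
      · rcases hRT with ⟨rfl, rfl⟩ | ⟨rfl, rfl⟩
        · exact Or.inr hy'
        · exact absurd ⟨hr 1 y hy' (Or.inl rfl) hy, hR⟩ hnot
      · rcases hRT with ⟨rfl, rfl⟩ | ⟨rfl, rfl⟩
        · exact absurd ⟨hR, hr 2 y hy' (Or.inr rfl) hy⟩ hnot
        · exact Or.inr hy'
    rcases cos_cases x with rfl | hx | hx
    · exact hx0 rfl
    · rw [hsame 1 2 (Or.inl ⟨rfl, rfl⟩) hx,
        Set.ncard_insert_of_notMem (fun h => hb (Or.inl h)) (Set.toFinite _),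
        show (orbOf 1).ncard = 275264 by omega] at hdvd
      norm_num at hdvd
    · rw [hsame 2 1 (Or.inr ⟨rfl, rfl⟩) hx,
        Set.ncard_insert_of_notMem (fun h => hb (Or.inr h)) (Set.toFinite _),
        show (orbOf 2).ncard = 31671 by omega] at hdvd
      norm_num at hdvd
  have hdec : ∀ c : comG, ∃ n ∈ N, ∃ z, c = n * psiCom z := by
    intro c
    obtain ⟨⟨n, hn⟩, hx⟩ : c • base0 ∈ O := hall ▸ Set.mem_univ _
    have hx' : (n : Cfsg.Spor.Fi24) • base0 = (c : Cfsg.Spor.Fi24) • base0 := hx
    have hm : ((n : Cfsg.Spor.Fi24))⁻¹ * c ∈ subgH := by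
      rw [base0, MulAction.Quotient.smul_coe, MulAction.Quotient.smul_coe, smul_eq_mul, mul_one,
        smul_eq_mul, mul_one, QuotientGroup.eq] at hx'
      exact hx'
    obtain ⟨z, hz | hz⟩ := subgH_cases hm
    · exact ⟨n, hn, z, Subtype.ext (by
        show (c : Cfsg.Spor.Fi24) = (n : Cfsg.Spor.Fi24) * psi z
        rw [← hz, mul_inv_cancel_left])⟩
    · exfalso
      have := com_le_ker (mul_mem (inv_mem n.2) c.2)
      rw [MonoidHom.mem_ker, hz, map_mul, psi_sign, signHom_gen, one_mul] at this
      exact absurd this (by decide)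
  rcases (Subgroup.Normal.comap hN psiCom).eq_bot_or_eq_top with h | h
  · exfalso
    have hinj : ∀ a b : N, a • base0 = b • base0 → a = b := by
      intro a b hab
      have hm : ((b.1 : comG) : Cfsg.Spor.Fi24)⁻¹ * ((a.1 : comG) : Cfsg.Spor.Fi24) ∈ subgH := by
        have hab' : ((a.1 : comG) : Cfsg.Spor.Fi24) • base0 = ((b.1 : comG) : Cfsg.Spor.Fi24) • base0 := hab
        rw [base0, MulAction.Quotient.smul_coe, MulAction.Quotient.smul_coe, smul_eq_mul, mul_one,
          smul_eq_mul, mul_one, QuotientGroup.eq] at hab'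
        simpa using inv_mem hab'
      obtain ⟨z, hz | hz⟩ := subgH_cases hm
      · have : psiCom z = b.1⁻¹ * a.1 := Subtype.ext hz.symm
        have hz1 : z ∈ N.comap psiCom := by
          rw [Subgroup.mem_comap, this]; exact mul_mem (inv_mem b.2) a.2
        rw [h, Subgroup.mem_bot] at hz1
        subst hz1
        rw [map_one] at this
        exact Subtype.ext (inv_mul_eq_one.1 this.symm).symm
      · exfalso
        have := com_le_ker (mul_mem (inv_mem b.1.2) a.1.2)
        rw [MonoidHom.mem_ker, hz, map_mul, psi_sign, signHom_gen, one_mul] at this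
        exact absurd this (by decide)
    have hN' : Nat.card N = 306936 := by
      rw [← hcard]
      refine Nat.card_congr (Equiv.ofBijective (fun n : N => n • base0) ⟨hinj, fun x => ?_⟩)
      exact (hall ▸ Set.mem_univ x : x ∈ O)
    have hord : ∀ a b : N, ∀ z, psi z • a • base0 = b • base0 → orderOf a = orderOf b := by
      intro a b z hab
      rw [hconj] at hab
      rw [← hinj _ _ hab]
      have e1 : orderOf (psiCom z * a.1 * (psiCom z)⁻¹) = orderOf a.1 :=
        MulEquiv.orderOf_eq (MulAut.conj (psiCom z)) a.1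
      rw [← Subgroup.orderOf_coe a, ← e1]
      exact Subgroup.orderOf_coe (⟨psiCom z * a.1 * (psiCom z)⁻¹, hN.conj_mem a.1 a.2 _⟩ : N)
    have hex : ∀ p : ℕ, p.Prime → p ∣ 306936 → ∃ a : N, orderOf a = p ∧
        (a • base0 ∈ orbOf 1 ∨ a • base0 ∈ orbOf 2) := by
      intro p hp hd
      haveI := Fact.mk hp
      obtain ⟨a, ha⟩ := exists_prime_orderOf_dvd_card' (G := N) p (hN'.symm ▸ hd)
      refine ⟨a, ha, (cos_cases (a • base0)).resolve_left fun h0 => ?_⟩
      have : a = 1 := hinj a 1 (by rw [h0, one_smul])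
      rw [this, orderOf_one] at ha
      exact hp.one_lt.ne ha
    have hs : ∀ a b : N, ∀ R, R = 1 ∨ R = 2 → a • base0 ∈ orbOf R → b • base0 ∈ orbOf R →
        orderOf a = orderOf b := by
      intro a b R hR ha hb
      have : ∀ {w}, w ∈ orbOf R → ∃ z, psi z • root R = w := fun {w} hw => by
        rcases hR with rfl | rfl
        exacts [orbOf_one_psi hw, orbOf_two_psi hw]
      obtain ⟨y, hy⟩ := this ha
      obtain ⟨z, hz⟩ := this hb
      refine hord a b (z * y⁻¹) ?_
      rw [← hy, map_mul, mul_smul, map_inv, inv_smul_smul, hz]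
    obtain ⟨a, ha, ha'⟩ := hex 3 (by norm_num) (by norm_num)
    obtain ⟨b, hb, hb'⟩ := hex 7 (by norm_num) (by norm_num)
    obtain ⟨c, hc, hc'⟩ := hex 29 (by norm_num) (by norm_num)
    have hab := fun R hR x y => hs a b R hR x y
    have hac := fun R hR x y => hs a c R hR x y
    have hbc := fun R hR x y => hs b c R hR x y
    rcases ha' with ha' | ha' <;> rcases hb' with hb' | hb' <;> rcases hc' with hc' | hc' <;>
      first
        | (have := hab _ (by norm_num) ha' hb'; omega)
        | (have := hac _ (by norm_num) ha' hc'; omega)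
        | (have := hbc _ (by norm_num) hb' hc'; omega)
  · refine eq_top_iff.2 fun c _ => ?_
    obtain ⟨n, hn, z, rfl⟩ := hdec c
    exact mul_mem hn (show z ∈ N.comap psiCom from h ▸ Subgroup.mem_top z)

end CfsgLib.Fi24P
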