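import Cfsg.Agent.Lib.PresCert.Bound
import Cfsg.Agent.Lib.Fi24P.CertEightData

/-!
# Kernel checks of CertEight, part 0
-/

set_option autoImplicit false
set_option maxRecDepth 100000

namespace CfsgLib.Fi24P

open CfsgLib.PresCert

theorem certEight_block0 : block certEight 0 = true := by decide +kernel

theorem certEight_block1 : block certEight 1 = true := by decide +kernel

theorem certEight_block2 : block certEight 2 = true := by decide +kernel

end CfsgLib.Fi24P
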