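import Cfsg.Agent.Lib.PresCert.Bound
import Cfsg.Agent.Lib.Fi24P.CertSpiderData

/-!
# Kernel checks of CertSpider, part 1
-/

set_option autoImplicit false
set_option maxRecDepth 100000

namespace CfsgLib.Fi24P

open CfsgLib.PresCert

theorem certSpider_block4 : block certSpider 4 = true := by decide +kernel

theorem certSpider_block5 : block certSpider 5 = true := by decide +kernel

theorem certSpider_block6 : block certSpider 6 = true := by decide +kernel

theorem certSpider_block7 : block certSpider 7 = true := by decide +kernel

end CfsgLib.Fi24P
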