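import Cfsg.Agent.Lib.PresCert.Bound
import Cfsg.Agent.Lib.Fi24P.CertSpiderData

/-!
# Kernel checks of CertSpider, part 3
-/

set_option autoImplicit false
set_option maxRecDepth 100000

namespace CfsgLib.Fi24P

open CfsgLib.PresCert

theorem certSpider_block12 : block certSpider 12 = true := by decide +kernel

theorem certSpider_block13 : block certSpider 13 = true := by decide +kernel

theorem certSpider_block14 : block certSpider 14 = true := by decide +kernel

theorem certSpider_block15 : block certSpider 15 = true := by decide +kernel

end CfsgLib.Fi24P
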