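import Cfsg.Agent.Lib.PresCert.Bound
import Cfsg.Agent.Lib.Fi24P.CertSpiderData

/-!
# Kernel checks of CertSpider, part 4
-/

set_option autoImplicit false
set_option maxRecDepth 100000

namespace CfsgLib.Fi24P

open CfsgLib.PresCert

theorem certSpider_block16 : block certSpider 16 = true := by decide +kernel

theorem certSpider_block17 : block certSpider 17 = true := by decide +kernel

theorem certSpider_block18 : block certSpider 18 = true := by decide +kernel

theorem certSpider_block19 : block certSpider 19 = true := by decide +kernel

end CfsgLib.Fi24P
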