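import Cfsg.Agent.Lib.Fi24P.PermDefs

/-!
# What the checks at a point say
-/

set_option autoImplicit false
set_option maxRecDepth 100000

namespace CfsgLib.Fi24P

open CfsgLib.PresCert

theorem invAt_eq (i r : ℕ) : invAt i r = (List.range 12).all fun g =>
    Nat.blt (fld r g) 306936 && (Nat.beq (fld (row (fld r g)) g) i &&
      (Nat.beq g 1 || Nat.beq (cls (fld r g)) (cls i))) := by
  simp only [invAt, List.range, List.range.loop, List.all_cons, List.all_nil, Bool.and_assoc]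
  rfl

theorem commAt_eq (r : ℕ) : commAt r = commList.all fun p =>
    Nat.beq (fld (row (fld r p.1)) p.2) (fld (row (fld r p.2)) p.1) := rfl

theorem braidAt_eq (r : ℕ) : braidAt r = braidList.all fun p =>
    Nat.beq (fld (row (fld (row (fld r p.1)) p.2)) p.1)
      (fld (row (fld (row (fld r p.2)) p.1)) p.2) := rfl

variable {i : ℕ} (h : ptChk i = true)

include h

theorem inv_spec {g : ℕ} (hg : g < 12) :
    img g i < 306936 ∧ img g (img g i) = i ∧ (g ≠ 1 → cls (img g i) = cls i) := by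
  simp only [ptChk, Bool.and_eq_true, invAt_eq, List.all_eq_true, List.mem_range] at h
  have h' := h.1.1.1.1 g hg
  simp only [Bool.and_eq_true, Bool.or_eq_true, Nat.blt_eq, Nat.beq_eq] at h'
  obtain ⟨a, b, c⟩ := h'
  exact ⟨a, b, fun hne => c.resolve_left hne⟩

theorem comm_spec {p : ℕ × ℕ} (hp : p ∈ commList) :
    img p.2 (img p.1 i) = img p.1 (img p.2 i) := by
  simp only [ptChk, Bool.and_eq_true, commAt_eq, List.all_eq_true, Nat.beq_eq] at h
  exact h.1.1.1.2 p hp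

theorem braid_spec {p : ℕ × ℕ} (hp : p ∈ braidList) :
    img p.1 (img p.2 (img p.1 i)) = img p.2 (img p.1 (img p.2 i)) := by
  simp only [ptChk, Bool.and_eq_true, braidAt_eq, List.all_eq_true, Nat.beq_eq] at h
  exact h.1.1.2 p hp

theorem pow_spec : colV i = tab.walk i wordV ∧ colV^[9] i = img 0 i ∧
    colU i = tab.walk i wordU ∧ colU2 i = colU (colU i) ∧ colU (colU2^[8] i) = i := by
  simp only [ptChk, powAt, Bool.and_eq_true, Nat.beq_eq] at h
  obtain ⟨⟨⟨⟨a, b⟩, c⟩, d⟩, e⟩ := h.1.2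
  exact ⟨a, b, c, d, e⟩

theorem orb_spec : orbLab i < 9 ∧ (i = orbRoots.getD (orbLab i) 0 ∨
    orbPar i < 306936 ∧ orbDep (orbPar i) < orbDep i ∧ orbLab (orbPar i) = orbLab i ∧
      orbVia i < 12 ∧ img (orbVia i) (orbPar i) = i) := by
  simp only [ptChk, orbAt, Bool.and_eq_true, Bool.or_eq_true, Nat.beq_eq, Nat.blt_eq] at h
  obtain ⟨a, b⟩ := h.2
  exact ⟨a, b.imp id fun ⟨⟨⟨⟨p, q⟩, r⟩, s⟩, t⟩ => ⟨p, q, r, s, t⟩⟩

end CfsgLib.Fi24P
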