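import Cfsg.Agent.Lib.Fi24P.PermAll
import Cfsg.Agent.Lib.Fi24P.PermSound

/-!
# The action of the presented group on 306936 points
-/

set_option autoImplicit false
set_option maxRecDepth 100000

namespace CfsgLib.Fi24P

open CfsgLib.PresCert Cfsg.Spor

theorem pt_chk {i : ℕ} (hi : i < 306936) : ptChk i = true := by
  have h := loop_spec _ _ (blocks_all (b := i / 1000) (by omega)) (Nat.mod_lt i (by norm_num : 1000 > 0))
  rw [Nat.div_add_mod, Nat.blt_eq.mpr hi, Bool.not_true, Bool.false_or] at h
  exact h

theorem tab_n : tab.n = 306936 := rfl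

theorem zero_lt : 0 < tab.n := by rw [tab_n]; norm_num

theorem img_spec {g i : ℕ} (hg : g < 12) (hi : i < 306936) :
    img g i < 306936 ∧ img g (img g i) = i ∧ (g ≠ 1 → cls (img g i) = cls i) :=
  inv_spec (pt_chk hi) hg

theorem tabInv : tab.Inv := by
  intro b _
  simp only [Fast.Tab.invBlock, List.all_eq_true, List.mem_range, Bool.or_eq_true,
    Bool.not_eq_true', Bool.and_eq_true, Nat.blt_eq, Nat.beq_eq]
  intro j _
  by_cases hi : 1000 * b + j < tab.n
  · exact Or.inr fun g hg => ⟨(img_spec hg hi).1, (img_spec hg hi).2.1⟩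
  · left
    rcases h : Nat.blt (1000 * b + j) tab.n with _ | _
    · rfl
    · exact absurd (Nat.blt_eq.mp h) hi

theorem walk_append (i : ℕ) (a b : List ℕ) : tab.walk i (a ++ b) = tab.walk (tab.walk i a) b := by
  induction a generalizing i with
  | nil => rfl
  | cons g a ih => exact ih _

theorem walk_lt {w : List ℕ} (hw : ∀ g ∈ w, g < 12) :
    ∀ {i : ℕ}, i < 306936 → tab.walk i w < 306936 := by
  induction w with
  | nil => exact fun hi => hi
  | cons g w ih =>
    intro i hi
    exact ih (fun a ha => hw a (by simp [ha])) (img_spec (hw g (by simp)) hi).1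

theorem iterate_walk {w : List ℕ} (hw : ∀ g ∈ w, g < 12) (f : ℕ → ℕ)
    (hf : ∀ j < 306936, f j = tab.walk j w) :
    ∀ (k : ℕ) {i : ℕ}, i < 306936 → f^[k] i = tab.walk i (List.replicate k w).flatten
  | 0, i, _ => rfl
  | k + 1, i, hi => by
    rw [Function.iterate_succ_apply, hf i hi, iterate_walk hw f hf k (walk_lt hw hi),
      List.replicate_succ, List.flatten_cons, walk_append]

theorem relShort_fix {w : List ℕ} (hw : w ∈ relShort) {i : ℕ} (hi : i < 306936) :
    tab.walk i w = i := by
  have hlt : ((commList ++ braidList).all fun p => Nat.blt p.1 12 && Nat.blt p.2 12) = true := by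
    decide +kernel
  simp only [List.all_eq_true, Bool.and_eq_true, Nat.blt_eq, List.mem_append] at hlt
  simp only [relShort, List.mem_append, List.mem_map, List.mem_range, List.mem_flatMap,
    List.mem_cons, List.not_mem_nil, or_false] at hw
  rcases hw with (⟨g, hg, rfl⟩ | ⟨⟨g, h⟩, hp, rfl | rfl⟩) | ⟨⟨g, h⟩, hp, rfl | rfl⟩
  · exact (img_spec hg hi).2.1
  all_goals
    obtain ⟨hg, hh⟩ := hlt (g, h) (by first | exact Or.inl hp | exact Or.inr hp)
    simp only [Fast.Tab.walk]
    have ig : ∀ {j}, j < 306936 → img g j < 306936 := fun hj => (img_spec hg hj).1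
    have ih : ∀ {j}, j < 306936 → img h j < 306936 := fun hj => (img_spec hh hj).1
    have cg : ∀ {j}, j < 306936 → img g (img g j) = j := fun hj => (img_spec hg hj).2.1
    have ch : ∀ {j}, j < 306936 → img h (img h j) = j := fun hj => (img_spec hh hj).2.1
  · show img h (img g (img h (img g i))) = i
    rw [comm_spec (pt_chk hi) hp, cg (ih hi), ch hi]
  · show img g (img h (img g (img h i))) = i
    rw [← comm_spec (pt_chk hi) hp, ch (ig hi), cg hi]
  · show img h (img g (img h (img g (img h (img g i))))) = i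
    rw [braid_spec (pt_chk hi) hp, ch (ig (ih hi)), cg (ih hi), ch hi]
  · show img g (img h (img g (img h (img g (img h i))))) = i
    rw [← braid_spec (pt_chk hi) hp, cg (ih (ig hi)), ch (ig hi), cg hi]

theorem relNine_fix {i : ℕ} (hi : i < 306936) : tab.walk i relNine = i := by
  have hV : ∀ g ∈ wordV, g < 12 := by decide
  obtain ⟨-, h, -⟩ := pow_spec (pt_chk hi)
  rw [iterate_walk hV colV (fun j hj => (pow_spec (pt_chk hj)).1) 9 hi] at h
  rw [relNine, walk_append, h]
  exact (img_spec (by norm_num) hi).2.1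

theorem colU2_iterate : ∀ (k : ℕ) {i : ℕ}, i < 306936 → colU2^[k] i = colU^[2 * k] i
  | 0, _, _ => rfl
  | k + 1, i, hi => by
    have hU : ∀ g ∈ wordU, g < 12 := by decide
    have h1 : colU i < 306936 := by rw [(pow_spec (pt_chk hi)).2.2.1]; exact walk_lt hU hi
    have h2 : colU (colU i) < 306936 := by rw [(pow_spec (pt_chk h1)).2.2.1]; exact walk_lt hU h1
    rw [Function.iterate_succ_apply, (pow_spec (pt_chk hi)).2.2.2.1, colU2_iterate k h2,
      Nat.mul_succ, Function.iterate_succ_apply, Function.iterate_succ_apply]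

theorem relSeventeen_fix {i : ℕ} (hi : i < 306936) : tab.walk i relSeventeen = i := by
  have hU : ∀ g ∈ wordU, g < 12 := by decide
  obtain ⟨-, -, -, -, h⟩ := pow_spec (pt_chk hi)
  rw [colU2_iterate 8 hi, ← Function.iterate_succ_apply' colU (2 * 8),
    iterate_walk hU colU (fun j hj => (pow_spec (pt_chk hj)).2.2.1) _ hi] at h
  exact h

theorem relData_fix {w : List ℕ} (hw : w ∈ relData) : ∀ i < tab.n, tab.walk i w = i := by
  intro i hi
  rw [tab_n] at hi
  simp only [relData, List.mem_append, List.mem_cons, List.not_mem_nil, or_false] at hw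
  rcases hw with hw | rfl | rfl
  exacts [relShort_fix hw hi, relNine_fix hi, relSeventeen_fix hi]

theorem perm_rels : ∀ w ∈ ftData.rels, act (tab.perm tabInv) w = 1 :=
  Fast.perm_rels tabInv rfl rels_covered fun _ hw => relData_fix hw

/-- The action. -/
noncomputable def phi : Cfsg.Spor.Fi24 →* Equiv.Perm (Fin tab.n) := Fast.toPerm tabInv perm_rels

theorem realised : Fast.Realised ftGen tab phi := Fast.realised_toPerm tabInv ft_ok rfl perm_rels

/-- The first point. -/
def pt0 : Fin tab.n := ⟨0, zero_lt⟩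

theorem phi_pt {w : List ℕ} (hw : ∀ g ∈ w, g < 12) :
    ((phi (act ftGen w) pt0 : Fin tab.n) : ℕ) = tab.walk 0 w := realised.act_apply hw pt0

end CfsgLib.Fi24P
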