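import Cfsg.Agent.Lib.Fi23P.Order
import Cfsg.Agent.Lib.Fi24P.Perm
import Cfsg.Agent.Lib.Fi24P.Data
import Cfsg.Agent.Lib.Fi24P.CertEightCheck0
import Cfsg.Agent.Lib.Fi24P.CertSpiderCheck0
import Cfsg.Agent.Lib.Fi24P.CertSpiderCheck1
import Cfsg.Agent.Lib.Fi24P.CertSpiderCheck2
import Cfsg.Agent.Lib.Fi24P.CertSpiderCheck3
import Cfsg.Agent.Lib.Fi24P.CertSpiderCheck4

/-!
# The Weyl group of type E₈ inside the presented group and the spider relation

The nine nodes of the affine diagram generate a group of order at most 348364800 by two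
enumerations; it acts faithfully on the points. A third enumeration puts the spider word into this
group, so the word is trivial.
-/

set_option autoImplicit false
set_option maxRecDepth 100000

namespace CfsgLib.Fi24P

open CfsgLib.PresCert Cfsg.Spor

theorem act_map {M : Type*} [Group M] (gen : ℕ → M) (m : ℕ → ℕ) :
    ∀ w : List ℕ, act (fun k => gen (m k)) w = act gen (w.map m)
  | [] => rfl
  | g :: w => by rw [List.map_cons, act_cons, act_cons, act_map gen m w]

/-- The numbers of the generators for the chain of reflection subgroups. -/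
def sevenMap (k : ℕ) : ℕ := ([7, 7, 6, 5, 4, 3, 2, 7, 10, 7] : List ℕ).getD k 7

/-- The short relations among seven letters. -/
def relSeven : List (List ℕ) :=
  let L := [1, 2, 3, 4, 5, 6, 8]
  L.flatMap fun x => L.map fun y =>
    if x = y then [x, x]
    else if (x, y) ∈ [(1, 2), (2, 1), (2, 3), (3, 2), (3, 4), (4, 3), (3, 8), (8, 3), (4, 5), (5, 4), (5, 6), (6, 5)]
      then [x, y, x, y, x, y] else [x, y, x, y]

theorem relSeven_act : ∀ w ∈ relSeven, act (fun k => ftGen (sevenMap k)) w = 1 := by
  have h : (relSeven.all fun w => relData.contains (w.map sevenMap)) = true := by decide +kernel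
  intro w hw
  rw [act_map]
  exact relData_act (List.contains_iff_mem.1 (List.all_eq_true.1 h w hw))

theorem fix_coset {M : Type*} [Group M] {gen : ℕ → M} {S : List (List ℕ)} {w : List ℕ}
    (h : w ∈ S) : act gen w • ((1 : M) : M ⧸ genGrp S gen) = ((1 : M) : M ⧸ genGrp S gen) := by
  rw [MulAction.Quotient.smul_coe, smul_eq_mul, mul_one, QuotientGroup.eq, mul_one]
  exact inv_mem (Subgroup.subset_closure ⟨w, h, rfl⟩)

theorem sevenMap_sq (g : ℕ) (hg : g < 10) :
    ftGen (sevenMap g) * ftGen (sevenMap g) = 1 := by
  refine ftGen_sq _ ?_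
  interval_cases g <;> decide

/-- One step of the chain. -/
theorem seven_step {D : Data} {S W : List (List ℕ)} {a b : ℕ}
    (hD : Closed D W) (hng : D.ng = 10) (hr : relsOk D relSeven = true)
    (hs : subsOk D S (16 * D.words.length) = true)
    (hS : Finite (genGrp S fun k => ftGen (sevenMap k)) ∧
      Nat.card (genGrp S fun k => ftGen (sevenMap k)) ≤ a) (hab : D.n * a ≤ b) :
    Finite (genGrp W fun k => ftGen (sevenMap k)) ∧
      Nat.card (genGrp W fun k => ftGen (sevenMap k)) ≤ b := by
  haveI := hS.1
  have H : Hyp D (fun k => ftGen (sevenMap k))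
      ((1 : Cfsg.Spor.Fi24) : Cfsg.Spor.Fi24 ⧸ genGrp S fun k => ftGen (sevenMap k)) :=
    hyp_of_checks (fun g hg => sevenMap_sq g (hng ▸ hg)) relSeven_act
      (fun w hw => fix_coset hw) hr hs
  obtain ⟨h1, h2⟩ := card_le hD H
  exact ⟨h1, h2.trans ((Nat.mul_le_mul_left _ hS.2).trans hab)⟩

theorem seven_rels : relsOk Fi23P.certD5 relSeven = true ∧ relsOk Fi23P.certE6 relSeven = true ∧
    relsOk Fi23P.certE7 relSeven = true := by
  decide +kernel

/-- Seven generators. -/
def sevenW : List (List ℕ) := [[2], [3], [4], [5], [6], [7], [10]]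

theorem genGrp_mono {M : Type*} [Group M] {gen : ℕ → M} {S T : List (List ℕ)}
    (h : ∀ w ∈ S, act gen w ∈ genGrp T gen) : genGrp S gen ≤ genGrp T gen :=
  (Subgroup.closure_le _).2 (by rintro _ ⟨w, hw, rfl⟩; exact h w hw)

theorem act_mem {M : Type*} [Group M] {gen : ℕ → M} {S : List (List ℕ)} :
    ∀ {w : List ℕ}, (∀ g ∈ w, [g] ∈ S) → act gen w ∈ genGrp S gen
  | [], _ => Subgroup.one_mem _
  | g :: w, h => by
    rw [act_cons]
    refine Subgroup.mul_mem _ (act_mem fun a ha => h a (List.mem_cons_of_mem _ ha)) ?_
    refine Subgroup.subset_closure ⟨[g], h g List.mem_cons_self, ?_⟩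
    rw [act_cons, act_nil, one_mul]

theorem seven_le : Finite (genGrp sevenW ftGen) ∧ Nat.card (genGrp sevenW ftGen) ≤ 2903040 := by
  obtain ⟨-, a2, a3, a4⟩ := Fi23P.certD5_words
  obtain ⟨-, b2, b3, b4⟩ := Fi23P.certE6_words
  obtain ⟨-, c2, c3, c4⟩ := Fi23P.certE7_words
  obtain ⟨ra, rb, rc⟩ := seven_rels
  have triv : Finite (genGrp [] fun k => ftGen (sevenMap k)) ∧
      Nat.card (genGrp [] fun k => ftGen (sevenMap k)) ≤ 1 := by
    have e : genGrp [] (fun k => ftGen (sevenMap k)) = ⊥ := by
      rw [genGrp, eq_bot_iff, Subgroup.closure_le]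
      rintro x ⟨w, hw, -⟩
      exact absurd hw List.not_mem_nil
    rw [e]
    exact ⟨inferInstance, le_of_eq Subgroup.card_bot⟩
  have hA := seven_step (b := 1920) Fi23P.certD5_closed a3 ra a2 triv (by rw [a4])
  have hB := seven_step (b := 51840) Fi23P.certE6_closed b3 rb b2 hA (by rw [b4])
  have hC := seven_step (b := 2903040) Fi23P.certE7_closed c3 rc c2 hB (by rw [c4])
  have hle : genGrp sevenW ftGen ≤
      genGrp [[1], [2], [3], [4], [5], [6], [8]] fun k => ftGen (sevenMap k) := by
    refine (Subgroup.closure_le _).2 ?_
    rintro _ ⟨w, hw, rfl⟩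
    have hmem : ∀ k ∈ ([1, 2, 3, 4, 5, 6, 8] : List ℕ), ftGen (sevenMap k) ∈
        genGrp [[1], [2], [3], [4], [5], [6], [8]] fun k => ftGen (sevenMap k) := fun k hk => by
      refine Subgroup.subset_closure ⟨[k], ?_, ?_⟩
      · simp only [List.mem_cons, List.not_mem_nil, or_false] at hk
        rcases hk with rfl | rfl | rfl | rfl | rfl | rfl | rfl <;> simp
      · simp [act_cons, act_nil]
    simp only [sevenW, List.mem_cons, List.not_mem_nil, or_false] at hw
    rcases hw with rfl | rfl | rfl | rfl | rfl | rfl | rfl <;>
      (simp only [act_cons, act_nil, one_mul]; first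
        | exact hmem 6 (by decide) | exact hmem 5 (by decide) | exact hmem 4 (by decide)
        | exact hmem 3 (by decide) | exact hmem 2 (by decide) | exact hmem 1 (by decide)
        | exact hmem 8 (by decide))
  haveI := hC.1
  exact ⟨Finite.of_injective _ (Subgroup.inclusion_injective hle),
    (Nat.card_le_card_of_injective _ (Subgroup.inclusion_injective hle)).trans hC.2⟩

/-- The numbers of the nine generators. -/
def eightMap (k : ℕ) : ℕ := ([0, 1, 2, 3, 4, 5, 6, 7, 10] : List ℕ).getD k 0

theorem eightMap_lt (k : ℕ) : eightMap k < 12 := by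
  by_cases h : k < 9
  · interval_cases k <;> decide
  · rw [eightMap, List.getD_eq_default _ _ (by simp; omega)]; norm_num

/-- The generators of the nine nodes. -/
noncomputable def eightGen (k : ℕ) : Cfsg.Spor.Fi24 := ftGen (eightMap k)

theorem eightGen_sq (k : ℕ) : eightGen k * eightGen k = 1 := ftGen_sq _ (eightMap_lt k)

theorem eight_rels_act : ∀ w ∈ relEight, act eightGen w = 1 := by
  have h : (relEight.all fun w => relData.contains (w.map eightMap) ||
      relData.contains (w.map eightMap).reverse) = true := by decide +kernel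
  intro w hw
  rw [show eightGen = fun k => ftGen (eightMap k) from rfl, act_map]
  have h' := List.all_eq_true.1 h w hw
  simp only [Bool.or_eq_true, List.contains_iff_mem] at h'
  rcases h' with h' | h'
  · exact relData_act h'
  · have h2 := relData_act h'
    rw [act_reverse (ng := 12) ftGen_sq (fun g hg => by
      obtain ⟨k, -, rfl⟩ := List.mem_map.1 hg
      exact eightMap_lt k), inv_eq_one] at h2
    exact h2

/-- The subgroup of the seven, in local numbers. -/
def eightSub : List (List ℕ) := [[2], [3], [4], [5], [6], [7], [8]]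

/-- All nine, in local numbers. -/
def eightAll : List (List ℕ) := [[0], [1], [2], [3], [4], [5], [6], [7], [8]]

theorem certEight_closed : Closed certEight eightAll where
  shape := by decide +kernel
  slots b hb := by
    have h : certEight.N = 2151 := rfl
    obtain rfl | rfl | rfl : b = 0 ∨ b = 1 ∨ b = 2 := by omega
    exacts [certEight_block0, certEight_block1, certEight_block2]
  words := by decide +kernel
  closed b hb := by
    have h : certEight.n = 120 := rfl
    obtain rfl : b = 0 := by omega
    decide +kernel

theorem certEight_words : relsOk certEight relEight = true ∧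
    subsOk certEight eightSub (16 * certEight.words.length) = true ∧ certEight.n = 120 := by
  decide +kernel

/-- The group of the nine nodes. -/
noncomputable def grpEight : Subgroup Cfsg.Spor.Fi24 := genGrp eightAll eightGen

theorem eight_le : Finite grpEight ∧ Nat.card grpEight ≤ 348364800 := by
  have hs : genGrp eightSub eightGen = genGrp sevenW ftGen := by
    rw [genGrp, genGrp]
    congr 1
    ext m
    simp only [eightSub, sevenW, List.mem_cons, List.not_mem_nil, or_false, exists_eq_or_imp,
      exists_eq_left, act_cons, act_nil, one_mul]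
    rfl
  obtain ⟨h1, h2⟩ := seven_le
  rw [← hs] at h1 h2
  haveI := h1
  obtain ⟨a1, a2, a3⟩ := certEight_words
  have H : Hyp certEight eightGen
      ((1 : Cfsg.Spor.Fi24) : Cfsg.Spor.Fi24 ⧸ genGrp eightSub eightGen) :=
    hyp_of_checks (fun g _ => eightGen_sq g) eight_rels_act (fun w hw => fix_coset hw) a1 a2
  obtain ⟨g1, g2⟩ := card_le certEight_closed H
  refine ⟨g1, g2.trans ?_⟩
  rw [a3]
  exact (Nat.mul_le_mul_left 120 h2).trans (by norm_num)

theorem eightGen_mem (k : ℕ) : eightGen k ∈ grpEight := by
  by_cases h : k < 9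
  · refine Subgroup.subset_closure ⟨[k], ?_, by simp [act_cons, act_nil]⟩
    interval_cases k <;> simp [eightAll]
  · have e : eightGen k = eightGen 0 := by
      rw [eightGen, eightGen, eightMap, List.getD_eq_default _ _ (by simp; omega)]; rfl
    rw [e]
    exact Subgroup.subset_closure ⟨[0], by simp [eightAll], by simp [act_cons, act_nil]⟩

/-- The table for the nine generators. -/
noncomputable def tabEight : Fast.Tab where
  ng := 9
  n := 306936
  img g i := img (eightMap g) i

/-- The action of the nine. -/
noncomputable def phiEight : grpEight →* Equiv.Perm (Fin tabEight.n) := phi.comp grpEight.subtype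

/-- The generators inside. -/
noncomputable def genIn (k : ℕ) : grpEight := ⟨eightGen k, eightGen_mem k⟩

theorem realisedEight : Fast.Realised genIn tabEight phiEight where
  lt g i _ hi := (img_spec (eightMap_lt g) hi).1
  app g _ i := realised.app (eightMap g) (eightMap_lt g) i

theorem eight_levels : Fast.levelsOk tabEight [] levelsEight = true ∧
    (levelsEight.map fun l => l.pts.length).prod = 348364800 := by
  decide +kernel

/-- The base of the nine. -/
def eightBase : List ℕ := levelsEight.map Fast.Level.base

theorem eight_base : Fast.fixSub phiEight eightBase = ⊥ := by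
  haveI := eight_le.1
  have h := Fast.card_lower realisedEight eight_levels.1
  rw [Fast.fixSub_nil, Subgroup.card_top, eight_levels.2, List.nil_append] at h
  have h2 : Nat.card (Fast.fixSub phiEight (levelsEight.map Fast.Level.base)) ≤ 1 := by
    by_contra h3
    have := (Nat.mul_le_mul_left 348364800 (Nat.lt_of_not_le h3)).trans (h.trans eight_le.2)
    omega
  exact Subgroup.card_eq_one.1 (le_antisymm h2 Nat.card_pos)

/-- The letters are among the nine. -/
def eightLetters (w : List ℕ) : Bool :=
  w.all fun g => ([0, 1, 2, 3, 4, 5, 6, 7, 10] : List ℕ).contains g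

theorem mem_eight : ∀ {w : List ℕ}, eightLetters w = true → act ftGen w ∈ grpEight
  | [], _ => Subgroup.one_mem _
  | g :: w, h => by
    simp only [eightLetters, List.all_cons, Bool.and_eq_true, List.contains_iff_mem] at h
    rw [act_cons]
    refine Subgroup.mul_mem _ (mem_eight h.2) ?_
    obtain ⟨k, hk, e⟩ := List.getElem_of_mem h.1
    have : ftGen g = eightGen k := by
      rw [eightGen, eightMap, List.getD_eq_getElem _ _ hk, e]
    rw [this]
    exact eightGen_mem k

/-- Words in the nine letters agree if they agree on the base. -/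
noncomputable def sameEight (u v : List ℕ) : Bool :=
  eightLetters u && eightLetters v &&
    eightBase.all fun b => Nat.blt b 306936 && Nat.beq (tab.walk b u) (tab.walk b v)

theorem eq_of_eight {u v : List ℕ} (h : sameEight u v = true) : act ftGen u = act ftGen v := by
  simp only [sameEight, Bool.and_eq_true, List.all_eq_true, Nat.beq_eq, Nat.blt_eq] at h
  obtain ⟨⟨hu, hv⟩, hb⟩ := h
  have hlt : ∀ {w : List ℕ}, eightLetters w = true → ∀ g ∈ w, g < 12 := fun hw g hg => by
    have := List.all_eq_true.1 hw g hg
    simp only [List.contains_iff_mem, List.mem_cons, List.not_mem_nil, or_false] at this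
    omega
  let a : grpEight := ⟨_, mem_eight hu⟩
  let b : grpEight := ⟨_, mem_eight hv⟩
  have hmem : b⁻¹ * a ∈ Fast.fixSub phiEight eightBase := by
    intro i hi
    rw [map_mul, Equiv.Perm.mul_apply, map_inv, Equiv.Perm.inv_def, Equiv.symm_apply_eq]
    refine Fin.ext ?_
    show ((phi (act ftGen u) i : Fin tab.n) : ℕ) = ((phi (act ftGen v) i : Fin tab.n) : ℕ)
    exact (realised.act_apply (hlt hu) i).trans
      (((hb _ hi).2).trans (realised.act_apply (hlt hv) i).symm)
  rw [eight_base, Subgroup.mem_bot] at hmem
  exact congrArg Subtype.val (inv_mul_eq_one.1 hmem).symm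

/-- The numbers of the ten generators. -/
def spiderMap (k : ℕ) : ℕ := ([0, 1, 2, 3, 4, 5, 6, 7, 10, 11] : List ℕ).getD k 0

theorem spiderMap_lt (k : ℕ) : spiderMap k < 12 := by
  by_cases h : k < 10
  · interval_cases k <;> decide
  · rw [spiderMap, List.getD_eq_default _ _ (by simp; omega)]; norm_num

theorem spider_rels_act : ∀ w ∈ relSpider, act (fun k => ftGen (spiderMap k)) w = 1 := by
  have h : (relSpider.all fun w => relData.contains (w.map spiderMap) ||
      relData.contains (w.map spiderMap).reverse ||
      relData.any fun v => (List.range 64).any fun r => v.rotate r == w.map spiderMap ||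
        v.reverse.rotate r == w.map spiderMap) = true := by decide +kernel
  intro w hw
  rw [act_map]
  have h' := List.all_eq_true.1 h w hw
  simp only [Bool.or_eq_true, List.contains_iff_mem, List.any_eq_true, beq_iff_eq] at h'
  have hrev : ∀ {v : List ℕ}, v ∈ relData → act ftGen v.reverse = 1 := fun {v} hv => by
    have hlt : relData.all (fun w => w.all fun g => Nat.blt g 12) = true := by decide +kernel
    rw [act_reverse (ng := 12) ftGen_sq (fun g hg => Nat.blt_eq.mp (List.all_eq_true.1
      (List.all_eq_true.1 hlt v hv) g hg)), relData_act hv, inv_one]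
  rcases h' with (h' | h') | ⟨v, hv, r, -, e | e⟩
  · exact relData_act h'
  · have := hrev h'
    rwa [List.reverse_reverse] at this
  · rw [← e]; exact act_rotate (relData_act hv) r
  · rw [← e]; exact act_rotate (hrev hv) r

/-- The nine among the ten, in local numbers. -/
def spiderSub : List (List ℕ) := [[0], [1], [2], [3], [4], [5], [6], [7], [8]]

theorem certSpider_valid : Valid certSpider where
  shape := by decide +kernel
  slots b hb := by
    have h : certSpider.N = 19922 := rfl
    obtain rfl | rfl | rfl | rfl | rfl | rfl | rfl | rfl | rfl | rfl | rfl | rfl | rfl | rfl |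
        rfl | rfl | rfl | rfl | rfl | rfl : b = 0 ∨ b = 1 ∨ b = 2 ∨ b = 3 ∨ b = 4 ∨ b = 5 ∨
        b = 6 ∨ b = 7 ∨ b = 8 ∨ b = 9 ∨ b = 10 ∨ b = 11 ∨ b = 12 ∨ b = 13 ∨ b = 14 ∨ b = 15 ∨
        b = 16 ∨ b = 17 ∨ b = 18 ∨ b = 19 := by omega
    exacts [certSpider_block0, certSpider_block1, certSpider_block2, certSpider_block3,
      certSpider_block4, certSpider_block5, certSpider_block6, certSpider_block7,
      certSpider_block8, certSpider_block9, certSpider_block10, certSpider_block11,
      certSpider_block12, certSpider_block13, certSpider_block14, certSpider_block15,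
      certSpider_block16, certSpider_block17, certSpider_block18, certSpider_block19]

/-- The spider word, rotated. -/
def wordSpiderLocal : List ℕ := (List.replicate 10 [3, 5, 6, 7, 5, 8, 9, 5, 4]).flatten

/-- The spider word. -/
def wordSpider : List ℕ := (List.replicate 10 [5, 4, 3, 5, 6, 7, 5, 10, 11]).flatten

theorem certSpider_checks : relsOk certSpider relSpider = true ∧
    subsOk certSpider spiderSub (16 * certSpider.words.length) = true ∧
    endsAt certSpider (certSpider.rm - 1) (PresCert.walk certSpider (certSpider.rm - 1) 0 wordSpiderLocal) 0 = true ∧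
    wordSpiderLocal.all (fun g => Nat.blt g certSpider.ng) = true := by
  decide +kernel

theorem spider_fixes_base : (eightBase.all fun b =>
    Nat.beq (tab.walk b (wordSpiderLocal.map spiderMap)) b && Nat.blt b 306936) = true := by
  decide +kernel

/-- The spider relation holds. -/
theorem spider_one : act ftGen wordSpider = 1 := by
  suffices h : act ftGen (wordSpiderLocal.map spiderMap) = 1 by
    have e : wordSpider = (wordSpiderLocal.map spiderMap).rotate 88 := by decide +kernel
    rw [e]; exact act_rotate h 88
  obtain ⟨a1, a2, a3, a4⟩ := certSpider_checks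
  have H : Hyp certSpider (fun k => ftGen (spiderMap k))
      ((1 : Cfsg.Spor.Fi24) : Cfsg.Spor.Fi24 ⧸ genGrp spiderSub fun k => ftGen (spiderMap k)) :=
    hyp_of_checks (fun g _ => ftGen_sq _ (spiderMap_lt g)) spider_rels_act
      (fun w hw => fix_coset hw) a1 a2
  have hfix := word_fix certSpider_valid H
    (fun g hg => Nat.blt_eq.mp (List.all_eq_true.1 a4 g hg)) a3
  rw [act_map, MulAction.Quotient.smul_coe, smul_eq_mul, mul_one, QuotientGroup.eq, mul_one,
    inv_mem_iff] at hfix
  have hsub : genGrp spiderSub (fun k => ftGen (spiderMap k)) ≤ grpEight := by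
    refine (Subgroup.closure_le _).2 ?_
    rintro _ ⟨w, hw, rfl⟩
    rw [act_map]
    refine mem_eight ?_
    have h : spiderSub.all (fun w => eightLetters (w.map spiderMap)) = true := by decide +kernel
    exact List.all_eq_true.1 h w hw
  let a : grpEight := ⟨_, hsub hfix⟩
  have hmem : a ∈ Fast.fixSub phiEight eightBase := by
    intro i hi
    refine Fin.ext ?_
    show ((phi (act ftGen (wordSpiderLocal.map spiderMap)) i : Fin tab.n) : ℕ) = i.val
    have h := List.all_eq_true.1 spider_fixes_base _ hi
    simp only [Bool.and_eq_true, Nat.beq_eq] at h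
    exact (realised.act_apply (fun g hg => by
      obtain ⟨k, -, rfl⟩ := List.mem_map.1 hg
      exact spiderMap_lt k) i).trans h.1
  rw [eight_base, Subgroup.mem_bot] at hmem
  exact congrArg Subtype.val hmem

end CfsgLib.Fi24P
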