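import Cfsg.Agent.Lib.Fi23P.Perm
import Cfsg.Agent.Lib.Fi24P.Eight

/-!
# The double cover of the smaller Fischer group

The generators other than the second commute with the first; their products with it satisfy the
presentation of the smaller group.
-/

set_option autoImplicit false
set_option maxRecDepth 100000

namespace CfsgLib.Fi24P

open CfsgLib.PresCert Cfsg.Spor

/-- The first generator. -/
noncomputable abbrev eltL : Cfsg.Spor.Fi24 := ftGen 0

theorem eltL_sq : eltL * eltL = 1 := ftGen_sq 0 (by norm_num)

theorem eltL_comm {g : ℕ} (hg : g < 12) (h1 : g ≠ 1) : eltL * ftGen g = ftGen g * eltL := by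
  rcases Nat.eq_zero_or_pos g with rfl | h0
  · rfl
  · refine gen_comm ?_
    interval_cases g <;> first | exact absurd rfl h1 | decide

theorem hLetters_spec {w : List ℕ} (h : hLetters w = true) : ∀ g ∈ w, g < 12 ∧ g ≠ 1 := by
  intro g hg
  have := List.all_eq_true.1 h g hg
  simp only [Bool.and_eq_true, Nat.blt_eq, Bool.not_eq_true'] at this
  refine ⟨this.1, fun e => ?_⟩
  subst e
  exact Bool.noConfusion this.2

theorem eltL_comm_act {w : List ℕ} (h : ∀ g ∈ w, g < 12 ∧ g ≠ 1) :
    eltL * act ftGen w = act ftGen w * eltL := by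
  induction w with
  | nil => simp [act_nil]
  | cons g w ih =>
    obtain ⟨h1, h2⟩ := h g List.mem_cons_self
    rw [act_cons, ← mul_assoc, ih fun a ha => h a (List.mem_cons_of_mem _ ha), mul_assoc,
      eltL_comm h1 h2, mul_assoc]

/-- A generator times the first one. -/
noncomputable def smallGen (k : ℕ) : Cfsg.Spor.Fi24 := ftGen (k + 2) * eltL

theorem act_smallGen : ∀ {w : List ℕ}, (∀ g ∈ w, g < 10) →
    act smallGen w = act ftGen (w.map (· + 2)) * eltL ^ w.length
  | [], _ => by simp [act_nil]
  | g :: w, h => by
    have hw : ∀ a ∈ w, a < 10 := fun a ha => h a (List.mem_cons_of_mem _ ha)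
    have hg : g + 2 < 12 := by have := h g List.mem_cons_self; omega
    have hc : Commute eltL (ftGen (g + 2)) := eltL_comm hg (by omega)
    rw [List.map_cons, act_cons, act_cons, act_smallGen hw, List.length_cons, pow_succ, smallGen]
    rw [mul_assoc, ← mul_assoc (eltL ^ w.length), (hc.pow_left w.length).eq]
    simp only [mul_assoc]

theorem pow_eltL (m : ℕ) : eltL ^ m = eltL ^ (m % 2) := by
  conv_lhs => rw [← Nat.div_add_mod m 2, pow_add, pow_mul, pow_two, eltL_sq, one_pow, one_mul]

theorem spider_rev : act ftGen wordSpider.reverse = 1 := by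
  rw [act_reverse (ng := 12) ftGen_sq (by decide +kernel), spider_one, inv_one]

/-- The kinds of relators of the smaller group. -/
def smallKind (w : List ℕ) : Bool :=
  let v := w.map (· + 2)
  w.all (fun g => Nat.blt g 10) &&
    ((Nat.beq (w.length % 2) 0 && (relData.contains v || relData.contains v.reverse ||
        decide (v = wordSpider) || decide (v = wordSpider.reverse))) ||
      (Nat.beq (w.length % 2) 1 && (relData.contains (v ++ [0]) || relData.contains (v.reverse ++ [0]))))

theorem small_kinds : Fi23P.fiData.rels.all smallKind = true := by decide +kernel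

theorem relData_lt {w : List ℕ} (hw : w ∈ relData) : ∀ g ∈ w, g < 12 := by
  have h : relData.all (fun w => w.all fun g => Nat.blt g 12) = true := by decide +kernel
  exact fun g hg => Nat.blt_eq.mp (List.all_eq_true.1 (List.all_eq_true.1 h w hw) g hg)

theorem small_rels : ∀ w ∈ Fi23P.fiData.rels, act smallGen w = 1 := by
  intro w hw
  have h := List.all_eq_true.1 small_kinds w hw
  simp only [smallKind, Bool.and_eq_true, Bool.or_eq_true, List.all_eq_true, Nat.blt_eq,
    Nat.beq_eq, decide_eq_true_eq, List.contains_iff_mem] at h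
  obtain ⟨hl, h⟩ := h
  rw [act_smallGen hl, pow_eltL]
  set v := w.map (· + 2) with hv
  have hv12 : ∀ g ∈ v, g < 12 := fun g hg => by
    obtain ⟨k, hk, rfl⟩ := List.mem_map.1 hg
    have := hl k hk
    omega
  rcases h with ⟨h0, h⟩ | ⟨h1, h⟩
  · rw [h0, pow_zero, mul_one]
    rcases h with ((h | h) | h) | h
    · exact relData_act h
    · have := relData_act h
      rw [act_reverse (ng := 12) ftGen_sq hv12, inv_eq_one] at this
      exact this
    · rw [h]; exact spider_one
    · rw [h]; exact spider_rev
  · rw [h1, pow_one]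
    have hone : ∀ {u : List ℕ}, u ++ [0] ∈ relData → eltL * act ftGen u = 1 := fun {u} hu => by
      have := relData_act hu
      rwa [act_append, act_cons, act_nil, one_mul] at this
    rcases h with h | h
    · exact mul_eq_one_comm.1 (hone h)
    · have := hone h
      rw [act_reverse (ng := 12) ftGen_sq hv12] at this
      rw [← mul_inv_eq_one.1 this, eltL_sq]

theorem smallGen_sq (k : ℕ) (hk : k < 10) : smallGen k * smallGen k = 1 := by
  have hc : Commute eltL (ftGen (k + 2)) := eltL_comm (by omega) (by omega)
  rw [smallGen, mul_assoc, ← mul_assoc eltL, hc.eq, mul_assoc, eltL_sq, mul_one,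
    ftGen_sq _ (by omega)]

theorem lift_small (L : List (Fi23.Gen × Bool)) :
    FreeGroup.lift (fun x => smallGen (Fi23P.genIx x)) (FreeGroup.mk L) =
      act smallGen (L.map fun p => Fi23P.genIx p.1).reverse := by
  induction L with
  | nil =>
    rw [← FreeGroup.one_eq_mk, map_one]
    rfl
  | cons p L ih =>
    obtain ⟨x, b⟩ := p
    rw [show FreeGroup.mk ((x, b) :: L) = FreeGroup.mk [(x, b)] * FreeGroup.mk L from rfl, map_mul,
      ih, List.map_cons, List.reverse_cons, act_append, act_cons, act_nil, one_mul]
    congr 1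
    cases b
    · have e : FreeGroup.mk [(x, false)] = (FreeGroup.of x)⁻¹ := rfl
      rw [e, map_inv, FreeGroup.lift_apply_of]
      exact inv_eq_of_mul_eq_one_right (smallGen_sq _ (Fi23P.fi_ok.ix_lt x))
    · exact FreeGroup.lift_apply_of

/-- The map from the smaller group. -/
noncomputable def psi : Cfsg.Spor.Fi23 →* Cfsg.Spor.Fi24 :=
  PresentedGroup.toGroup (f := fun x => smallGen (Fi23P.genIx x)) fun r hr => by
    rw [← FreeGroup.mk_toWord (x := r), lift_small]
    exact small_rels _ (List.mem_map.2 ⟨r, CoxData.relList_mem.2 hr, rfl⟩)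

theorem psi_gen {k : ℕ} (hk : k < 10) : psi (Fi23P.fiGen k) = smallGen k := by
  show psi (PresentedGroup.of _) = _
  rw [psi, PresentedGroup.toGroup.of]
  exact congrArg smallGen (Fi23P.fi_ok.ix_at k hk)

theorem psi_comm (z : Cfsg.Spor.Fi23) : eltL * psi z = psi z * eltL := by
  have h : z ∈ genGrp ((List.range 10).map fun g => [g]) Fi23P.fiGen := by
    rw [Fi23P.closure_all]; exact Subgroup.mem_top z
  induction h using Subgroup.closure_induction with
  | mem s hs =>
    obtain ⟨w, hw, rfl⟩ := hs
    obtain ⟨g, hg, rfl⟩ := List.mem_map.1 hw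
    rw [List.mem_range] at hg
    rw [act_cons, act_nil, one_mul, psi_gen hg, smallGen, ← mul_assoc,
      eltL_comm (g := g + 2) (by omega) (by omega)]
  | one => simp
  | mul a b _ _ ha hb => rw [map_mul, ← mul_assoc, ha, mul_assoc, hb, mul_assoc]
  | inv a _ ha =>
    rw [map_inv]
    exact (Commute.inv_right (show Commute eltL (psi a) from ha)).eq

/-- A word in the generators other than the second is an image times a power of the first. -/
theorem act_eq_psi : ∀ {w : List ℕ}, (∀ g ∈ w, g < 12 ∧ g ≠ 1) →
    act ftGen w = psi (act Fi23P.fiGen (projW w)) * eltL ^ w.length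
  | [], _ => by simp [act_nil, projW]
  | g :: w, h => by
    have hw : ∀ a ∈ w, a < 12 ∧ a ≠ 1 := fun a ha => h a (List.mem_cons_of_mem _ ha)
    obtain ⟨hg, hg1⟩ := h g List.mem_cons_self
    rw [act_cons, act_eq_psi hw, List.length_cons, pow_succ']
    rcases Nat.eq_zero_or_pos g with rfl | h0
    · have e : projW (0 :: w) = projW w := by simp [projW]
      rw [e]
      simp only [mul_assoc]
      congr 1
      exact (Commute.pow_self eltL w.length).eq
    · have e : projW (g :: w) = (g - 2) :: projW w := by
        have hb : Nat.beq g 0 = false := by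
          rcases hh : Nat.beq g 0 with _ | _
          · rfl
          · exact absurd (Nat.beq_eq.mp hh) (by omega)
        simp [projW, hb]
      rw [e, act_cons, map_mul, psi_gen (by omega), smallGen, show g - 2 + 2 = g by omega]
      have hc : Commute eltL (ftGen g) := eltL_comm hg hg1
      simp only [mul_assoc]
      congr 1
      rw [(hc.pow_left w.length).eq, ← mul_assoc eltL eltL, eltL_sq, one_mul]

theorem eq_of_sameElt {u v : List ℕ} (h : sameElt u v = true) : act ftGen u = act ftGen v := by
  simp only [sameElt, Bool.and_eq_true, Nat.beq_eq] at h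
  obtain ⟨⟨⟨hu, hv⟩, hp⟩, hb⟩ := h
  rw [act_eq_psi (hLetters_spec hu), act_eq_psi (hLetters_spec hv), Fi23P.eq_of_base hb,
    pow_eltL u.length, pow_eltL v.length, hp]

end CfsgLib.Fi24P
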