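import Cfsg.Agent.Lib.Fi24P.Stab

/-!
# The second generator on the three double cosets

Edges are derived by braid relations; following the last relator along them gives one further
element fixing the first root.
-/

set_option autoImplicit false
set_option maxRecDepth 100000

namespace CfsgLib.Fi24P

open CfsgLib.PresCert Cfsg.Spor

/-- A true edge. -/
def EdgeTrue (p : (ℕ × List ℕ) × (ℕ × List ℕ)) : Prop := ftGen 1 • ptOf p.1 = ptOf p.2

/-- The edges below a number are true. -/
def EdgesTrue (k : ℕ) : Prop := ∀ e < k, EdgeTrue (edgeData.getD e ((9, []), (9, [])))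

theorem EdgeTrue.swap {a b : ℕ × List ℕ} (h : EdgeTrue (a, b)) : EdgeTrue (b, a) := by
  have h' : ftGen 1 • ptOf a = ptOf b := h
  show ftGen 1 • ptOf b = ptOf a
  rw [← h', ← mul_smul, ftGen_sq 1 (by norm_num), one_smul]

theorem side_true {k e : ℕ} (h : EdgesTrue k) (he : e < k) (f : Bool) :
    EdgeTrue (edgeSide edgeData e f) := by
  have := h e he
  cases f
  · exact this
  · exact EdgeTrue.swap this

theorem ptOf_append (R : ℕ) (a b : List ℕ) : ptOf (R, a ++ b) = act ftGen b • ptOf (R, a) := by
  simp only [ptOf]; rw [act_append, mul_smul]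

theorem useOk_sound {S : List (List ℕ)} (hS : ∀ w ∈ S, act ftGen w • root 1 = root 1) {k : ℕ}
    (hE : EdgesTrue k) {st : ℕ × List ℕ} {u : Use} (h : useOk edgeData S k st u = true) :
    ftGen 1 • ptOf st = ptOf (useRes edgeData u) := by
  simp only [useOk, Bool.and_eq_true, Nat.blt_eq, Nat.beq_eq] at h
  obtain ⟨⟨⟨h1, h2⟩, h3⟩, h4⟩ := h
  have ht : ftGen 1 • ptOf (edgeSide edgeData u.edge u.flip).1 =
      ptOf (edgeSide edgeData u.edge u.flip).2 := side_true hE h1 u.flip
  have e : ptOf st = ptOf ((edgeSide edgeData u.edge u.flip).1.1,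
      (edgeSide edgeData u.edge u.flip).1.2 ++ u.mid) := by
    rw [h3]; exact eqState_sound hS h4
  rw [e, useRes, ptOf_append, ptOf_append, ← mul_smul, second_comm (kLetters_spec h2), mul_smul,
    ht]

theorem stepOk_sound {S : List (List ℕ)} (hS : ∀ w ∈ S, act ftGen w • root 1 = root 1) {k : ℕ}
    (hE : EdgesTrue k) {s : Step} (h : stepOk edgeData S k s = true) :
    EdgeTrue (edgeData.getD k ((9, []), (9, []))) := by
  simp only [stepOk, Bool.and_eq_true, Nat.blt_eq, Bool.or_eq_true, Nat.beq_eq,
    decide_eq_true_eq] at h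
  obtain ⟨⟨⟨⟨h1, h2⟩, h3⟩, h4⟩, h5⟩ := h
  rw [h5]
  set a := (edgeSide edgeData s.edge s.flip).1
  set b := (edgeSide edgeData s.edge s.flip).2
  set r := useRes edgeData s.use
  set c := s.letter
  have hab : ftGen 1 • ptOf (a.1, a.2 ++ s.mid) = ptOf (b.1, b.2 ++ s.mid) := by
    rw [ptOf_append, ptOf_append, ← mul_smul, second_comm (kLetters_spec h2), mul_smul]
    exact congrArg _ (side_true hE h1 s.flip)
  have hqr : ftGen 1 • ptOf (b.1, b.2 ++ s.mid ++ [c]) = ptOf r := useOk_sound hS hE h4
  have hbr : ftGen 1 * ftGen c * ftGen 1 = ftGen c * ftGen 1 * ftGen c := by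
    rcases h3 with e | e <;> rw [e]
    · exact (gen_braid (g := 0) (h := 1) (by decide)).symm
    · exact gen_braid (g := 1) (h := 2) (by decide)
  have hp : ftGen 1 • ptOf (b.1, b.2 ++ s.mid) = ptOf (a.1, a.2 ++ s.mid) := by
    rw [← hab, ← mul_smul, ftGen_sq 1 (by norm_num), one_smul]
  show ftGen 1 • ptOf (a.1, a.2 ++ s.mid ++ [c]) = ptOf (r.1, r.2 ++ [c])
  rw [ptOf_append a.1 (a.2 ++ s.mid) [c], ptOf_append r.1 r.2 [c], act_cons, act_nil, one_mul,
    ← hp, ← mul_smul, ← mul_smul, hbr, mul_smul, mul_smul]
  rw [ptOf_append b.1 (b.2 ++ s.mid) [c], act_cons, act_nil, one_mul] at hqr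
  rw [hqr]

theorem start_edges : EdgesTrue 2 := by
  have h : edgeData.getD 0 ((9, []), (9, [])) = ((0, []), (1, [])) ∧
      edgeData.getD 1 ((9, []), (9, [])) = ((1, [0, 2]), (2, wordMove.reverse)) := by decide +kernel
  intro e he
  obtain rfl | rfl : e = 0 ∨ e = 1 := by omega
  · rw [h.1]
    simp [EdgeTrue, ptOf, root, rootWord, act_cons, act_nil]
  · rw [h.2]
    show ftGen 1 • ptOf (1, [0, 2]) = ptOf (2, wordMove.reverse)
    simp only [ptOf, root_two]
    rw [act_reverse (ng := 12) ftGen_sq move_lt, inv_smul_smul]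
    simp only [root, rootWord, preRoot, pathTwo, act_cons, act_nil, one_mul, mul_smul]

theorem edges_upto {S : List (List ℕ)} (hS : ∀ w ∈ S, act ftGen w • root 1 = root 1) {m n : ℕ}
    (hm : EdgesTrue m)
    (h : ∀ k, m ≤ k → k < n → stepOk edgeData S k (stepData.getD (k - 2)
      ⟨0, false, [], 0, ⟨0, false, [], []⟩⟩) = true) : EdgesTrue n := by
  suffices ∀ j, j ≤ n → EdgesTrue j from this n le_rfl
  intro j
  induction j with
  | zero => intro _ e he; exact absurd he (Nat.not_lt_zero e)
  | succ j ih =>
    intro hj e he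
    rcases Nat.lt_succ_iff_lt_or_eq.1 he with h1 | rfl
    · exact ih (by omega) e h1
    · by_cases h2 : e < m
      · exact hm e h2
      · exact stepOk_sound hS (ih (by omega)) (h e (by omega) (by omega))

/-- The words for the first root, before the relation is used. -/
def stabFirst : List (List ℕ) := [[3], [4], [5], [6], [7], [8], [9], [10], [11]]

/-- The words for the first root. -/
def stabAll : List (List ℕ) := stabFirst ++ [wordTri, wordTri.reverse]

theorem stabFirst_fix : ∀ w ∈ stabFirst, act ftGen w • root 1 = root 1 := by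
  intro w hw
  refine first_letters fun g hg => ?_
  have h : stabFirst.all (fun w => w.all fun g => Nat.blt 2 g && Nat.blt g 12) = true := by
    decide +kernel
  have := List.all_eq_true.1 (List.all_eq_true.1 h w hw) g hg
  simpa only [Bool.and_eq_true, Nat.blt_eq] using this

theorem steps_first : ((List.range 5).all fun j =>
    stepOk edgeData stabFirst (j + 2) (stepData.getD j ⟨0, false, [], 0, ⟨0, false, [], []⟩⟩)) = true := by
  decide +kernel

theorem edges_seven : EdgesTrue 7 := by
  refine edges_upto stabFirst_fix start_edges fun k h1 h2 => ?_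
  have := List.all_eq_true.1 steps_first (k - 2) (List.mem_range.2 (by omega))
  rwa [show k - 2 + 2 = k by omega] at this

theorem tracePath_sound {S : List (List ℕ)} (hS : ∀ w ∈ S, act ftGen w • root 1 = root 1) {k : ℕ}
    (hE : EdgesTrue k) : ∀ {w : List ℕ} {us : List Use} {st st' : ℕ × List ℕ},
      tracePath edgeData S k st w us = some st' → act ftGen w • ptOf st = ptOf st'
  | [], us, st, st', h => by
    simp only [tracePath, Option.some.injEq] at h
    rw [h, act_nil, one_smul]
  | g :: w, us, st, st', h => by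
    unfold tracePath at h
    rw [act_cons, mul_smul]
    by_cases hg : Nat.beq g 1 = true
    · rw [if_pos hg] at h
      obtain rfl : g = 1 := Nat.beq_eq.mp hg
      rcases us with _ | ⟨u, us⟩
      · simp at h
      · by_cases hu : useOk edgeData S k st u = true
        · simp only [hu, if_true] at h
          rw [useOk_sound hS hE hu]
          exact tracePath_sound hS hE h
        · simp [hu] at h
    · rw [if_neg hg] at h
      by_cases h12 : Nat.blt g 12 = true
      · rw [if_pos h12] at h
        have := tracePath_sound hS hE h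
        rw [ptOf_append, act_cons, act_nil, one_mul] at this
        exact this
      · rw [if_neg h12] at h
        simp at h

/-- The first part of the trace. -/
noncomputable def resFst : Option (ℕ × List ℕ) :=
  tracePath edgeData stabFirst 7 (0, []) (relSeventeen.reverse.take traceCut) traceFst

/-- The second part of the trace. -/
noncomputable def resSnd : Option (ℕ × List ℕ) :=
  tracePath edgeData stabFirst 7 (0, []) (relSeventeen.reverse.drop traceCut).reverse traceSnd

theorem trace_checks : resFst.isSome = true ∧ resSnd.isSome = true ∧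
    (resFst.getD (9, [])).1 = 1 ∧ (resSnd.getD (9, [])).1 = 1 ∧
    (resFst.getD (9, [])).2 ++ (resSnd.getD (9, [])).2.reverse = wordTri ∧
    hLetters wordTri = true ∧ (resSnd.getD (9, [])).2.all (fun g => Nat.blt g 12) = true ∧
    (relSeventeen.reverse.drop traceCut).all (fun g => Nat.blt g 12) = true := by
  decide +kernel

theorem tri_fix : act ftGen wordTri • root 1 = root 1 := by
  obtain ⟨hA, hB, hA1, hB1, htri, -, hlt, hlt2⟩ := trace_checks
  obtain ⟨⟨ra, a⟩, ea⟩ := Option.isSome_iff_exists.1 hA
  obtain ⟨⟨rb, b⟩, eb⟩ := Option.isSome_iff_exists.1 hB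
  rw [ea, Option.getD_some] at hA1 htri
  rw [eb, Option.getD_some] at hB1 htri hlt
  simp only at hA1 hB1 htri hlt
  subst hA1 hB1
  have h1 := tracePath_sound stabFirst_fix edges_seven ea
  have h2 := tracePath_sound stabFirst_fix edges_seven eb
  have hz : act ftGen (relSeventeen.reverse) = 1 := by
    have hmem : relSeventeen ∈ relData := by simp [relData]
    rw [act_reverse (ng := 12) ftGen_sq (relData_lt hmem), relData_act hmem, inv_one]
  rw [← List.take_append_drop traceCut relSeventeen.reverse, act_append] at hz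
  rw [act_reverse (ng := 12) ftGen_sq (fun g hg => Nat.blt_eq.mp (List.all_eq_true.1 hlt2 g hg)),
    inv_eq_of_mul_eq_one_right hz] at h2
  have h3 : ptOf (1, a) = ptOf (1, b) := by rw [← h1, ← h2]
  rw [← htri, act_append, mul_smul,
    act_reverse (ng := 12) ftGen_sq (fun g hg => Nat.blt_eq.mp (List.all_eq_true.1 hlt g hg)),
    inv_smul_eq_iff]
  exact h3

theorem stabAll_fix : ∀ w ∈ stabAll, act ftGen w • root 1 = root 1 := by
  intro w hw
  simp only [stabAll, List.mem_append, List.mem_cons, List.not_mem_nil, or_false] at hw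
  rcases hw with hw | rfl | rfl
  · exact stabFirst_fix w hw
  · exact tri_fix
  · rw [act_reverse (ng := 12) ftGen_sq
      (fun g hg => (hLetters_spec trace_checks.2.2.2.2.2.1 g hg).1), inv_smul_eq_iff]
    exact tri_fix.symm

theorem steps_last : stepData.length = 6 ∧ edgeData.length = 8 ∧
    stepOk edgeData stabAll 7 (stepData.getD 5 ⟨0, false, [], 0, ⟨0, false, [], []⟩⟩) = true := by
  decide +kernel

theorem edges_all : EdgesTrue 8 := by
  refine edges_upto stabAll_fix edges_seven fun k h1 h2 => ?_
  obtain rfl : k = 7 := by omega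
  exact steps_last.2.2

end CfsgLib.Fi24P
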