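import Cfsg.Agent.Lib.Fi24P.Edges

/-!
# The orbits of the first roots are small

The elements of the smaller group fixing the first root up to the central involution form a
subgroup with at least three cosets of the orthogonal subgroup.
-/

set_option autoImplicit false
set_option maxRecDepth 100000

namespace CfsgLib.Fi24P

open CfsgLib.PresCert Cfsg.Spor

theorem eltL_psi_smul (z : Cfsg.Spor.Fi23) (x : Cos) :
    eltL • psi z • x = psi z • eltL • x := by
  rw [← mul_smul, psi_comm, mul_smul]

theorem eltL_twice (x : Cos) : eltL • eltL • x = x := by rw [← mul_smul, eltL_sq, one_smul]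

/-- The elements fixing the first root up to the first generator. -/
def subOne : Subgroup Cfsg.Spor.Fi23 where
  carrier := {z | psi z • root 1 = root 1 ∨ psi z • root 1 = eltL • root 1}
  one_mem' := Or.inl (by rw [map_one, one_smul])
  mul_mem' := by
    rintro a b ha hb
    simp only [Set.mem_ofPred_eq, map_mul, mul_smul] at ha hb ⊢
    rcases hb with hb | hb <;> rw [hb]
    · exact ha
    · rw [← eltL_psi_smul]
      rcases ha with ha | ha <;> rw [ha]
      · exact Or.inr rfl
      · exact Or.inl (eltL_twice _)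
  inv_mem' := by
    intro a ha
    simp only [Set.mem_ofPred_eq, map_inv] at ha ⊢
    rcases ha with ha | ha
    · exact Or.inl (by rw [inv_smul_eq_iff, ha])
    · refine Or.inr ?_
      rw [inv_smul_eq_iff, ← eltL_psi_smul, ha, eltL_twice]

theorem subOne_of_word {w : List ℕ} (hl : hLetters w = true)
    (hw : act ftGen w • root 1 = root 1) : act Fi23P.fiGen (projW w) ∈ subOne := by
  rw [act_eq_psi (hLetters_spec hl), pow_eltL, mul_smul] at hw
  rcases Nat.mod_two_eq_zero_or_one w.length with e | e <;> rw [e] at hw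
  · left; simpa using hw
  · right
    rw [pow_one, ← eltL_psi_smul] at hw
    rw [← hw, eltL_twice, hw]

/-- Renumbering away from the first generator of the smaller group. -/
def orthoMap (k : ℕ) : ℕ := if Nat.beq k 0 then 1 else k

theorem orthoMap_lt {k : ℕ} (hk : k < 10) : orthoMap k < 10 := by
  rw [orthoMap]; split_ifs <;> omega

/-- The orthogonal subgroup. -/
noncomputable def subK : Subgroup Cfsg.Spor.Fi23 :=
  genGrp ((List.range 10).map fun k => [orthoMap k]) Fi23P.fiGen

theorem gen_subK (k : ℕ) (hk : k < 10) : Fi23P.fiGen (orthoMap k) ∈ subK :=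
  Subgroup.subset_closure
    ⟨[orthoMap k], List.mem_map.2 ⟨k, List.mem_range.2 hk, rfl⟩, by simp [act_cons, act_nil]⟩

/-- The generators in it. -/
noncomputable def genK (k : ℕ) : subK :=
  if hk : k < 10 then ⟨Fi23P.fiGen (orthoMap k), gen_subK k hk⟩ else 1

/-- The table of the orthogonal subgroup. -/
noncomputable def tabK : Fast.Tab where
  ng := 10
  n := 31671
  img g i := Fi23P.fimg (orthoMap g) i

/-- Its action. -/
noncomputable def phiK : subK →* Equiv.Perm (Fin tabK.n) := Fi23P.phi.comp subK.subtype

theorem realisedK : Fast.Realised genK tabK phiK where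
  lt g i hg hi := Fi23P.realised.lt (orthoMap g) i (orthoMap_lt hg) hi
  app g hg i := by
    have hg' : g < 10 := hg
    show ((Fi23P.phi (genK g).1 i : Fin Fi23P.tab.n) : ℕ) = _
    rw [show (genK g).1 = Fi23P.fiGen (orthoMap g) by rw [genK, dif_pos hg']]
    exact Fi23P.realised.app (orthoMap g) (orthoMap_lt hg') i

theorem ortho_levels : Fast.levelsOk tabK [] levelsOrtho = true ∧
    (levelsOrtho.map fun l => l.pts.length).prod = 9904359628800 := by
  decide +kernel

theorem subK_card : 9904359628800 ≤ Nat.card subK := by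
  haveI := Fi23P.card_fi.1
  have h := Fast.card_lower realisedK ortho_levels.1
  rw [Fast.fixSub_nil, Subgroup.card_top, ortho_levels.2] at h
  exact le_trans (Nat.le_mul_of_pos_right _ (Fast.fixSub_card_pos _)) h

/-- The orbit bits are kept by the generators. -/
noncomputable def bitsBlock (b : ℕ) : Bool :=
  loop (fun i => !(Nat.blt i 31671) || !(orbBits.testBit i) ||
    (List.range 10).all fun g => orbBits.testBit (Fi23P.fimg (orthoMap g) i)) (1000 * b) 1000

theorem bits_blocks : ((List.range 32).all bitsBlock) = true := by decide +kernel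

theorem bits_invariant {z : Cfsg.Spor.Fi23} (hz : z ∈ subK) :
    ∀ i : Fin Fi23P.tab.n, orbBits.testBit i.val = true →
      orbBits.testBit (Fi23P.phi z i).val = true := by
  haveI := Fi23P.card_fi.1
  induction hz using Subgroup.closure_induction with
  | mem s hs =>
    obtain ⟨w, hw, rfl⟩ := hs
    obtain ⟨k, hk, rfl⟩ := List.mem_map.1 hw
    rw [List.mem_range] at hk
    intro i hi
    rw [Fi23P.realised.act_apply (fun g hg => by
      rw [List.mem_singleton.1 hg]; exact orthoMap_lt hk) i]
    have hi2 : i.val < 31671 := i.isLt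
    have h := loop_spec _ _ (List.all_eq_true.1 bits_blocks (i.val / 1000)
      (List.mem_range.2 (by omega))) (Nat.mod_lt i.val (by norm_num : 1000 > 0))
    rw [Nat.div_add_mod, Nat.blt_eq.mpr hi2, hi] at h
    simp only [Bool.not_true, Bool.false_or, List.all_eq_true, List.mem_range] at h
    exact h k hk
  | one => intro i hi; simpa using hi
  | mul a b _ _ ha hb => intro i hi; rw [map_mul, Equiv.Perm.mul_apply]; exact ha _ (hb i hi)
  | inv a _ ha =>
    intro i hi
    have hp : ∀ m : ℕ, orbBits.testBit ((Fi23P.phi a ^ m) i).val = true := by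
      intro m
      induction m with
      | zero => simpa using hi
      | succ m ih => rw [pow_succ', Equiv.Perm.mul_apply]; exact ha _ ih
    have h1 := hp (orderOf (Fi23P.phi a) - 1)
    have e : Fi23P.phi a ^ (orderOf (Fi23P.phi a) - 1) = Fi23P.phi a⁻¹ := by
      rw [map_inv]
      refine eq_inv_of_mul_eq_one_left ?_
      rw [← pow_succ, Nat.sub_add_cancel (orderOf_pos _), pow_orderOf_eq_one]
    rwa [e] at h1

/-- The word of the new element in the smaller group. -/
def triFi : List ℕ := projW wordTri

theorem tri_moves : Nat.blt 0 31671 = true ∧ orbBits.testBit 0 = true ∧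
    orbBits.testBit (Fi23P.tab.walk 0 triFi) = false ∧
    orbBits.testBit (Fi23P.tab.walk 0 (triFi ++ [2] ++ triFi.reverse)) = false ∧
    triFi.all (fun g => Nat.blt g 10) = true ∧ hLetters wordTri = true := by
  decide +kernel

theorem not_subK {w : List ℕ} (hw : ∀ g ∈ w, g < 10)
    (h : orbBits.testBit (Fi23P.tab.walk 0 w) = false) : act Fi23P.fiGen w ∉ subK := by
  intro hm
  have h' := bits_invariant hm ⟨0, Fi23P.zero_lt⟩ tri_moves.2.1
  rw [Fi23P.realised.act_apply hw] at h'
  exact Bool.noConfusion (h.symm.trans h')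

theorem subK_le : subK ≤ subOne := by
  refine (Subgroup.closure_le _).2 ?_
  rintro _ ⟨w, hw, rfl⟩
  obtain ⟨k, hk, rfl⟩ := List.mem_map.1 hw
  rw [List.mem_range] at hk
  have hk1 : 1 ≤ orthoMap k := by
    rcases Nat.eq_zero_or_pos k with rfl | h
    · decide
    · rw [orthoMap]; split_ifs <;> omega
  have hk2 := orthoMap_lt hk
  have hl : hLetters [orthoMap k + 2] = true := by
    simp only [hLetters, List.all_cons, List.all_nil, Bool.and_true, Bool.and_eq_true, Nat.blt_eq,
      Bool.not_eq_true']
    refine ⟨by omega, ?_⟩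
    rcases hh : Nat.beq (orthoMap k + 2) 1 with _ | _
    · rfl
    · exact absurd (Nat.beq_eq.mp hh) (by omega)
  have h := subOne_of_word hl (first_letters fun g hg => by
    rw [List.mem_singleton.1 hg]; omega)
  have e : projW [orthoMap k + 2] = [orthoMap k] := by
    have hb : Nat.beq (orthoMap k + 2) 0 = false := rfl
    simp [projW, hb]
  rwa [e] at h

theorem subOne_card : 3 * Nat.card subK ≤ Nat.card subOne := by
  haveI := Fi23P.card_fi.1
  have hlt : ∀ g ∈ triFi, g < 10 := fun g hg =>
    Nat.blt_eq.mp (List.all_eq_true.1 tri_moves.2.2.2.2.1 g hg)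
  set t := act Fi23P.fiGen triFi with ht
  set c := Fi23P.fiGen 2 with hc
  have htS : t ∈ subOne := subOne_of_word tri_moves.2.2.2.2.2 tri_fix
  have hcK : c ∈ subK := gen_subK 2 (by norm_num)
  have h1 : t ∉ subK := not_subK hlt tri_moves.2.2.1
  have h2 : act Fi23P.fiGen (triFi ++ [2] ++ triFi.reverse) = t⁻¹ * c * t := by
    rw [act_append, act_append, act_cons, act_nil, one_mul,
      act_reverse (ng := 10) Fi23P.fiGen_sq hlt, mul_assoc]
  have h3 : t⁻¹ * c * t ∉ subK := h2 ▸ not_subK (fun g hg => by
    simp only [List.mem_append, List.mem_cons, List.not_mem_nil, or_false, List.mem_reverse] at hg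
    rcases hg with (hg | rfl) | hg
    exacts [hlt g hg, by norm_num, hlt g hg]) tri_moves.2.2.2.1
  let F : Fin 3 × subK → subOne := fun p =>
    ⟨![1, t, c * t] p.1 * p.2.1, Subgroup.mul_mem _ (by
      have := p.1.isLt
      rcases p with ⟨i, z⟩
      fin_cases i
      · exact Subgroup.one_mem _
      · exact htS
      · exact Subgroup.mul_mem _ (subK_le hcK) htS) (subK_le p.2.2)⟩
  have hsame : ∀ {a b : Cfsg.Spor.Fi23} {y z : subK}, a * y.1 = b * z.1 → b⁻¹ * a ∈ subK := by
    intro a b y z e
    have : b⁻¹ * a = z.1 * y.1⁻¹ := by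
      calc b⁻¹ * a = b⁻¹ * (a * y.1) * y.1⁻¹ := by group
        _ = z.1 * y.1⁻¹ := by rw [e]; group
    rw [this]
    exact Subgroup.mul_mem _ z.2 (Subgroup.inv_mem _ y.2)
  have n01 : (t⁻¹ * 1 : Cfsg.Spor.Fi23) ∉ subK := by rw [mul_one, Subgroup.inv_mem_iff]; exact h1
  have n02 : ((c * t)⁻¹ * 1 : Cfsg.Spor.Fi23) ∉ subK := by
    rw [mul_one, Subgroup.inv_mem_iff]
    exact fun h => h1 ((Subgroup.mul_mem_cancel_left _ hcK).1 h)
  have n12 : ((c * t)⁻¹ * t : Cfsg.Spor.Fi23) ∉ subK := by
    intro h
    refine h3 ?_
    have e : t⁻¹ * c * t = ((c * t)⁻¹ * t)⁻¹⁻¹ * 1 * 1 := by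
      rw [inv_inv, mul_one, mul_one, mul_inv_rev,
        inv_eq_of_mul_eq_one_right (Fi23P.fiGen_sq 2 (by norm_num))]
    rw [e, inv_inv, mul_one, mul_one]
    exact h
  have hF : Function.Injective F := by
    rintro ⟨i, y⟩ ⟨j, z⟩ e
    have e1 : ![1, t, c * t] i * y.1 = ![1, t, c * t] j * z.1 := congrArg Subtype.val e
    have hij : i = j := by
      by_contra hne
      fin_cases i <;> fin_cases j
      all_goals first
        | exact hne rfl
        | exact n01 (hsame e1)
        | exact n01 (hsame e1.symm)
        | exact n02 (hsame e1)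
        | exact n02 (hsame e1.symm)
        | exact n12 (hsame e1)
        | exact n12 (hsame e1.symm)
    subst hij
    exact Prod.ext rfl (Subtype.ext (mul_left_cancel e1))
  have h := Nat.card_le_card_of_injective F hF
  rwa [Nat.card_prod, Nat.card_fin] at h

theorem subOne_index : subOne.index ≤ 137632 := by
  haveI := Fi23P.card_fi.1
  have h := subOne.card_mul_index
  rw [Fi23P.card_fi.2] at h
  have h1 := subOne_card
  have h2 := subK_card
  by_contra hlt
  have h3 : 29713078886400 * 137633 ≤ Nat.card subOne * subOne.index :=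
    Nat.mul_le_mul (by omega) (by omega)
  omega

end CfsgLib.Fi24P
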