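import Cfsg.Agent.Lib.Fi24P.PermDefs

/-!
# Kernel checks of the action on 306936 points, part 1
-/

set_option autoImplicit false
set_option maxRecDepth 100000

namespace CfsgLib.Fi24P

theorem block_chk16 : blockChk 16 = true := by decide +kernel

theorem block_chk17 : blockChk 17 = true := by decide +kernel

theorem block_chk18 : blockChk 18 = true := by decide +kernel

theorem block_chk19 : blockChk 19 = true := by decide +kernel

theorem block_chk20 : blockChk 20 = true := by decide +kernel

theorem block_chk21 : blockChk 21 = true := by decide +kernel

theorem block_chk22 : blockChk 22 = true := by decide +kernel

theorem block_chk23 : blockChk 23 = true := by decide +kernel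

theorem block_chk24 : blockChk 24 = true := by decide +kernel

theorem block_chk25 : blockChk 25 = true := by decide +kernel

theorem block_chk26 : blockChk 26 = true := by decide +kernel

theorem block_chk27 : blockChk 27 = true := by decide +kernel

theorem block_chk28 : blockChk 28 = true := by decide +kernel

theorem block_chk29 : blockChk 29 = true := by decide +kernel

theorem block_chk30 : blockChk 30 = true := by decide +kernel

theorem block_chk31 : blockChk 31 = true := by decide +kernel

end CfsgLib.Fi24P
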