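import Cfsg.Agent.Lib.Fi24P.PermDefs

/-!
# Kernel checks of the action on 306936 points, part 10
-/

set_option autoImplicit false
set_option maxRecDepth 100000

namespace CfsgLib.Fi24P

theorem block_chk160 : blockChk 160 = true := by decide +kernel

theorem block_chk161 : blockChk 161 = true := by decide +kernel

theorem block_chk162 : blockChk 162 = true := by decide +kernel

theorem block_chk163 : blockChk 163 = true := by decide +kernel

theorem block_chk164 : blockChk 164 = true := by decide +kernel

theorem block_chk165 : blockChk 165 = true := by decide +kernel

theorem block_chk166 : blockChk 166 = true := by decide +kernel

theorem block_chk167 : blockChk 167 = true := by decide +kernel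

theorem block_chk168 : blockChk 168 = true := by decide +kernel

theorem block_chk169 : blockChk 169 = true := by decide +kernel

theorem block_chk170 : blockChk 170 = true := by decide +kernel

theorem block_chk171 : blockChk 171 = true := by decide +kernel

theorem block_chk172 : blockChk 172 = true := by decide +kernel

theorem block_chk173 : blockChk 173 = true := by decide +kernel

theorem block_chk174 : blockChk 174 = true := by decide +kernel

theorem block_chk175 : blockChk 175 = true := by decide +kernel

end CfsgLib.Fi24P
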