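import Cfsg.Agent.Lib.Fi24P.PermDefs

/-!
# Kernel checks of the action on 306936 points, part 11
-/

set_option autoImplicit false
set_option maxRecDepth 100000

namespace CfsgLib.Fi24P

theorem block_chk176 : blockChk 176 = true := by decide +kernel

theorem block_chk177 : blockChk 177 = true := by decide +kernel

theorem block_chk178 : blockChk 178 = true := by decide +kernel

theorem block_chk179 : blockChk 179 = true := by decide +kernel

theorem block_chk180 : blockChk 180 = true := by decide +kernel

theorem block_chk181 : blockChk 181 = true := by decide +kernel

theorem block_chk182 : blockChk 182 = true := by decide +kernel

theorem block_chk183 : blockChk 183 = true := by decide +kernel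

theorem block_chk184 : blockChk 184 = true := by decide +kernel

theorem block_chk185 : blockChk 185 = true := by decide +kernel

theorem block_chk186 : blockChk 186 = true := by decide +kernel

theorem block_chk187 : blockChk 187 = true := by decide +kernel

theorem block_chk188 : blockChk 188 = true := by decide +kernel

theorem block_chk189 : blockChk 189 = true := by decide +kernel

theorem block_chk190 : blockChk 190 = true := by decide +kernel

theorem block_chk191 : blockChk 191 = true := by decide +kernel

end CfsgLib.Fi24P
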