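import Cfsg.Agent.Lib.Fi24P.PermDefs

/-!
# Kernel checks of the action on 306936 points, part 13
-/

set_option autoImplicit false
set_option maxRecDepth 100000

namespace CfsgLib.Fi24P

theorem block_chk208 : blockChk 208 = true := by decide +kernel

theorem block_chk209 : blockChk 209 = true := by decide +kernel

theorem block_chk210 : blockChk 210 = true := by decide +kernel

theorem block_chk211 : blockChk 211 = true := by decide +kernel

theorem block_chk212 : blockChk 212 = true := by decide +kernel

theorem block_chk213 : blockChk 213 = true := by decide +kernel

theorem block_chk214 : blockChk 214 = true := by decide +kernel

theorem block_chk215 : blockChk 215 = true := by decide +kernel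

theorem block_chk216 : blockChk 216 = true := by decide +kernel

theorem block_chk217 : blockChk 217 = true := by decide +kernel

theorem block_chk218 : blockChk 218 = true := by decide +kernel

theorem block_chk219 : blockChk 219 = true := by decide +kernel

theorem block_chk220 : blockChk 220 = true := by decide +kernel

theorem block_chk221 : blockChk 221 = true := by decide +kernel

theorem block_chk222 : blockChk 222 = true := by decide +kernel

theorem block_chk223 : blockChk 223 = true := by decide +kernel

end CfsgLib.Fi24P
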