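import Cfsg.Agent.Lib.Fi24P.PermDefs

/-!
# Kernel checks of the action on 306936 points, part 14
-/

set_option autoImplicit false
set_option maxRecDepth 100000

namespace CfsgLib.Fi24P

theorem block_chk224 : blockChk 224 = true := by decide +kernel

theorem block_chk225 : blockChk 225 = true := by decide +kernel

theorem block_chk226 : blockChk 226 = true := by decide +kernel

theorem block_chk227 : blockChk 227 = true := by decide +kernel

theorem block_chk228 : blockChk 228 = true := by decide +kernel

theorem block_chk229 : blockChk 229 = true := by decide +kernel

theorem block_chk230 : blockChk 230 = true := by decide +kernel

theorem block_chk231 : blockChk 231 = true := by decide +kernel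

theorem block_chk232 : blockChk 232 = true := by decide +kernel

theorem block_chk233 : blockChk 233 = true := by decide +kernel

theorem block_chk234 : blockChk 234 = true := by decide +kernel

theorem block_chk235 : blockChk 235 = true := by decide +kernel

theorem block_chk236 : blockChk 236 = true := by decide +kernel

theorem block_chk237 : blockChk 237 = true := by decide +kernel

theorem block_chk238 : blockChk 238 = true := by decide +kernel

theorem block_chk239 : blockChk 239 = true := by decide +kernel

end CfsgLib.Fi24P
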