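import Cfsg.Agent.Lib.Fi24P.PermDefs

/-!
# Kernel checks of the action on 306936 points, part 15
-/

set_option autoImplicit false
set_option maxRecDepth 100000

namespace CfsgLib.Fi24P

theorem block_chk240 : blockChk 240 = true := by decide +kernel

theorem block_chk241 : blockChk 241 = true := by decide +kernel

theorem block_chk242 : blockChk 242 = true := by decide +kernel

theorem block_chk243 : blockChk 243 = true := by decide +kernel

theorem block_chk244 : blockChk 244 = true := by decide +kernel

theorem block_chk245 : blockChk 245 = true := by decide +kernel

theorem block_chk246 : blockChk 246 = true := by decide +kernel

theorem block_chk247 : blockChk 247 = true := by decide +kernel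

theorem block_chk248 : blockChk 248 = true := by decide +kernel

theorem block_chk249 : blockChk 249 = true := by decide +kernel

theorem block_chk250 : blockChk 250 = true := by decide +kernel

theorem block_chk251 : blockChk 251 = true := by decide +kernel

theorem block_chk252 : blockChk 252 = true := by decide +kernel

theorem block_chk253 : blockChk 253 = true := by decide +kernel

theorem block_chk254 : blockChk 254 = true := by decide +kernel

theorem block_chk255 : blockChk 255 = true := by decide +kernel

end CfsgLib.Fi24P
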