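import Cfsg.Agent.Lib.Fi24P.PermDefs

/-!
# Kernel checks of the action on 306936 points, part 16
-/

set_option autoImplicit false
set_option maxRecDepth 100000

namespace CfsgLib.Fi24P

theorem block_chk256 : blockChk 256 = true := by decide +kernel

theorem block_chk257 : blockChk 257 = true := by decide +kernel

theorem block_chk258 : blockChk 258 = true := by decide +kernel

theorem block_chk259 : blockChk 259 = true := by decide +kernel

theorem block_chk260 : blockChk 260 = true := by decide +kernel

theorem block_chk261 : blockChk 261 = true := by decide +kernel

theorem block_chk262 : blockChk 262 = true := by decide +kernel

theorem block_chk263 : blockChk 263 = true := by decide +kernel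

theorem block_chk264 : blockChk 264 = true := by decide +kernel

theorem block_chk265 : blockChk 265 = true := by decide +kernel

theorem block_chk266 : blockChk 266 = true := by decide +kernel

theorem block_chk267 : blockChk 267 = true := by decide +kernel

theorem block_chk268 : blockChk 268 = true := by decide +kernel

theorem block_chk269 : blockChk 269 = true := by decide +kernel

theorem block_chk270 : blockChk 270 = true := by decide +kernel

theorem block_chk271 : blockChk 271 = true := by decide +kernel

end CfsgLib.Fi24P
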