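import Cfsg.Agent.Lib.Fi24P.PermDefs

/-!
# Kernel checks of the action on 306936 points, part 17
-/

set_option autoImplicit false
set_option maxRecDepth 100000

namespace CfsgLib.Fi24P

theorem block_chk272 : blockChk 272 = true := by decide +kernel

theorem block_chk273 : blockChk 273 = true := by decide +kernel

theorem block_chk274 : blockChk 274 = true := by decide +kernel

theorem block_chk275 : blockChk 275 = true := by decide +kernel

theorem block_chk276 : blockChk 276 = true := by decide +kernel

theorem block_chk277 : blockChk 277 = true := by decide +kernel

theorem block_chk278 : blockChk 278 = true := by decide +kernel

theorem block_chk279 : blockChk 279 = true := by decide +kernel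

theorem block_chk280 : blockChk 280 = true := by decide +kernel

theorem block_chk281 : blockChk 281 = true := by decide +kernel

theorem block_chk282 : blockChk 282 = true := by decide +kernel

theorem block_chk283 : blockChk 283 = true := by decide +kernel

theorem block_chk284 : blockChk 284 = true := by decide +kernel

theorem block_chk285 : blockChk 285 = true := by decide +kernel

theorem block_chk286 : blockChk 286 = true := by decide +kernel

theorem block_chk287 : blockChk 287 = true := by decide +kernel

end CfsgLib.Fi24P
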