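import Cfsg.Agent.Lib.Fi24P.PermDefs

/-!
# Kernel checks of the action on 306936 points, part 18
-/

set_option autoImplicit false
set_option maxRecDepth 100000

namespace CfsgLib.Fi24P

theorem block_chk288 : blockChk 288 = true := by decide +kernel

theorem block_chk289 : blockChk 289 = true := by decide +kernel

theorem block_chk290 : blockChk 290 = true := by decide +kernel

theorem block_chk291 : blockChk 291 = true := by decide +kernel

theorem block_chk292 : blockChk 292 = true := by decide +kernel

theorem block_chk293 : blockChk 293 = true := by decide +kernel

theorem block_chk294 : blockChk 294 = true := by decide +kernel

theorem block_chk295 : blockChk 295 = true := by decide +kernel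

theorem block_chk296 : blockChk 296 = true := by decide +kernel

theorem block_chk297 : blockChk 297 = true := by decide +kernel

theorem block_chk298 : blockChk 298 = true := by decide +kernel

theorem block_chk299 : blockChk 299 = true := by decide +kernel

theorem block_chk300 : blockChk 300 = true := by decide +kernel

theorem block_chk301 : blockChk 301 = true := by decide +kernel

theorem block_chk302 : blockChk 302 = true := by decide +kernel

theorem block_chk303 : blockChk 303 = true := by decide +kernel

end CfsgLib.Fi24P
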