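import Cfsg.Agent.Lib.Fi24P.PermDefs

/-!
# Kernel checks of the action on 306936 points, part 19
-/

set_option autoImplicit false
set_option maxRecDepth 100000

namespace CfsgLib.Fi24P

theorem block_chk304 : blockChk 304 = true := by decide +kernel

theorem block_chk305 : blockChk 305 = true := by decide +kernel

theorem block_chk306 : blockChk 306 = true := by decide +kernel

end CfsgLib.Fi24P
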