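import Cfsg.Agent.Lib.Fi24P.PermDefs

/-!
# Kernel checks of the action on 306936 points, part 2
-/

set_option autoImplicit false
set_option maxRecDepth 100000

namespace CfsgLib.Fi24P

theorem block_chk32 : blockChk 32 = true := by decide +kernel

theorem block_chk33 : blockChk 33 = true := by decide +kernel

theorem block_chk34 : blockChk 34 = true := by decide +kernel

theorem block_chk35 : blockChk 35 = true := by decide +kernel

theorem block_chk36 : blockChk 36 = true := by decide +kernel

theorem block_chk37 : blockChk 37 = true := by decide +kernel

theorem block_chk38 : blockChk 38 = true := by decide +kernel

theorem block_chk39 : blockChk 39 = true := by decide +kernel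

theorem block_chk40 : blockChk 40 = true := by decide +kernel

theorem block_chk41 : blockChk 41 = true := by decide +kernel

theorem block_chk42 : blockChk 42 = true := by decide +kernel

theorem block_chk43 : blockChk 43 = true := by decide +kernel

theorem block_chk44 : blockChk 44 = true := by decide +kernel

theorem block_chk45 : blockChk 45 = true := by decide +kernel

theorem block_chk46 : blockChk 46 = true := by decide +kernel

theorem block_chk47 : blockChk 47 = true := by decide +kernel

end CfsgLib.Fi24P
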