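import Cfsg.Agent.Lib.Fi24P.PermDefs

/-!
# Kernel checks of the action on 306936 points, part 3
-/

set_option autoImplicit false
set_option maxRecDepth 100000

namespace CfsgLib.Fi24P

theorem block_chk48 : blockChk 48 = true := by decide +kernel

theorem block_chk49 : blockChk 49 = true := by decide +kernel

theorem block_chk50 : blockChk 50 = true := by decide +kernel

theorem block_chk51 : blockChk 51 = true := by decide +kernel

theorem block_chk52 : blockChk 52 = true := by decide +kernel

theorem block_chk53 : blockChk 53 = true := by decide +kernel

theorem block_chk54 : blockChk 54 = true := by decide +kernel

theorem block_chk55 : blockChk 55 = true := by decide +kernel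

theorem block_chk56 : blockChk 56 = true := by decide +kernel

theorem block_chk57 : blockChk 57 = true := by decide +kernel

theorem block_chk58 : blockChk 58 = true := by decide +kernel

theorem block_chk59 : blockChk 59 = true := by decide +kernel

theorem block_chk60 : blockChk 60 = true := by decide +kernel

theorem block_chk61 : blockChk 61 = true := by decide +kernel

theorem block_chk62 : blockChk 62 = true := by decide +kernel

theorem block_chk63 : blockChk 63 = true := by decide +kernel

end CfsgLib.Fi24P
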