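import Cfsg.Agent.Lib.Fi24P.PermDefs

/-!
# Kernel checks of the action on 306936 points, part 4
-/

set_option autoImplicit false
set_option maxRecDepth 100000

namespace CfsgLib.Fi24P

theorem block_chk64 : blockChk 64 = true := by decide +kernel

theorem block_chk65 : blockChk 65 = true := by decide +kernel

theorem block_chk66 : blockChk 66 = true := by decide +kernel

theorem block_chk67 : blockChk 67 = true := by decide +kernel

theorem block_chk68 : blockChk 68 = true := by decide +kernel

theorem block_chk69 : blockChk 69 = true := by decide +kernel

theorem block_chk70 : blockChk 70 = true := by decide +kernel

theorem block_chk71 : blockChk 71 = true := by decide +kernel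

theorem block_chk72 : blockChk 72 = true := by decide +kernel

theorem block_chk73 : blockChk 73 = true := by decide +kernel

theorem block_chk74 : blockChk 74 = true := by decide +kernel

theorem block_chk75 : blockChk 75 = true := by decide +kernel

theorem block_chk76 : blockChk 76 = true := by decide +kernel

theorem block_chk77 : blockChk 77 = true := by decide +kernel

theorem block_chk78 : blockChk 78 = true := by decide +kernel

theorem block_chk79 : blockChk 79 = true := by decide +kernel

end CfsgLib.Fi24P
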