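import Cfsg.Agent.Lib.Fi24P.PermDefs

/-!
# Kernel checks of the action on 306936 points, part 5
-/

set_option autoImplicit false
set_option maxRecDepth 100000

namespace CfsgLib.Fi24P

theorem block_chk80 : blockChk 80 = true := by decide +kernel

theorem block_chk81 : blockChk 81 = true := by decide +kernel

theorem block_chk82 : blockChk 82 = true := by decide +kernel

theorem block_chk83 : blockChk 83 = true := by decide +kernel

theorem block_chk84 : blockChk 84 = true := by decide +kernel

theorem block_chk85 : blockChk 85 = true := by decide +kernel

theorem block_chk86 : blockChk 86 = true := by decide +kernel

theorem block_chk87 : blockChk 87 = true := by decide +kernel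

theorem block_chk88 : blockChk 88 = true := by decide +kernel

theorem block_chk89 : blockChk 89 = true := by decide +kernel

theorem block_chk90 : blockChk 90 = true := by decide +kernel

theorem block_chk91 : blockChk 91 = true := by decide +kernel

theorem block_chk92 : blockChk 92 = true := by decide +kernel

theorem block_chk93 : blockChk 93 = true := by decide +kernel

theorem block_chk94 : blockChk 94 = true := by decide +kernel

theorem block_chk95 : blockChk 95 = true := by decide +kernel

end CfsgLib.Fi24P
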