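import Cfsg.Agent.Lib.Fi24P.PermDefs

/-!
# Kernel checks of the action on 306936 points, part 6
-/

set_option autoImplicit false
set_option maxRecDepth 100000

namespace CfsgLib.Fi24P

theorem block_chk96 : blockChk 96 = true := by decide +kernel

theorem block_chk97 : blockChk 97 = true := by decide +kernel

theorem block_chk98 : blockChk 98 = true := by decide +kernel

theorem block_chk99 : blockChk 99 = true := by decide +kernel

theorem block_chk100 : blockChk 100 = true := by decide +kernel

theorem block_chk101 : blockChk 101 = true := by decide +kernel

theorem block_chk102 : blockChk 102 = true := by decide +kernel

theorem block_chk103 : blockChk 103 = true := by decide +kernel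

theorem block_chk104 : blockChk 104 = true := by decide +kernel

theorem block_chk105 : blockChk 105 = true := by decide +kernel

theorem block_chk106 : blockChk 106 = true := by decide +kernel

theorem block_chk107 : blockChk 107 = true := by decide +kernel

theorem block_chk108 : blockChk 108 = true := by decide +kernel

theorem block_chk109 : blockChk 109 = true := by decide +kernel

theorem block_chk110 : blockChk 110 = true := by decide +kernel

theorem block_chk111 : blockChk 111 = true := by decide +kernel

end CfsgLib.Fi24P
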