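import Cfsg.Agent.Lib.Fi24P.PermDefs

/-!
# Kernel checks of the action on 306936 points, part 7
-/

set_option autoImplicit false
set_option maxRecDepth 100000

namespace CfsgLib.Fi24P

theorem block_chk112 : blockChk 112 = true := by decide +kernel

theorem block_chk113 : blockChk 113 = true := by decide +kernel

theorem block_chk114 : blockChk 114 = true := by decide +kernel

theorem block_chk115 : blockChk 115 = true := by decide +kernel

theorem block_chk116 : blockChk 116 = true := by decide +kernel

theorem block_chk117 : blockChk 117 = true := by decide +kernel

theorem block_chk118 : blockChk 118 = true := by decide +kernel

theorem block_chk119 : blockChk 119 = true := by decide +kernel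

theorem block_chk120 : blockChk 120 = true := by decide +kernel

theorem block_chk121 : blockChk 121 = true := by decide +kernel

theorem block_chk122 : blockChk 122 = true := by decide +kernel

theorem block_chk123 : blockChk 123 = true := by decide +kernel

theorem block_chk124 : blockChk 124 = true := by decide +kernel

theorem block_chk125 : blockChk 125 = true := by decide +kernel

theorem block_chk126 : blockChk 126 = true := by decide +kernel

theorem block_chk127 : blockChk 127 = true := by decide +kernel

end CfsgLib.Fi24P
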