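import Cfsg.Agent.Lib.Fi24P.PermDefs

/-!
# Kernel checks of the action on 306936 points, part 8
-/

set_option autoImplicit false
set_option maxRecDepth 100000

namespace CfsgLib.Fi24P

theorem block_chk128 : blockChk 128 = true := by decide +kernel

theorem block_chk129 : blockChk 129 = true := by decide +kernel

theorem block_chk130 : blockChk 130 = true := by decide +kernel

theorem block_chk131 : blockChk 131 = true := by decide +kernel

theorem block_chk132 : blockChk 132 = true := by decide +kernel

theorem block_chk133 : blockChk 133 = true := by decide +kernel

theorem block_chk134 : blockChk 134 = true := by decide +kernel

theorem block_chk135 : blockChk 135 = true := by decide +kernel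

theorem block_chk136 : blockChk 136 = true := by decide +kernel

theorem block_chk137 : blockChk 137 = true := by decide +kernel

theorem block_chk138 : blockChk 138 = true := by decide +kernel

theorem block_chk139 : blockChk 139 = true := by decide +kernel

theorem block_chk140 : blockChk 140 = true := by decide +kernel

theorem block_chk141 : blockChk 141 = true := by decide +kernel

theorem block_chk142 : blockChk 142 = true := by decide +kernel

theorem block_chk143 : blockChk 143 = true := by decide +kernel

end CfsgLib.Fi24P
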