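import Cfsg.Agent.Lib.Fi24P.PermDefs

/-!
# Kernel checks of the action on 306936 points, part 9
-/

set_option autoImplicit false
set_option maxRecDepth 100000

namespace CfsgLib.Fi24P

theorem block_chk144 : blockChk 144 = true := by decide +kernel

theorem block_chk145 : blockChk 145 = true := by decide +kernel

theorem block_chk146 : blockChk 146 = true := by decide +kernel

theorem block_chk147 : blockChk 147 = true := by decide +kernel

theorem block_chk148 : blockChk 148 = true := by decide +kernel

theorem block_chk149 : blockChk 149 = true := by decide +kernel

theorem block_chk150 : blockChk 150 = true := by decide +kernel

theorem block_chk151 : blockChk 151 = true := by decide +kernel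

theorem block_chk152 : blockChk 152 = true := by decide +kernel

theorem block_chk153 : blockChk 153 = true := by decide +kernel

theorem block_chk154 : blockChk 154 = true := by decide +kernel

theorem block_chk155 : blockChk 155 = true := by decide +kernel

theorem block_chk156 : blockChk 156 = true := by decide +kernel

theorem block_chk157 : blockChk 157 = true := by decide +kernel

theorem block_chk158 : blockChk 158 = true := by decide +kernel

theorem block_chk159 : blockChk 159 = true := by decide +kernel

end CfsgLib.Fi24P
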