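import Cfsg.Agent.Lib.Fi24P.PermCheck0
import Cfsg.Agent.Lib.Fi24P.PermCheck1
import Cfsg.Agent.Lib.Fi24P.PermCheck2
import Cfsg.Agent.Lib.Fi24P.PermCheck3
import Cfsg.Agent.Lib.Fi24P.PermCheck4
import Cfsg.Agent.Lib.Fi24P.PermCheck5
import Cfsg.Agent.Lib.Fi24P.PermCheck6
import Cfsg.Agent.Lib.Fi24P.PermCheck7
import Cfsg.Agent.Lib.Fi24P.PermCheck8
import Cfsg.Agent.Lib.Fi24P.PermCheck9
import Cfsg.Agent.Lib.Fi24P.PermCheck10
import Cfsg.Agent.Lib.Fi24P.PermCheck11
import Cfsg.Agent.Lib.Fi24P.PermCheck12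
import Cfsg.Agent.Lib.Fi24P.PermCheck13
import Cfsg.Agent.Lib.Fi24P.PermCheck14
import Cfsg.Agent.Lib.Fi24P.PermCheck15
import Cfsg.Agent.Lib.Fi24P.PermCheck16
import Cfsg.Agent.Lib.Fi24P.PermCheck17
import Cfsg.Agent.Lib.Fi24P.PermCheck18
import Cfsg.Agent.Lib.Fi24P.PermCheck19

/-!
# All blocks
-/

set_option autoImplicit false
set_option maxRecDepth 100000

namespace CfsgLib.Fi24P

theorem blocks_part0 {b : ℕ} (h1 : 0 ≤ b) (h2 : b < 16) : blockChk b = true := by
  obtain rfl | rfl | rfl | rfl | rfl | rfl | rfl | rfl | rfl | rfl | rfl | rfl | rfl | rfl | rfl | rfl : b = 0 ∨ b = 1 ∨ b = 2 ∨ b = 3 ∨ b = 4 ∨ b = 5 ∨ b = 6 ∨ b = 7 ∨ b = 8 ∨ b = 9 ∨ b = 10 ∨ b = 11 ∨ b = 12 ∨ b = 13 ∨ b = 14 ∨ b = 15 := by omega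
  exacts [block_chk0, block_chk1, block_chk2, block_chk3, block_chk4, block_chk5, block_chk6, block_chk7, block_chk8, block_chk9, block_chk10, block_chk11, block_chk12, block_chk13, block_chk14, block_chk15]

theorem blocks_part1 {b : ℕ} (h1 : 16 ≤ b) (h2 : b < 32) : blockChk b = true := by
  obtain rfl | rfl | rfl | rfl | rfl | rfl | rfl | rfl | rfl | rfl | rfl | rfl | rfl | rfl | rfl | rfl : b = 16 ∨ b = 17 ∨ b = 18 ∨ b = 19 ∨ b = 20 ∨ b = 21 ∨ b = 22 ∨ b = 23 ∨ b = 24 ∨ b = 25 ∨ b = 26 ∨ b = 27 ∨ b = 28 ∨ b = 29 ∨ b = 30 ∨ b = 31 := by omega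
  exacts [block_chk16, block_chk17, block_chk18, block_chk19, block_chk20, block_chk21, block_chk22, block_chk23, block_chk24, block_chk25, block_chk26, block_chk27, block_chk28, block_chk29, block_chk30, block_chk31]

theorem blocks_part2 {b : ℕ} (h1 : 32 ≤ b) (h2 : b < 48) : blockChk b = true := by
  obtain rfl | rfl | rfl | rfl | rfl | rfl | rfl | rfl | rfl | rfl | rfl | rfl | rfl | rfl | rfl | rfl : b = 32 ∨ b = 33 ∨ b = 34 ∨ b = 35 ∨ b = 36 ∨ b = 37 ∨ b = 38 ∨ b = 39 ∨ b = 40 ∨ b = 41 ∨ b = 42 ∨ b = 43 ∨ b = 44 ∨ b = 45 ∨ b = 46 ∨ b = 47 := by omega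
  exacts [block_chk32, block_chk33, block_chk34, block_chk35, block_chk36, block_chk37, block_chk38, block_chk39, block_chk40, block_chk41, block_chk42, block_chk43, block_chk44, block_chk45, block_chk46, block_chk47]

theorem blocks_part3 {b : ℕ} (h1 : 48 ≤ b) (h2 : b < 64) : blockChk b = true := by
  obtain rfl | rfl | rfl | rfl | rfl | rfl | rfl | rfl | rfl | rfl | rfl | rfl | rfl | rfl | rfl | rfl : b = 48 ∨ b = 49 ∨ b = 50 ∨ b = 51 ∨ b = 52 ∨ b = 53 ∨ b = 54 ∨ b = 55 ∨ b = 56 ∨ b = 57 ∨ b = 58 ∨ b = 59 ∨ b = 60 ∨ b = 61 ∨ b = 62 ∨ b = 63 := by omega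
  exacts [block_chk48, block_chk49, block_chk50, block_chk51, block_chk52, block_chk53, block_chk54, block_chk55, block_chk56, block_chk57, block_chk58, block_chk59, block_chk60, block_chk61, block_chk62, block_chk63]

theorem blocks_part4 {b : ℕ} (h1 : 64 ≤ b) (h2 : b < 80) : blockChk b = true := by
  obtain rfl | rfl | rfl | rfl | rfl | rfl | rfl | rfl | rfl | rfl | rfl | rfl | rfl | rfl | rfl | rfl : b = 64 ∨ b = 65 ∨ b = 66 ∨ b = 67 ∨ b = 68 ∨ b = 69 ∨ b = 70 ∨ b = 71 ∨ b = 72 ∨ b = 73 ∨ b = 74 ∨ b = 75 ∨ b = 76 ∨ b = 77 ∨ b = 78 ∨ b = 79 := by omega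
  exacts [block_chk64, block_chk65, block_chk66, block_chk67, block_chk68, block_chk69, block_chk70, block_chk71, block_chk72, block_chk73, block_chk74, block_chk75, block_chk76, block_chk77, block_chk78, block_chk79]

theorem blocks_part5 {b : ℕ} (h1 : 80 ≤ b) (h2 : b < 96) : blockChk b = true := by
  obtain rfl | rfl | rfl | rfl | rfl | rfl | rfl | rfl | rfl | rfl | rfl | rfl | rfl | rfl | rfl | rfl : b = 80 ∨ b = 81 ∨ b = 82 ∨ b = 83 ∨ b = 84 ∨ b = 85 ∨ b = 86 ∨ b = 87 ∨ b = 88 ∨ b = 89 ∨ b = 90 ∨ b = 91 ∨ b = 92 ∨ b = 93 ∨ b = 94 ∨ b = 95 := by omega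
  exacts [block_chk80, block_chk81, block_chk82, block_chk83, block_chk84, block_chk85, block_chk86, block_chk87, block_chk88, block_chk89, block_chk90, block_chk91, block_chk92, block_chk93, block_chk94, block_chk95]

theorem blocks_part6 {b : ℕ} (h1 : 96 ≤ b) (h2 : b < 112) : blockChk b = true := by
  obtain rfl | rfl | rfl | rfl | rfl | rfl | rfl | rfl | rfl | rfl | rfl | rfl | rfl | rfl | rfl | rfl : b = 96 ∨ b = 97 ∨ b = 98 ∨ b = 99 ∨ b = 100 ∨ b = 101 ∨ b = 102 ∨ b = 103 ∨ b = 104 ∨ b = 105 ∨ b = 106 ∨ b = 107 ∨ b = 108 ∨ b = 109 ∨ b = 110 ∨ b = 111 := by omega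
  exacts [block_chk96, block_chk97, block_chk98, block_chk99, block_chk100, block_chk101, block_chk102, block_chk103, block_chk104, block_chk105, block_chk106, block_chk107, block_chk108, block_chk109, block_chk110, block_chk111]

theorem blocks_part7 {b : ℕ} (h1 : 112 ≤ b) (h2 : b < 128) : blockChk b = true := by
  obtain rfl | rfl | rfl | rfl | rfl | rfl | rfl | rfl | rfl | rfl | rfl | rfl | rfl | rfl | rfl | rfl : b = 112 ∨ b = 113 ∨ b = 114 ∨ b = 115 ∨ b = 116 ∨ b = 117 ∨ b = 118 ∨ b = 119 ∨ b = 120 ∨ b = 121 ∨ b = 122 ∨ b = 123 ∨ b = 124 ∨ b = 125 ∨ b = 126 ∨ b = 127 := by omega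
  exacts [block_chk112, block_chk113, block_chk114, block_chk115, block_chk116, block_chk117, block_chk118, block_chk119, block_chk120, block_chk121, block_chk122, block_chk123, block_chk124, block_chk125, block_chk126, block_chk127]

theorem blocks_part8 {b : ℕ} (h1 : 128 ≤ b) (h2 : b < 144) : blockChk b = true := by
  obtain rfl | rfl | rfl | rfl | rfl | rfl | rfl | rfl | rfl | rfl | rfl | rfl | rfl | rfl | rfl | rfl : b = 128 ∨ b = 129 ∨ b = 130 ∨ b = 131 ∨ b = 132 ∨ b = 133 ∨ b = 134 ∨ b = 135 ∨ b = 136 ∨ b = 137 ∨ b = 138 ∨ b = 139 ∨ b = 140 ∨ b = 141 ∨ b = 142 ∨ b = 143 := by omega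
  exacts [block_chk128, block_chk129, block_chk130, block_chk131, block_chk132, block_chk133, block_chk134, block_chk135, block_chk136, block_chk137, block_chk138, block_chk139, block_chk140, block_chk141, block_chk142, block_chk143]

theorem blocks_part9 {b : ℕ} (h1 : 144 ≤ b) (h2 : b < 160) : blockChk b = true := by
  obtain rfl | rfl | rfl | rfl | rfl | rfl | rfl | rfl | rfl | rfl | rfl | rfl | rfl | rfl | rfl | rfl : b = 144 ∨ b = 145 ∨ b = 146 ∨ b = 147 ∨ b = 148 ∨ b = 149 ∨ b = 150 ∨ b = 151 ∨ b = 152 ∨ b = 153 ∨ b = 154 ∨ b = 155 ∨ b = 156 ∨ b = 157 ∨ b = 158 ∨ b = 159 := by omega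
  exacts [block_chk144, block_chk145, block_chk146, block_chk147, block_chk148, block_chk149, block_chk150, block_chk151, block_chk152, block_chk153, block_chk154, block_chk155, block_chk156, block_chk157, block_chk158, block_chk159]

theorem blocks_part10 {b : ℕ} (h1 : 160 ≤ b) (h2 : b < 176) : blockChk b = true := by
  obtain rfl | rfl | rfl | rfl | rfl | rfl | rfl | rfl | rfl | rfl | rfl | rfl | rfl | rfl | rfl | rfl : b = 160 ∨ b = 161 ∨ b = 162 ∨ b = 163 ∨ b = 164 ∨ b = 165 ∨ b = 166 ∨ b = 167 ∨ b = 168 ∨ b = 169 ∨ b = 170 ∨ b = 171 ∨ b = 172 ∨ b = 173 ∨ b = 174 ∨ b = 175 := by omega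
  exacts [block_chk160, block_chk161, block_chk162, block_chk163, block_chk164, block_chk165, block_chk166, block_chk167, block_chk168, block_chk169, block_chk170, block_chk171, block_chk172, block_chk173, block_chk174, block_chk175]

theorem blocks_part11 {b : ℕ} (h1 : 176 ≤ b) (h2 : b < 192) : blockChk b = true := by
  obtain rfl | rfl | rfl | rfl | rfl | rfl | rfl | rfl | rfl | rfl | rfl | rfl | rfl | rfl | rfl | rfl : b = 176 ∨ b = 177 ∨ b = 178 ∨ b = 179 ∨ b = 180 ∨ b = 181 ∨ b = 182 ∨ b = 183 ∨ b = 184 ∨ b = 185 ∨ b = 186 ∨ b = 187 ∨ b = 188 ∨ b = 189 ∨ b = 190 ∨ b = 191 := by omega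
  exacts [block_chk176, block_chk177, block_chk178, block_chk179, block_chk180, block_chk181, block_chk182, block_chk183, block_chk184, block_chk185, block_chk186, block_chk187, block_chk188, block_chk189, block_chk190, block_chk191]

theorem blocks_part12 {b : ℕ} (h1 : 192 ≤ b) (h2 : b < 208) : blockChk b = true := by
  obtain rfl | rfl | rfl | rfl | rfl | rfl | rfl | rfl | rfl | rfl | rfl | rfl | rfl | rfl | rfl | rfl : b = 192 ∨ b = 193 ∨ b = 194 ∨ b = 195 ∨ b = 196 ∨ b = 197 ∨ b = 198 ∨ b = 199 ∨ b = 200 ∨ b = 201 ∨ b = 202 ∨ b = 203 ∨ b = 204 ∨ b = 205 ∨ b = 206 ∨ b = 207 := by omega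
  exacts [block_chk192, block_chk193, block_chk194, block_chk195, block_chk196, block_chk197, block_chk198, block_chk199, block_chk200, block_chk201, block_chk202, block_chk203, block_chk204, block_chk205, block_chk206, block_chk207]

theorem blocks_part13 {b : ℕ} (h1 : 208 ≤ b) (h2 : b < 224) : blockChk b = true := by
  obtain rfl | rfl | rfl | rfl | rfl | rfl | rfl | rfl | rfl | rfl | rfl | rfl | rfl | rfl | rfl | rfl : b = 208 ∨ b = 209 ∨ b = 210 ∨ b = 211 ∨ b = 212 ∨ b = 213 ∨ b = 214 ∨ b = 215 ∨ b = 216 ∨ b = 217 ∨ b = 218 ∨ b = 219 ∨ b = 220 ∨ b = 221 ∨ b = 222 ∨ b = 223 := by omega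
  exacts [block_chk208, block_chk209, block_chk210, block_chk211, block_chk212, block_chk213, block_chk214, block_chk215, block_chk216, block_chk217, block_chk218, block_chk219, block_chk220, block_chk221, block_chk222, block_chk223]

theorem blocks_part14 {b : ℕ} (h1 : 224 ≤ b) (h2 : b < 240) : blockChk b = true := by
  obtain rfl | rfl | rfl | rfl | rfl | rfl | rfl | rfl | rfl | rfl | rfl | rfl | rfl | rfl | rfl | rfl : b = 224 ∨ b = 225 ∨ b = 226 ∨ b = 227 ∨ b = 228 ∨ b = 229 ∨ b = 230 ∨ b = 231 ∨ b = 232 ∨ b = 233 ∨ b = 234 ∨ b = 235 ∨ b = 236 ∨ b = 237 ∨ b = 238 ∨ b = 239 := by omega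
  exacts [block_chk224, block_chk225, block_chk226, block_chk227, block_chk228, block_chk229, block_chk230, block_chk231, block_chk232, block_chk233, block_chk234, block_chk235, block_chk236, block_chk237, block_chk238, block_chk239]

theorem blocks_part15 {b : ℕ} (h1 : 240 ≤ b) (h2 : b < 256) : blockChk b = true := by
  obtain rfl | rfl | rfl | rfl | rfl | rfl | rfl | rfl | rfl | rfl | rfl | rfl | rfl | rfl | rfl | rfl : b = 240 ∨ b = 241 ∨ b = 242 ∨ b = 243 ∨ b = 244 ∨ b = 245 ∨ b = 246 ∨ b = 247 ∨ b = 248 ∨ b = 249 ∨ b = 250 ∨ b = 251 ∨ b = 252 ∨ b = 253 ∨ b = 254 ∨ b = 255 := by omega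
  exacts [block_chk240, block_chk241, block_chk242, block_chk243, block_chk244, block_chk245, block_chk246, block_chk247, block_chk248, block_chk249, block_chk250, block_chk251, block_chk252, block_chk253, block_chk254, block_chk255]

theorem blocks_part16 {b : ℕ} (h1 : 256 ≤ b) (h2 : b < 272) : blockChk b = true := by
  obtain rfl | rfl | rfl | rfl | rfl | rfl | rfl | rfl | rfl | rfl | rfl | rfl | rfl | rfl | rfl | rfl : b = 256 ∨ b = 257 ∨ b = 258 ∨ b = 259 ∨ b = 260 ∨ b = 261 ∨ b = 262 ∨ b = 263 ∨ b = 264 ∨ b = 265 ∨ b = 266 ∨ b = 267 ∨ b = 268 ∨ b = 269 ∨ b = 270 ∨ b = 271 := by omega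
  exacts [block_chk256, block_chk257, block_chk258, block_chk259, block_chk260, block_chk261, block_chk262, block_chk263, block_chk264, block_chk265, block_chk266, block_chk267, block_chk268, block_chk269, block_chk270, block_chk271]

theorem blocks_part17 {b : ℕ} (h1 : 272 ≤ b) (h2 : b < 288) : blockChk b = true := by
  obtain rfl | rfl | rfl | rfl | rfl | rfl | rfl | rfl | rfl | rfl | rfl | rfl | rfl | rfl | rfl | rfl : b = 272 ∨ b = 273 ∨ b = 274 ∨ b = 275 ∨ b = 276 ∨ b = 277 ∨ b = 278 ∨ b = 279 ∨ b = 280 ∨ b = 281 ∨ b = 282 ∨ b = 283 ∨ b = 284 ∨ b = 285 ∨ b = 286 ∨ b = 287 := by omega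
  exacts [block_chk272, block_chk273, block_chk274, block_chk275, block_chk276, block_chk277, block_chk278, block_chk279, block_chk280, block_chk281, block_chk282, block_chk283, block_chk284, block_chk285, block_chk286, block_chk287]

theorem blocks_part18 {b : ℕ} (h1 : 288 ≤ b) (h2 : b < 304) : blockChk b = true := by
  obtain rfl | rfl | rfl | rfl | rfl | rfl | rfl | rfl | rfl | rfl | rfl | rfl | rfl | rfl | rfl | rfl : b = 288 ∨ b = 289 ∨ b = 290 ∨ b = 291 ∨ b = 292 ∨ b = 293 ∨ b = 294 ∨ b = 295 ∨ b = 296 ∨ b = 297 ∨ b = 298 ∨ b = 299 ∨ b = 300 ∨ b = 301 ∨ b = 302 ∨ b = 303 := by omega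
  exacts [block_chk288, block_chk289, block_chk290, block_chk291, block_chk292, block_chk293, block_chk294, block_chk295, block_chk296, block_chk297, block_chk298, block_chk299, block_chk300, block_chk301, block_chk302, block_chk303]

theorem blocks_part19 {b : ℕ} (h1 : 304 ≤ b) (h2 : b < 307) : blockChk b = true := by
  obtain rfl | rfl | rfl : b = 304 ∨ b = 305 ∨ b = 306 := by omega
  exacts [block_chk304, block_chk305, block_chk306]

theorem blocks_all {b : ℕ} (hb : b < 307) : blockChk b = true := by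
  by_cases h0 : b < 16
  · exact blocks_part0 (Nat.zero_le b) h0
  by_cases h1 : b < 32
  · exact blocks_part1 (by omega) h1
  by_cases h2 : b < 48
  · exact blocks_part2 (by omega) h2
  by_cases h3 : b < 64
  · exact blocks_part3 (by omega) h3
  by_cases h4 : b < 80
  · exact blocks_part4 (by omega) h4
  by_cases h5 : b < 96
  · exact blocks_part5 (by omega) h5
  by_cases h6 : b < 112
  · exact blocks_part6 (by omega) h6
  by_cases h7 : b < 128
  · exact blocks_part7 (by omega) h7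
  by_cases h8 : b < 144
  · exact blocks_part8 (by omega) h8
  by_cases h9 : b < 160
  · exact blocks_part9 (by omega) h9
  by_cases h10 : b < 176
  · exact blocks_part10 (by omega) h10
  by_cases h11 : b < 192
  · exact blocks_part11 (by omega) h11
  by_cases h12 : b < 208
  · exact blocks_part12 (by omega) h12
  by_cases h13 : b < 224
  · exact blocks_part13 (by omega) h13
  by_cases h14 : b < 240
  · exact blocks_part14 (by omega) h14
  by_cases h15 : b < 256
  · exact blocks_part15 (by omega) h15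
  by_cases h16 : b < 272
  · exact blocks_part16 (by omega) h16
  by_cases h17 : b < 288
  · exact blocks_part17 (by omega) h17
  by_cases h18 : b < 304
  · exact blocks_part18 (by omega) h18
  exact blocks_part19 (by omega) (by omega)

end CfsgLib.Fi24P
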