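import Cfsg.Agent.Lib.Fi24P.PermDefs

/-!
# Kernel checks of the action on 306936 points, part 0
-/

set_option autoImplicit false
set_option maxRecDepth 100000

namespace CfsgLib.Fi24P

theorem block_chk0 : blockChk 0 = true := by decide +kernel

theorem block_chk1 : blockChk 1 = true := by decide +kernel

theorem block_chk2 : blockChk 2 = true := by decide +kernel

theorem block_chk3 : blockChk 3 = true := by decide +kernel

theorem block_chk4 : blockChk 4 = true := by decide +kernel

theorem block_chk5 : blockChk 5 = true := by decide +kernel

theorem block_chk6 : blockChk 6 = true := by decide +kernel

theorem block_chk7 : blockChk 7 = true := by decide +kernel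

theorem block_chk8 : blockChk 8 = true := by decide +kernel

theorem block_chk9 : blockChk 9 = true := by decide +kernel

theorem block_chk10 : blockChk 10 = true := by decide +kernel

theorem block_chk11 : blockChk 11 = true := by decide +kernel

theorem block_chk12 : blockChk 12 = true := by decide +kernel

theorem block_chk13 : blockChk 13 = true := by decide +kernel

theorem block_chk14 : blockChk 14 = true := by decide +kernel

theorem block_chk15 : blockChk 15 = true := by decide +kernel

end CfsgLib.Fi24P
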