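import Cfsg.Agent.Lib.Fi24P.PermDefs

/-!
# Kernel checks of the action on 306936 points, part 12
-/

set_option autoImplicit false
set_option maxRecDepth 100000

namespace CfsgLib.Fi24P

theorem block_chk192 : blockChk 192 = true := by decide +kernel

theorem block_chk193 : blockChk 193 = true := by decide +kernel

theorem block_chk194 : blockChk 194 = true := by decide +kernel

theorem block_chk195 : blockChk 195 = true := by decide +kernel

theorem block_chk196 : blockChk 196 = true := by decide +kernel

theorem block_chk197 : blockChk 197 = true := by decide +kernel

theorem block_chk198 : blockChk 198 = true := by decide +kernel

theorem block_chk199 : blockChk 199 = true := by decide +kernel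

theorem block_chk200 : blockChk 200 = true := by decide +kernel

theorem block_chk201 : blockChk 201 = true := by decide +kernel

theorem block_chk202 : blockChk 202 = true := by decide +kernel

theorem block_chk203 : blockChk 203 = true := by decide +kernel

theorem block_chk204 : blockChk 204 = true := by decide +kernel

theorem block_chk205 : blockChk 205 = true := by decide +kernel

theorem block_chk206 : blockChk 206 = true := by decide +kernel

theorem block_chk207 : blockChk 207 = true := by decide +kernel

end CfsgLib.Fi24P
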