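import Cfsg.Agent.Lib.Fi24P.Cover

/-!
# Roots of the double cosets and their stabilisers

The first root is moved by the second generator from the base coset, the other one is reached in
four steps. An orbit of 1080 points of the smaller group separates three cosets of the orthogonal
subgroup, which bounds the stabiliser of the first root from below.
-/

set_option autoImplicit false
set_option maxRecDepth 100000

namespace CfsgLib.Fi24P

open CfsgLib.PresCert Cfsg.Spor

/-- The generators other than the second. -/
def hList : List (List ℕ) := [[0], [2], [3], [4], [5], [6], [7], [8], [9], [10], [11]]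

/-- The subgroup generated by all generators but the second. -/
noncomputable def subgH : Subgroup Cfsg.Spor.Fi24 := genGrp hList ftGen

/-- The cosets. -/
abbrev Cos : Type := Cfsg.Spor.Fi24 ⧸ subgH

/-- The base coset. -/
noncomputable def base0 : Cos := ((1 : Cfsg.Spor.Fi24) : Cos)

/-- Words leading to the three roots. -/
def rootWord : ℕ → List ℕ
  | 1 => [1]
  | 2 => [1, 0, 2, 1] ++ wordMove
  | _ => []

/-- The roots. -/
noncomputable def root (R : ℕ) : Cos := act ftGen (rootWord R) • base0

/-- The coset of a state. -/
noncomputable def ptOf (st : ℕ × List ℕ) : Cos := act ftGen st.2 • root st.1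

theorem hLetters_mem {w : List ℕ} (h : hLetters w = true) : act ftGen w ∈ subgH := by
  refine act_mem fun g hg => ?_
  obtain ⟨h1, h2⟩ := hLetters_spec h g hg
  interval_cases g <;> first | exact absurd rfl h2 | decide

theorem base0_fix {w : List ℕ} (h : hLetters w = true) : act ftGen w • base0 = base0 := by
  rw [base0, MulAction.Quotient.smul_coe, smul_eq_mul, mul_one, QuotientGroup.eq, mul_one]
  exact inv_mem (hLetters_mem h)

theorem gen_fix_base0 {g : ℕ} (hg : g < 12) (h1 : g ≠ 1) : ftGen g • base0 = base0 := by
  have h : hLetters [g] = true := by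
    interval_cases g <;> first | exact absurd rfl h1 | decide
  simpa [act_cons, act_nil] using base0_fix h

theorem kLetters_spec {w : List ℕ} (h : kLetters w = true) : ∀ g ∈ w, 2 < g ∧ g < 12 := by
  intro g hg
  have := List.all_eq_true.1 h g hg
  simpa only [Bool.and_eq_true, Nat.blt_eq] using this

theorem second_comm {w : List ℕ} (h : ∀ g ∈ w, 2 < g ∧ g < 12) :
    ftGen 1 * act ftGen w = act ftGen w * ftGen 1 := by
  induction w with
  | nil => simp [act_nil]
  | cons g w ih =>
    obtain ⟨h1, h2⟩ := h g List.mem_cons_self
    have hc : ftGen 1 * ftGen g = ftGen g * ftGen 1 := gen_comm (by interval_cases g <;> decide)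
    rw [act_cons, ← mul_assoc, ih fun a ha => h a (List.mem_cons_of_mem _ ha), mul_assoc, hc,
      mul_assoc]

/-- The nine letters fix the first root. -/
theorem first_letters {w : List ℕ} (h : ∀ g ∈ w, 2 < g ∧ g < 12) :
    act ftGen w • root 1 = root 1 := by
  have hb : act ftGen w • base0 = base0 := base0_fix (by
    simp only [hLetters, List.all_eq_true, Bool.and_eq_true, Nat.blt_eq, Bool.not_eq_true']
    intro g hg
    obtain ⟨h1, h2⟩ := h g hg
    refine ⟨h2, ?_⟩
    interval_cases g <;> rfl)
  rw [root, rootWord, act_cons, act_nil, one_mul, ← mul_smul, ← second_comm h, mul_smul, hb]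

/-- The path to the other root before moving it. -/
def pathTwo : List ℕ := [1, 0, 2, 1]

/-- The other root before moving it. -/
noncomputable def preRoot : Cos := act ftGen pathTwo • base0

theorem ident_checks : (identEight.all fun p => hLetters p.1 &&
    sameEight (pathTwo ++ p.1 ++ pathTwo.reverse) p.2 && hLetters p.2) = true := by
  decide +kernel

theorem ident_fix {y v : List ℕ} (h : (y, v) ∈ identEight) : act ftGen y • preRoot = preRoot := by
  have h' := List.all_eq_true.1 ident_checks _ h
  simp only [Bool.and_eq_true] at h'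
  obtain ⟨⟨-, he⟩, hv⟩ := h'
  have e := eq_of_eight he
  rw [act_append, act_append, act_reverse (ng := 12) ftGen_sq (by decide)] at e
  have e2 := base0_fix hv
  rw [← e, mul_smul, inv_smul_eq_iff, mul_smul] at e2
  exact e2

theorem comm_fix {g : ℕ} (hg : g = 8 ∨ g = 9 ∨ g = 11) : ftGen g • preRoot = preRoot := by
  have hc : ∀ a ∈ pathTwo, ftGen a * ftGen g = ftGen g * ftGen a := by
    intro a ha
    simp only [pathTwo, List.mem_cons, List.not_mem_nil, or_false] at ha
    rcases hg with rfl | rfl | rfl <;> rcases ha with rfl | rfl | rfl | rfl <;>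
      exact gen_comm (by decide)
  have hb : ftGen g • base0 = base0 :=
    gen_fix_base0 (by rcases hg with rfl | rfl | rfl <;> norm_num)
      (by rcases hg with rfl | rfl | rfl <;> norm_num)
  have he : Commute (act ftGen pathTwo) (ftGen g) := by
    simp only [pathTwo, act_cons, act_nil, one_mul]
    exact (((show Commute (ftGen 1) (ftGen g) from hc 1 (by decide)).mul_left
      (show Commute (ftGen 2) (ftGen g) from hc 2 (by decide))).mul_left
      (show Commute (ftGen 0) (ftGen g) from hc 0 (by decide))).mul_left
      (show Commute (ftGen 1) (ftGen g) from hc 1 (by decide))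
  rw [preRoot, ← mul_smul, ← he.eq, mul_smul, hb]

theorem fixWords_fix : ∀ w ∈ fixWords, act ftGen w • preRoot = preRoot := by
  intro w hw
  have h : fixWords.all (fun w => w == [8] || w == [9] || w == [11] ||
      (identEight.map Prod.fst).contains w) = true := by decide +kernel
  have h' := List.all_eq_true.1 h w hw
  simp only [Bool.or_eq_true, beq_iff_eq, List.contains_iff_mem, List.mem_map] at h'
  rcases h' with ((h' | h') | h') | ⟨⟨y, v⟩, hm, rfl⟩
  · subst h'; simpa [act_cons, act_nil] using comm_fix (Or.inl rfl)
  · subst h'; simpa [act_cons, act_nil] using comm_fix (Or.inr (Or.inl rfl))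
  · subst h'; simpa [act_cons, act_nil] using comm_fix (Or.inr (Or.inr rfl))
  · exact ident_fix hm

theorem witWord_fix {S : List (List ℕ)} {x : Cos} (hS : ∀ w ∈ S, act ftGen w • x = x) :
    ∀ v : List ℕ, act ftGen (witWord S v) • x = x
  | [] => by simp [witWord, act_nil]
  | k :: v => by
    have e : witWord S (k :: v) = S.getD k [] ++ witWord S v := by simp [witWord]
    rw [e, act_append, mul_smul]
    have h1 : act ftGen (S.getD k []) • x = x := by
      by_cases hk : k < S.length
      · rw [List.getD_eq_getElem _ _ hk]; exact hS _ (List.getElem_mem hk)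
      · rw [List.getD_eq_default _ _ (Nat.le_of_not_lt hk), act_nil, one_smul]
    rw [h1, witWord_fix hS v]

theorem conj_checks : (conjData.all fun p =>
    sameElt (wordMove ++ [p.1] ++ wordMove.reverse) (witWord fixWords p.2)) = true ∧
    conjData.map Prod.fst = [2, 3, 4, 5, 6, 7, 8, 10, 11] ∧
    hLetters wordMove = true := by
  decide +kernel

theorem move_lt : ∀ g ∈ wordMove, g < 12 := fun g hg => (hLetters_spec conj_checks.2.2 g hg).1

theorem root_two : root 2 = act ftGen wordMove • preRoot := by
  rw [root, rootWord, act_append, mul_smul]; rfl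

theorem standard_fix {y : ℕ} (hy : y ∈ ([0, 2, 3, 4, 5, 6, 7, 8, 10, 11] : List ℕ)) :
    ftGen y • root 2 = root 2 := by
  have key : ∀ {y : ℕ} {v : List ℕ}, (y, v) ∈ conjData → ftGen y • root 2 = root 2 := by
    intro y v hm
    have e := eq_of_sameElt (List.all_eq_true.1 conj_checks.1 _ hm)
    rw [act_append, act_append, act_cons, act_nil, one_mul,
      act_reverse (ng := 12) ftGen_sq move_lt] at e
    have e2 := witWord_fix fixWords_fix v
    rw [← e, mul_smul, inv_smul_eq_iff, mul_smul] at e2
    rw [root_two]
    exact e2
  by_cases h0 : y = 0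
  · subst h0
    have hl : eltL • preRoot = preRoot := by
      simpa [act_cons, act_nil] using fixWords_fix [0] (by decide +kernel)
    rw [root_two, ← mul_smul, eltL_comm_act (hLetters_spec conj_checks.2.2), mul_smul, hl]
  · have : y ∈ conjData.map Prod.fst := by
      rw [conj_checks.2.1]
      simp only [List.mem_cons, List.not_mem_nil, or_false] at hy ⊢
      omega
    obtain ⟨⟨a, v⟩, hm, rfl⟩ := List.mem_map.1 this
    exact key hm

theorem psi_fix_two {g : Cfsg.Spor.Fi23} (hg : g ∈ Fi23P.subH) : psi g • root 2 = root 2 := by
  have hle : Fi23P.subH ≤ (MulAction.stabilizer Cfsg.Spor.Fi24 (root 2)).comap psi := by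
    refine (Subgroup.closure_le _).2 ?_
    rintro _ ⟨w, hw, rfl⟩
    simp only [Fi23P.sH, List.mem_cons, List.not_mem_nil, or_false] at hw
    have key : ∀ k < 10, k + 2 ∈ ([0, 2, 3, 4, 5, 6, 7, 8, 10, 11] : List ℕ) →
        act Fi23P.fiGen [k] ∈ (MulAction.stabilizer Cfsg.Spor.Fi24 (root 2)).comap psi := by
      intro k hk hm
      rw [Subgroup.mem_comap, MulAction.mem_stabilizer_iff, act_cons, act_nil, one_mul, psi_gen hk,
        smallGen, mul_smul, standard_fix (y := 0) (by decide), standard_fix hm]
    rcases hw with rfl | rfl | rfl | rfl | rfl | rfl | rfl | rfl | rfl <;>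
      exact key _ (by norm_num) (by decide)
  exact hle hg

/-- Words agreeing on the first point of the smaller action agree on the other root. -/
theorem second_eq {u v : List ℕ} (hu : hLetters u = true) (hv : hLetters v = true)
    (h : Fi23P.tab.walk 0 (projW u) = Fi23P.tab.walk 0 (projW v)) :
    act ftGen u • root 2 = act ftGen v • root 2 := by
  have hl : ∀ m : ℕ, eltL ^ m • root 2 = root 2 := by
    intro m
    induction m with
    | zero => rw [pow_zero, one_smul]
    | succ m ih => rw [pow_succ, mul_smul, standard_fix (y := 0) (by decide), ih]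
  rw [act_eq_psi (hLetters_spec hu), act_eq_psi (hLetters_spec hv), mul_smul, mul_smul, hl, hl]
  set a := act Fi23P.fiGen (projW u)
  set b := act Fi23P.fiGen (projW v)
  have hlt : ∀ {w : List ℕ}, hLetters w = true → ∀ g ∈ projW w, g < Fi23P.tab.ng := by
    intro w hw g hg
    simp only [projW, List.mem_map, List.mem_filter] at hg
    obtain ⟨k, ⟨hk, -⟩, rfl⟩ := hg
    have := (hLetters_spec hw k hk).1
    show k - 2 < 10
    omega
  have hmem : b⁻¹ * a ∈ Fi23P.subH := by
    rw [Fi23P.subH_eq]
    intro i hi
    rw [map_mul, Equiv.Perm.mul_apply, map_inv, Equiv.Perm.inv_def, Equiv.symm_apply_eq]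
    refine Fin.ext ?_
    rw [Fi23P.realised.act_apply (hlt hu), Fi23P.realised.act_apply (hlt hv),
      List.mem_singleton.1 hi]
    exact h
  have := psi_fix_two hmem
  rw [map_mul, map_inv, mul_smul, inv_smul_eq_iff] at this
  exact this

theorem eqState_sound {S : List (List ℕ)} (hS : ∀ w ∈ S, act ftGen w • root 1 = root 1)
    {R : ℕ} {h h2 v : List ℕ} (he : eqState S R h h2 v = true) :
    act ftGen h • root R = act ftGen h2 • root R := by
  match R with
  | 0 =>
    simp only [eqState, Bool.and_eq_true] at he
    have e : root 0 = base0 := by simp [root, rootWord, act_nil]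
    rw [e, base0_fix he.1, base0_fix he.2]
  | 1 =>
    rw [eq_of_sameElt he, act_append, mul_smul, witWord_fix hS]
  | 2 =>
    simp only [eqState, Bool.and_eq_true, Nat.beq_eq] at he
    exact second_eq he.1.1 he.1.2 he.2
  | R + 3 => simp [eqState] at he

end CfsgLib.Fi24P
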